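import Mathlib

/-!
A group with trivial-intersection Sylow 2-subgroups acting on an abelian 2-group: elementary facts.

Blueprint: `blueprint/S3186.md`, section 1.
-/

set_option autoImplicit false
set_option linter.unusedSectionVars false
set_option linter.style.haveILetI false

namespace CfsgLib.AbelianInt

open Subgroup

universe u v

variable {X : Type u} [Group X] {D : Type v} [CommGroup D] (ρ : X →* MulAut D)

/-- The commutator of an element of the module with an element of the group. -/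
def mv (x : X) : D →* D where
  toFun d := ρ x d * d⁻¹
  map_one' := by simp
  map_mul' a b := by rw [map_mul, mul_inv]; exact mul_mul_mul_comm _ _ _ _

/-- The fixed points of a subgroup. -/
def fixD (A : Subgroup X) : Subgroup D where
  carrier := {d | ∀ a ∈ A, ρ a d = d}
  one_mem' _ _ := map_one _
  mul_mem' hx hy a ha := by rw [map_mul, hx a ha, hy a ha]
  inv_mem' hx a ha := by rw [map_inv, hx a ha]

variable {ρ}

theorem mv_apply (x : X) (d : D) : mv ρ x d = ρ x d * d⁻¹ := rfl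

theorem apply_eq (x : X) (d : D) : ρ x d = d * mv ρ x d := by
  rw [mv_apply, mul_comm (ρ x d) d⁻¹, mul_inv_cancel_left]

theorem mv_eq_one {x : X} {d : D} : mv ρ x d = 1 ↔ ρ x d = d := mul_inv_eq_one

theorem mem_fixD {A : Subgroup X} {d : D} : d ∈ fixD ρ A ↔ ∀ a ∈ A, ρ a d = d := Iff.rfl

theorem fixD_anti {A B : Subgroup X} (h : A ≤ B) : fixD ρ B ≤ fixD ρ A := fun _ hd a ha => hd a (h ha)

theorem mv_mul (x y : X) (d : D) : mv ρ (x * y) d = mv ρ x d * mv ρ y d * mv ρ x (mv ρ y d) := by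
  rw [mv_apply (x * y), map_mul, MulAut.mul_apply, apply_eq y d, map_mul, apply_eq x d, apply_eq x (mv ρ y d)]
  calc d * mv ρ x d * (mv ρ y d * mv ρ x (mv ρ y d)) * d⁻¹
      = d * d⁻¹ * (mv ρ x d * mv ρ y d * mv ρ x (mv ρ y d)) := by
        simp only [mul_assoc, mul_comm, mul_left_comm]
    _ = mv ρ x d * mv ρ y d * mv ρ x (mv ρ y d) := by rw [mul_inv_cancel, one_mul]

theorem pow_apply_translate {x : X} {y c : D} (hy : ρ x y = y * c) (hc : ρ x c = c) (n : ℕ) :
    ρ (x ^ n) y = y * c ^ n := by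
  induction n with
  | zero => simp
  | succ n ih => rw [pow_succ', map_mul, MulAut.mul_apply, ih, map_mul, map_pow (ρ x), hc, hy, pow_succ', mul_assoc]

variable [Finite X] [Finite D]

/-- The situation: a faithful action on an abelian 2-group of a group whose Sylow 2-subgroups meet trivially in
pairs and are not normal. -/
structure TIAct (ρ : X →* MulAut D) : Prop where
  inj : Function.Injective ρ
  isTwo : ∀ d : D, ∃ n : ℕ, d ^ 2 ^ n = 1
  ti : ∀ P Q : Sylow 2 X, P ≠ Q → ∀ x ∈ (P : Subgroup X), x ∈ (Q : Subgroup X) → x = 1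
  nn : ∀ P : Sylow 2 X, ∃ Q : Sylow 2 X, Q ≠ P

/-- An element of the Sylow subgroup normalising another one is trivial. -/
theorem TIAct.semiregular (h : TIAct ρ) {P Q : Sylow 2 X} (hne : P ≠ Q) {p : X} (hp : p ∈ (P : Subgroup X))
    (hn : p ∈ normalizer ((Q : Subgroup X) : Set X)) : p = 1 := by
  haveI : Fact (Nat.Prime 2) := ⟨Nat.prime_two⟩
  have hp2 : IsPGroup 2 (zpowers p) := P.2.to_le (zpowers_le.mpr hp)
  exact h.ti P Q hne p hp ((Q.3 (hp2.to_sup_of_normal_right' Q.2 (zpowers_le.mpr hn)) le_sup_right).le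
    (mem_sup_left (mem_zpowers p)))

/-- An element moving every vector into the squares is trivial if it lies in a normal set of such. -/
theorem TIAct.eq_one_of_mod_sq (h : TIAct ρ) {x : X} (hx : ∀ d, ∃ e, mv ρ x d = e * e) : x = 1 := by
  haveI : Fact (Nat.Prime 2) := ⟨Nat.prime_two⟩
  let K : Subgroup X :=
    { carrier := {z | ∀ d, ∃ e, mv ρ z d = e * e}
      one_mem' := fun d => ⟨1, by rw [mv_eq_one.mpr (by simp), mul_one]⟩
      mul_mem' := fun {a b} ha hb d => by
        obtain ⟨e1, h1⟩ := ha d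
        obtain ⟨e2, h2⟩ := hb d
        obtain ⟨e3, h3⟩ := ha (mv ρ b d)
        exact ⟨e1 * e2 * e3, by rw [mv_mul, h3, h1, h2]; simp only [mul_assoc, mul_comm, mul_left_comm]⟩
      inv_mem' := fun {a} ha d => by
        obtain ⟨e, he⟩ := ha (ρ a⁻¹ d)
        refine ⟨e⁻¹, ?_⟩
        rw [mv_apply, ← MulAut.mul_apply, ← map_mul, mul_inv_cancel, map_one, MulAut.one_apply] at he
        rw [mv_apply, ← mul_inv, ← he, mul_inv, inv_inv, mul_comm] }
  haveI : K.Normal := ⟨fun z hz g d => by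
    obtain ⟨e, he⟩ := hz (ρ g⁻¹ d)
    refine ⟨ρ g e, ?_⟩
    rw [← map_mul, ← he, mv_apply, mv_apply, map_mul, map_mul, MulAut.mul_apply, MulAut.mul_apply, map_mul, map_inv,
      map_inv, MulAut.apply_inv_self]⟩
  have hK : IsPGroup 2 K := by
    rintro ⟨z, hz⟩
    have key : ∀ i : ℕ, ∀ d : D, ∃ e, mv ρ (z ^ 2 ^ i) d = e ^ 2 ^ (i + 1) := by
      intro i
      induction i with
      | zero => intro d; obtain ⟨e, he⟩ := hz d; exact ⟨e, by rw [pow_zero, pow_one, zero_add, pow_one, he, pow_two]⟩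
      | succ i ih =>
        intro d
        obtain ⟨e, he⟩ := ih d
        obtain ⟨f, hf⟩ := ih e
        refine ⟨e * f ^ 2 ^ i, ?_⟩
        rw [pow_succ, pow_mul, pow_two, mv_mul, he, map_pow, hf, ← pow_mul, mul_pow, ← pow_mul, ← pow_add,
          ← pow_add]
        congr 2 <;> ring
    have hexp : ∃ N : ℕ, ∀ d : D, d ^ 2 ^ N = 1 := by
      classical
      haveI := Fintype.ofFinite D
      choose n hn using h.isTwo
      refine ⟨Finset.univ.sup n, fun d => ?_⟩
      obtain ⟨m, hm⟩ := Nat.exists_eq_add_of_le (Finset.le_sup (f := n) (Finset.mem_univ d))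
      rw [hm, pow_add, pow_mul, hn, one_pow]
    obtain ⟨N, hN⟩ := hexp
    refine ⟨N, Subtype.ext (h.inj (MulEquiv.ext fun d => ?_))⟩
    obtain ⟨e, he⟩ := key N d
    rw [pow_succ, pow_mul, hN, one_pow, mv_eq_one] at he
    simpa using he
  obtain ⟨P, hP⟩ := hK.exists_le_sylow
  obtain ⟨Q, hQ⟩ := h.nn P
  obtain ⟨g, rfl⟩ := MulAction.exists_smul_eq X P Q
  refine h.ti _ P hQ x ?_ (hP hx)
  exact ⟨g⁻¹ * x * g, hP (by simpa using (inferInstance : K.Normal).conj_mem x hx g⁻¹), by simp [mul_assoc]⟩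

/-- Two involutions in different Sylow subgroups have a product of odd order. -/
theorem TIAct.odd_mul (h : TIAct ρ) {P Q : Sylow 2 X} (hne : P ≠ Q) {a b : X} (haP : a ∈ (P : Subgroup X))
    (hbQ : b ∈ (Q : Subgroup X)) (ha : a * a = 1) (hb : b * b = 1) (ha1 : a ≠ 1) (hb1 : b ≠ 1) :
    Odd (orderOf (a * b)) := by
  haveI : Fact (Nat.Prime 2) := ⟨Nat.prime_two⟩
  by_contra hodd
  rw [Nat.not_odd_iff_even] at hodd
  obtain ⟨k, hk⟩ := hodd
  set j := (a * b) ^ k with hj
  have hj2 : j * j = 1 := by rw [← pow_add, ← hk, pow_orderOf_eq_one]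
  have hkpos : 0 < k := by have := orderOf_pos (a * b); omega
  have hj1 : j ≠ 1 := fun e => by
    have := Nat.le_of_dvd hkpos (orderOf_dvd_of_pow_eq_one e)
    omega
  have key : ∀ {R : Sylow 2 X} {c : X}, c ∈ (R : Subgroup X) → c * c = 1 → c ≠ 1 → c * (a * b) * c⁻¹ = (a * b)⁻¹ →
      j ∈ (R : Subgroup X) := by
    intro R c hc hc2 hc1 hcx
    have hcj : Commute c j := by
      show c * j = j * c
      have h1 : c * j * c⁻¹ = j⁻¹ := by rw [hj, ← conj_pow, hcx, inv_pow]
      rw [inv_eq_of_mul_eq_one_right hj2] at h1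
      exact mul_inv_eq_iff_eq_mul.mp h1
    have hp : IsPGroup 2 ↥(zpowers c ⊔ zpowers j) := by
      have h2 : ∀ {z : X}, z * z = 1 → IsPGroup 2 (zpowers z) := fun {z} hz => by
        obtain ⟨i, -, hi⟩ := (Nat.dvd_prime_pow Nat.prime_two).mp
          (orderOf_dvd_of_pow_eq_one (show z ^ 2 ^ 1 = 1 by rw [pow_one, pow_two, hz]))
        exact IsPGroup.of_card (n := i) (by rw [Nat.card_zpowers, hi])
      refine (h2 hc2).to_sup_of_normal_right' (h2 hj2) (zpowers_le.mpr (mem_normalizer_iff.mpr fun y => ?_))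
      constructor
      · rintro ⟨i, rfl⟩
        refine ⟨i, ?_⟩
        show j ^ i = c * j ^ i * c⁻¹
        rw [(hcj.zpow_right i).eq, mul_inv_cancel_right]
      · rintro ⟨i, hi⟩
        refine ⟨i, ?_⟩
        show j ^ i = y
        have hi' : j ^ i = c * y * c⁻¹ := hi
        have := congrArg (fun z => c⁻¹ * z * c) hi'
        simp only [mul_assoc, inv_mul_cancel, mul_one, inv_mul_cancel_left] at this
        rw [(hcj.zpow_right i).symm.eq, inv_mul_cancel_left] at this
        exact this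
    obtain ⟨R', hR'⟩ := hp.exists_le_sylow
    have : R' = R := by_contra fun hne' => hc1 (h.ti R' R hne' c (hR' (mem_sup_left (mem_zpowers c))) hc)
    exact this ▸ hR' (mem_sup_right (mem_zpowers j))
  refine hj1 (h.ti P Q hne j (key haP ha ha1 ?_) (key hbQ hb hb1 ?_))
  · rw [mul_inv_rev, inv_eq_of_mul_eq_one_right ha, inv_eq_of_mul_eq_one_right hb,
      show a * (a * b) * a = a * a * (b * a) by group, ha, one_mul]
  · rw [mul_inv_rev, inv_eq_of_mul_eq_one_right ha, inv_eq_of_mul_eq_one_right hb,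
      show b * (a * b) * b = b * a * (b * b) by group, hb, mul_one]

/-- Such involutions are conjugate in the dihedral group they generate. -/
theorem TIAct.exists_conj (h : TIAct ρ) {P Q : Sylow 2 X} (hne : P ≠ Q) {a b : X} (haP : a ∈ (P : Subgroup X))
    (hbQ : b ∈ (Q : Subgroup X)) (ha : a * a = 1) (hb : b * b = 1) (ha1 : a ≠ 1) (hb1 : b ≠ 1) :
    ∃ k ∈ closure ({a, b} : Set X), k * b * k⁻¹ = a := by
  obtain ⟨i, hi⟩ := h.odd_mul hne haP hbQ ha hb ha1 hb1
  set x := a * b with hx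
  refine ⟨x ^ (i + 1), pow_mem (mul_mem (subset_closure (by simp)) (subset_closure (by simp))) _, ?_⟩
  have hbx : ∀ n : ℕ, b * (x ^ n)⁻¹ = x ^ n * b := by
    intro n
    induction n with
    | zero => simp
    | succ n ih =>
      have hb' : b * x⁻¹ = x * b := by
        rw [hx, mul_inv_rev, inv_eq_of_mul_eq_one_right ha, inv_eq_of_mul_eq_one_right hb, ← mul_assoc, hb, one_mul,
          mul_assoc, hb, mul_one]
      calc b * (x ^ (n + 1))⁻¹ = b * x⁻¹ * (x ^ n)⁻¹ := by rw [pow_succ, mul_inv_rev, mul_assoc]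
        _ = x * (b * (x ^ n)⁻¹) := by rw [hb', mul_assoc]
        _ = x ^ (n + 1) * b := by rw [ih, ← mul_assoc, pow_succ']
  rw [mul_assoc, hbx, ← mul_assoc, ← pow_add, show i + 1 + (i + 1) = orderOf x + 1 by omega, pow_succ,
    pow_orderOf_eq_one, one_mul, hx, mul_assoc, hb, mul_one]

/-- The kernel lemma. -/
theorem TIAct.fixed_of_mv (h : TIAct ρ) {P Q : Sylow 2 X} (hne : P ≠ Q) {a b : X} (haP : a ∈ (P : Subgroup X))
    (hbQ : b ∈ (Q : Subgroup X)) (ha : a * a = 1) (hb : b * b = 1) (hb1 : b ≠ 1) {y : D} (hy : ρ b y = y)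
    (hca : ρ a (mv ρ a y) = mv ρ a y) (hcb : ρ b (mv ρ a y) = mv ρ a y) : ρ a y = y := by
  by_cases ha1 : a = 1
  · simp [ha1]
  set c := mv ρ a y with hc
  have hay : ρ a y = y * c := apply_eq a y
  have hc2 : c * c = 1 := by
    have h1 : ρ a (ρ a y) = y := by rw [← MulAut.mul_apply, ← map_mul, ha, map_one, MulAut.one_apply]
    rw [hay, map_mul, hay, hca, mul_assoc] at h1
    exact mul_eq_left.mp h1
  have hxy : ρ (a * b) y = y * c := by rw [map_mul, MulAut.mul_apply, hy, hay]
  have hxc : ρ (a * b) c = c := by rw [map_mul, MulAut.mul_apply, hcb, hca]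
  obtain ⟨i, hi⟩ := h.odd_mul hne haP hbQ ha hb ha1 hb1
  have h1 := pow_apply_translate hxy hxc (orderOf (a * b))
  rw [pow_orderOf_eq_one, map_one, MulAut.one_apply, hi, pow_succ, pow_mul, pow_two, hc2, one_pow, one_mul] at h1
  rw [hay, ← h1]

end CfsgLib.AbelianInt
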