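import Cfsg.Agent.Lib.AbelianInt.Basic
import Cfsg.Agent.Lib.AbelianInt.FFKernel

/-!
The group induced on an abelian subgroup `Ess` by its normaliser satisfies `TIAct`; so does its restriction to an
invariant subgroup containing all involutions.

Blueprint: `blueprint/S3186.md`, section 0.
-/

set_option autoImplicit false
set_option linter.unusedSectionVars false
set_option linter.style.haveILetI false

namespace CfsgLib.AbelianInt

open Cfsg Cfsg.FusionSystem Subgroup

universe u v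

section Restrict

variable {X : Type u} [Group X] {D : Type v} [CommGroup D] (ρ : X →* MulAut D) (W : Subgroup D)
  (hW : ∀ x : X, ∀ w ∈ W, ρ x w ∈ W)

/-- The action on an invariant subgroup. -/
def restrictAct : X →* MulAut W where
  toFun x :=
    { toFun := fun w => ⟨ρ x w, hW x w w.2⟩
      invFun := fun w => ⟨ρ x⁻¹ w, hW x⁻¹ w w.2⟩
      left_inv := fun w => Subtype.ext (by show ρ x⁻¹ (ρ x w) = w; rw [← MulAut.mul_apply, ← map_mul, inv_mul_cancel, map_one, MulAut.one_apply])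
      right_inv := fun w => Subtype.ext (by show ρ x (ρ x⁻¹ w) = w; rw [← MulAut.mul_apply, ← map_mul, mul_inv_cancel, map_one, MulAut.one_apply])
      map_mul' := fun a b => Subtype.ext (map_mul (ρ x) (a : D) (b : D)) }
  map_one' := MulEquiv.ext fun w => Subtype.ext (by show ρ 1 (w : D) = w; rw [map_one]; rfl)
  map_mul' x y := MulEquiv.ext fun w => Subtype.ext (by show ρ (x * y) (w : D) = ρ x (ρ y w); rw [map_mul]; rfl)

theorem restrictAct_apply (x : X) (w : W) : ((restrictAct ρ W hW x w : W) : D) = ρ x w := rfl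

variable {ρ} [Finite X] [Finite D]

/-- An action on an invariant subgroup containing the involutions is again faithful. -/
theorem TIAct.restrict (h : TIAct ρ) (hinv : ∀ d : D, d * d = 1 → d ∈ W) : TIAct (restrictAct ρ W hW) := by
  haveI : Fact (Nat.Prime 2) := ⟨Nat.prime_two⟩
  refine ⟨?_, fun w => ?_, h.ti, h.nn⟩
  swap
  · obtain ⟨n, hn⟩ := h.isTwo w
    exact ⟨n, Subtype.ext (by simpa using hn)⟩
  rw [← MonoidHom.ker_eq_bot_iff, eq_bot_iff]
  intro x hx
  -- an element of odd order fixing all involutions is trivial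
  have hodd : ∀ k ∈ (restrictAct ρ W hW).ker, Odd (orderOf k) → k = 1 := by
    intro k hk ⟨j, hj⟩
    refine h.inj ((map_one ρ).symm ▸ MulEquiv.ext fun d => ?_)
    have hall : ∀ n : ℕ, ∀ d : D, d ^ 2 ^ n = 1 → ρ k d = d := by
      intro n
      induction n with
      | zero => intro d hd; rw [pow_zero, pow_one] at hd; rw [hd, map_one]
      | succ n ih =>
        intro d hd
        set e := mv ρ k d with he
        have h2 : ρ k (d * d) = d * d := ih _ (by rw [← pow_two, ← pow_mul, ← pow_succ']; exact hd)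
        have he2 : e * e = 1 := by
          rw [he, ← map_mul, mv_eq_one]
          exact h2
        have hke : ρ k e = e := by
          have h4 := congrArg Subtype.val (DFunLike.congr_fun (MonoidHom.mem_ker.mp hk) (⟨e, hinv e he2⟩ : W))
          exact h4
        have h3 := pow_apply_translate (ρ := ρ) (apply_eq k d) hke (orderOf k)
        rw [pow_orderOf_eq_one, map_one, MulAut.one_apply, hj, pow_succ, pow_mul, pow_two, he2, one_pow, one_mul] at h3
        rw [apply_eq k d, ← he, ← h3]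
    obtain ⟨n, hn⟩ := h.isTwo d
    exact hall n d hn
  have hker : IsPGroup 2 (restrictAct ρ W hW).ker := by
    rintro ⟨z, hz⟩
    refine ⟨(orderOf z).factorization 2, Subtype.ext (hodd _ (pow_mem hz _) ?_)⟩
    show Odd (orderOf (z ^ 2 ^ (orderOf z).factorization 2))
    rw [orderOf_pow' _ (pow_ne_zero _ two_ne_zero), Nat.gcd_eq_right (Nat.ordProj_dvd _ _)]
    exact Nat.not_even_iff_odd.mp fun he =>
      Nat.not_dvd_ordCompl Nat.prime_two (orderOf_pos z).ne' (even_iff_two_dvd.mp he)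
  obtain ⟨P, hP⟩ := hker.exists_le_sylow
  obtain ⟨Q, hQ⟩ := h.nn P
  obtain ⟨g, rfl⟩ := MulAction.exists_smul_eq X P Q
  refine mem_bot.mpr (h.ti _ P hQ x ?_ (hP hx))
  exact ⟨g⁻¹ * x * g, hP (by simpa using (MonoidHom.normal_ker (restrictAct ρ W hW)).conj_mem x hx g⁻¹),
    by simp [mul_assoc]⟩

end Restrict

variable {G : Type u} [Group G] {S : Sylow 2 G} {D : Subgroup G}

/-- The group induced on `D` by its normaliser. -/
abbrev autX (D : Subgroup G) : Subgroup (MulAut D) := D.normalizerMonoidHom.range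

/-- `D` as a commutative group. -/
@[implicit_reducible]
def Ess.commGroup (hD : Ess S D) : CommGroup D :=
  { (inferInstance : Group D) with mul_comm := fun a b => Subtype.ext (hD.comm a a.2 b b.2) }

/-- The image of an element of the normaliser in `autX D`. -/
def toX {D : Subgroup G} {g : G} (hg : g ∈ normalizer (D : Set G)) : autX D :=
  D.normalizerMonoidHom.rangeRestrict ⟨g, hg⟩

theorem toX_apply {g : G} (hg : g ∈ normalizer (D : Set G)) (d : D) :
    (((toX hg : autX D) : MulAut D) d : G) = g * d * g⁻¹ := rfl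

theorem exists_toX (x : autX D) : ∃ g, ∃ hg : g ∈ normalizer (D : Set G), toX hg = x := by
  obtain ⟨⟨g, hg⟩, he⟩ := D.normalizerMonoidHom.rangeRestrict_surjective x
  exact ⟨g, hg, he⟩

theorem toX_eq_iff {g h : G} (hg : g ∈ normalizer (D : Set G)) (hh : h ∈ normalizer (D : Set G)) :
    toX hg = toX hh ↔ ∀ d ∈ D, g * d * g⁻¹ = h * d * h⁻¹ := by
  refine ⟨fun e d hd => ?_, fun e => Subtype.ext (MulEquiv.ext fun d => Subtype.ext ?_)⟩
  · exact congrArg (fun x : autX D => ((x : MulAut D) ⟨d, hd⟩ : G)) e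
  · exact e d d.2

variable [Finite G]

theorem Ess.toX_eq_one (hD : Ess S D) {t : G} (ht : t ∈ normalizerIn (S : Subgroup G) D) :
    toX ht.2 = 1 ↔ t ∈ D := by
  rw [show (1 : autX D) = toX (one_mem (normalizer (D : Set G))) from (map_one _).symm, toX_eq_iff]
  refine ⟨fun e => hD.self t ht.1 fun d hd => ?_, fun h d hd => ?_⟩
  · have h1 := e d hd
    simp only [one_mul, inv_one, mul_one] at h1
    exact (mul_inv_eq_iff_eq_mul.mp h1).symm
  · rw [hD.comm t h d hd, one_mul, inv_one, mul_one, mul_inv_cancel_right]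

/-- The situation of the lemma on quadratic offenders. -/
theorem Ess.exists_tiAct (hA : AI G) (hD : Ess S D) :
    letI := hD.commGroup
    ∃ P : Sylow 2 (autX D),
      (∀ x : autX D, x ∈ (P : Subgroup (autX D)) ↔ ∃ t, ∃ ht : t ∈ normalizerIn (S : Subgroup G) D, toX ht.2 = x) ∧
      TIAct (X := autX D) (D := D) (autX D).subtype := by
  letI := hD.commGroup
  haveI : Fact (Nat.Prime 2) := ⟨Nat.prime_two⟩
  set N := normalizer (D : Set G) with hN
  set T := normalizerIn (S : Subgroup G) D with hT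
  obtain ⟨P0, hP0⟩ :=
    ((S.2.to_le inf_le_left : IsPGroup 2 T).comap_of_injective N.subtype N.subtype_injective).exists_le_sylow
  have hP0' : ∀ z : N, z ∈ (P0 : Subgroup N) ↔ (z : G) ∈ T := fun z => by
    refine ⟨fun hz => ⟨hD.syl ((P0 : Subgroup N).map N.subtype) (P0.2.map _) (map_subtype_le _) (fun t ht => ?_)
      ⟨z, hz, rfl⟩, z.2⟩, fun hz => hP0 hz⟩
    exact ⟨⟨t, ht.2⟩, hP0 ht, rfl⟩
  set P := P0.mapSurjective D.normalizerMonoidHom.rangeRestrict_surjective
  have hP : ∀ x : autX D, x ∈ (P : Subgroup (autX D)) ↔ ∃ t, ∃ ht : t ∈ T, toX ht.2 = x := fun x => by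
    constructor
    · rintro ⟨z, hz, rfl⟩
      exact ⟨z, (hP0' z).mp hz, rfl⟩
    · rintro ⟨t, ht, rfl⟩
      exact ⟨⟨t, ht.2⟩, (hP0' _).mpr ht, rfl⟩
  have hmem : ∀ {g : G} (hg : g ∈ N) (x : autX D), x ∈ ((toX hg • P : Sylow 2 (autX D)) : Subgroup (autX D)) →
      ∃ t, ∃ ht : t ∈ T, x = toX hg * toX ht.2 * (toX hg)⁻¹ := fun hg x hx => by
    obtain ⟨t, ht, he⟩ := (hP _).mp (CentralInt.mem_smul.mp hx)
    exact ⟨t, ht, by rw [he]; group⟩
  have hmul : ∀ {g h : G} (hg : g ∈ N) (hh : h ∈ N), toX hg * toX hh = toX (mul_mem hg hh) := fun hg hh =>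
    (map_mul _ _ _).symm
  have hinv : ∀ {g : G} (hg : g ∈ N), (toX hg)⁻¹ = toX (inv_mem hg) := fun hg => (map_inv _ _).symm
  have hfix : ∀ {g n : G} (hg : g ∈ N) (_ : n ∈ normalizer ((S : Subgroup G) : Set G)),
      (∀ d ∈ D, g * d * g⁻¹ = n * d * n⁻¹) → toX hg • P = P := by
    intro g n hg hn he
    have hnN : n ∈ N := mem_normalizer_fintype fun d hd => he d hd ▸ Ess.conj_mem hg hd
    rw [(toX_eq_iff hg hnN).mpr he]
    refine Sylow.smul_eq_iff_mem_normalizer.mpr (mem_normalizer_fintype fun y hy => ?_)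
    obtain ⟨t, ht, rfl⟩ := (hP _).mp hy
    refine (hP _).mpr ⟨n * t * n⁻¹, ⟨(mem_normalizer_iff.mp hn t).mp ht.1,
      N.mul_mem (N.mul_mem hnN ht.2) (N.inv_mem hnN)⟩, ?_⟩
    rw [hinv hnN, hmul hnN ht.2, hmul]
  refine ⟨P, hP, Subtype.val_injective, fun d => ?_, fun P' Q' hne x hxP hxQ => ?_, fun Q' => ?_⟩
  · exact (S.2.to_le hD.le) d
  · obtain ⟨a, rfl⟩ := MulAction.exists_smul_eq (autX D) P P'
    obtain ⟨b, rfl⟩ := MulAction.exists_smul_eq (autX D) P Q'
    obtain ⟨g, hg, rfl⟩ := exists_toX a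
    obtain ⟨h, hh, rfl⟩ := exists_toX b
    obtain ⟨t, ht, h1⟩ := hmem hg x hxP
    obtain ⟨t', ht', h2⟩ := hmem hh x hxQ
    by_contra hx1
    have htD : t' ∉ D := fun h' => hx1 (by rw [h2, (hD.toX_eq_one ht').mpr h', mul_one, mul_inv_cancel])
    have hw : h⁻¹ * g ∈ N := mul_mem (inv_mem hh) hg
    have e1 : toX hw = (toX hh)⁻¹ * toX hg := by rw [hinv hh, hmul]
    have hact : toX (N.mul_mem (N.mul_mem hw ht.2) (N.inv_mem hw)) = toX ht'.2 := by
      rw [← hmul (N.mul_mem hw ht.2) (N.inv_mem hw), ← hmul hw ht.2, ← hinv hw, e1,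
        show (toX hh)⁻¹ * toX hg * toX ht.2 * ((toX hh)⁻¹ * toX hg)⁻¹ =
          (toX hh)⁻¹ * (toX hg * toX ht.2 * (toX hg)⁻¹) * toX hh by group, ← h1, h2]
      group
    obtain ⟨n, hn, he⟩ := hD.twist hA hw ht.1 ht' htD ((toX_eq_iff _ _).mp hact)
    have h3 := hfix hw hn he
    rw [e1, mul_smul, inv_smul_eq_iff] at h3
    exact hne h3
  · obtain ⟨g, hg, hmv⟩ := hD.moves
    obtain ⟨b, rfl⟩ := MulAction.exists_smul_eq (autX D) P Q'
    refine ⟨(b * toX hg) • P, fun e => ?_⟩
    rw [mul_smul, smul_left_cancel_iff] at e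
    obtain ⟨t, ht, htD⟩ := hD.exists_outside
    obtain ⟨t', ht', he⟩ := hmem hg (toX ht.2) (by rw [e]; exact (hP _).mpr ⟨t, ht, rfl⟩)
    rw [hinv hg, hmul hg ht'.2, hmul] at he
    obtain ⟨n, hn, hn'⟩ := hD.twist hA hg ht'.1 ht htD fun d hd => ((toX_eq_iff _ _).mp he d hd).symm
    obtain ⟨d, hd, hne⟩ := hmv n hn
    exact hne (hn' d hd)

end CfsgLib.AbelianInt
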