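import Cfsg.Agent.Lib.CentralInt.Core
import Cfsg.Agent.Lib.CentralInt.Simple
import Cfsg.Agent.Lib.AfterFT.DihedralSquare.Fusion
import Cfsg.Agent.Lib.TransferApps
import Cfsg.Agent.S1169

/-!
Groups with abelian Sylow 2-intersections: the subgroups carrying fusion, and the two corollaries of Alperin's
theorem.

Blueprint: `blueprint/S3186.md`, section 0.
-/

set_option autoImplicit false
set_option linter.unusedSectionVars false
set_option linter.style.haveILetI false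

namespace CfsgLib.AbelianInt

open Cfsg Cfsg.FusionSystem Subgroup CfsgLib.AfterFT.DihedralSquare CfsgLib.CentralInt
open scoped commutatorElement

universe u

variable {G : Type u} [Group G]

/-- Two distinct Sylow 2-subgroups meet in an abelian group. -/
def AI (G : Type u) [Group G] : Prop :=
  ∀ S T : Sylow 2 G, S ≠ T → ∀ x ∈ (S : Subgroup G), x ∈ (T : Subgroup G) →
    ∀ y ∈ (S : Subgroup G), y ∈ (T : Subgroup G) → x * y = y * x

theorem ai_of_hyp (h : ∀ S T : Sylow 2 G, S ≠ T → IsMulCommutative ↥((S : Subgroup G) ⊓ (T : Subgroup G))) :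
    AI G := fun S T hne x hx hx' y hy hy' =>
  congrArg Subtype.val ((h S T hne).1.comm ⟨x, hx, hx'⟩ ⟨y, hy, hy'⟩)

/-- An abelian subgroup of `S` that is its own centraliser in `S`, whose normaliser induces on it more than the
normaliser of `S` does. -/
structure Ess (S : Sylow 2 G) (D : Subgroup G) : Prop where
  le : D ≤ (S : Subgroup G)
  comm : ∀ x ∈ D, ∀ y ∈ D, x * y = y * x
  self : ∀ s ∈ (S : Subgroup G), (∀ d ∈ D, d * s = s * d) → s ∈ D
  syl : ∀ U : Subgroup G, IsPGroup 2 U → U ≤ normalizer (D : Set G) → normalizerIn (S : Subgroup G) D ≤ U →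
    U ≤ (S : Subgroup G)
  moves : ∃ g ∈ normalizer (D : Set G), ∀ n ∈ normalizer ((S : Subgroup G) : Set G),
    ∃ d ∈ D, g * d * g⁻¹ ≠ n * d * n⁻¹

variable [Finite G] {S : Sylow 2 G} {D : Subgroup G}

theorem AI.only (hA : AI G) {T : Sylow 2 G} {x y : G} (hx : x ∈ (S : Subgroup G)) (hy : y ∈ (S : Subgroup G))
    (hxy : x * y ≠ y * x) (hx' : x ∈ (T : Subgroup G)) (hy' : y ∈ (T : Subgroup G)) : T = S :=
  by_contra fun hne => hxy (hA S T (Ne.symm hne) x hx hx' y hy hy')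

/-- A two-group containing two non-commuting elements of `S` lies in `S`. -/
theorem AI.le_of_pair (hA : AI G) {U : Subgroup G} (hU : IsPGroup 2 U) {x y : G} (hx : x ∈ (S : Subgroup G))
    (hy : y ∈ (S : Subgroup G)) (hxy : x * y ≠ y * x) (hx' : x ∈ U) (hy' : y ∈ U) : U ≤ (S : Subgroup G) := by
  obtain ⟨T, hT⟩ := hU.exists_le_sylow
  rwa [hA.only hx hy hxy (hT hx') (hT hy')] at hT

theorem AI.normalizes (hA : AI G) {g x y : G} (hx : x ∈ (S : Subgroup G)) (hy : y ∈ (S : Subgroup G))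
    (hxy : x * y ≠ y * x) (hgx : g * x * g⁻¹ ∈ (S : Subgroup G)) (hgy : g * y * g⁻¹ ∈ (S : Subgroup G)) :
    g ∈ normalizer ((S : Subgroup G) : Set G) := by
  haveI : Fact (Nat.Prime 2) := ⟨Nat.prime_two⟩
  have h1 : g⁻¹ • S = S := hA.only hx hy hxy (CentralInt.mem_smul.mpr (by rwa [inv_inv]))
    (CentralInt.mem_smul.mpr (by rwa [inv_inv]))
  exact inv_mem_iff.mp (Sylow.smul_eq_iff_mem_normalizer.mp h1)

namespace Ess

theorem ne (hD : Ess S D) : D ≠ (S : Subgroup G) := by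
  rintro rfl
  obtain ⟨g, hg, h⟩ := hD.moves
  obtain ⟨d, -, hne⟩ := h g hg
  exact hne rfl

/-- An element of `S` outside `D` moves some element of `D`. -/
theorem exists_noncomm (hD : Ess S D) {t : G} (ht : t ∈ (S : Subgroup G)) (htD : t ∉ D) :
    ∃ d ∈ D, d * t ≠ t * d := by
  by_contra hc
  push Not at hc
  exact htD (hD.self t ht hc)

theorem le_normalizerIn (hD : Ess S D) : D ≤ normalizerIn (S : Subgroup G) D :=
  le_inf hD.le Subgroup.le_normalizer

theorem exists_outside (hD : Ess S D) : ∃ t ∈ normalizerIn (S : Subgroup G) D, t ∉ D :=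
  SetLike.exists_of_lt (lt_normalizerIn S.2 (lt_of_le_of_ne hD.le hD.ne))

theorem conj_mem {g : G} (hg : g ∈ normalizer (D : Set G)) {d : G} (hd : d ∈ D) : g * d * g⁻¹ ∈ D :=
  (mem_normalizer_iff.mp hg d).mp hd

/-- If the images of two elements of `N_S(D)` on `D` are conjugate by `g` and not trivial, `g` acts on `D` like an
element of the normaliser of `S`. -/
theorem twist (hA : AI G) (hD : Ess S D) {g t t' : G} (hg : g ∈ normalizer (D : Set G))
    (ht : t ∈ (S : Subgroup G)) (ht' : t' ∈ normalizerIn (S : Subgroup G) D) (htD : t' ∉ D)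
    (hact : ∀ d ∈ D, g * t * g⁻¹ * d * (g * t * g⁻¹)⁻¹ = t' * d * t'⁻¹) :
    ∃ n ∈ normalizer ((S : Subgroup G) : Set G), ∀ d ∈ D, g * d * g⁻¹ = n * d * n⁻¹ := by
  haveI : Fact (Nat.Prime 2) := ⟨Nat.prime_two⟩
  set u := g * t * g⁻¹ with hu
  set C := centralizer (D : Set G) with hC
  set M := C ⊔ zpowers t' with hM
  have hDC : D ≤ C := fun d hd => mem_centralizer_iff.mpr fun e he => hD.comm e he d hd
  have htu : t'⁻¹ * u ∈ C := mem_centralizer_iff.mpr fun d hd => by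
    have h1 := hact d hd
    calc d * (t'⁻¹ * u) = t'⁻¹ * (t' * d * t'⁻¹) * u := by group
      _ = t'⁻¹ * (u * d * u⁻¹) * u := by rw [h1]
      _ = t'⁻¹ * u * d := by group
  have huM : u ∈ M := by
    have := mul_mem (mem_sup_right (mem_zpowers t') : t' ∈ M) (mem_sup_left htu : t'⁻¹ * u ∈ M)
    rwa [mul_inv_cancel_left] at this
  have hDM : D ≤ M := hDC.trans le_sup_left
  obtain ⟨d0, hd0, hd0t⟩ := hD.exists_noncomm ht'.1 htD
  -- a Sylow subgroup of `M` above `D` and `t'`, and one above `D` and `u`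
  have hp1 : IsPGroup 2 ↥((D ⊔ zpowers t').subgroupOf M) :=
    (S.2.to_le (sup_le hD.le (zpowers_le.mpr ht'.1))).comap_of_injective M.subtype M.subtype_injective
  have hp2 : IsPGroup 2 ↥((D ⊔ zpowers u).subgroupOf M) := by
    refine ((g • S).2.to_le (sup_le (fun d hd => ?_) (zpowers_le.mpr ?_))).comap_of_injective M.subtype
      M.subtype_injective
    · rw [CentralInt.mem_smul]
      exact hD.le ((mem_normalizer_iff''.mp hg d).mp hd)
    · rw [CentralInt.mem_smul, hu]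
      simpa [mul_assoc] using ht
  obtain ⟨P1, hP1⟩ := hp1.exists_le_sylow
  obtain ⟨P2, hP2⟩ := hp2.exists_le_sylow
  obtain ⟨m, hm⟩ := MulAction.exists_smul_eq M P2 P1
  have hP1S : (P1 : Subgroup M).map M.subtype ≤ (S : Subgroup G) :=
    hA.le_of_pair (P1.2.map _) (hD.le hd0) ht'.1 hd0t
      ⟨⟨d0, hDM hd0⟩, hP1 (mem_subgroupOf.mpr (mem_sup_left hd0)), rfl⟩
      ⟨⟨t', mem_sup_right (mem_zpowers t')⟩, hP1 (mem_subgroupOf.mpr (mem_sup_right (mem_zpowers t'))), rfl⟩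
  have hmu : (m : G) * u * (m : G)⁻¹ ∈ (S : Subgroup G) := by
    refine hP1S ⟨m * ⟨u, huM⟩ * m⁻¹, ?_, rfl⟩
    rw [← hm]
    refine CentralInt.mem_smul.mpr ?_
    have := hP2 (mem_subgroupOf.mpr (mem_sup_right (mem_zpowers u)) : (⟨u, huM⟩ : M) ∈ (D ⊔ zpowers u).subgroupOf M)
    simpa [mul_assoc] using this
  have hzN : zpowers t' ≤ normalizer (C : Set G) := zpowers_le.mpr <| mem_normalizer_fintype fun c hc =>
    mem_centralizer_iff.mpr fun d hd => by
      have hd' : t'⁻¹ * d * t' ∈ D := (mem_normalizer_iff''.mp ht'.2 d).mp hd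
      have h1 := mem_centralizer_iff.mp hc _ hd'
      calc d * (t' * c * t'⁻¹) = t' * (t'⁻¹ * d * t' * c) * t'⁻¹ := by group
        _ = t' * (c * (t'⁻¹ * d * t')) * t'⁻¹ := by rw [h1]
        _ = t' * c * t'⁻¹ * d := by group
  obtain ⟨z, hz, k, hk, hzk⟩ : ∃ z ∈ zpowers t', ∃ k ∈ C, z * k = (m : G) := by
    have h1 : (m : G) ∈ ((zpowers t' ⊔ C : Subgroup G) : Set G) := by rw [sup_comm]; exact m.2
    rw [coe_mul_of_left_le_normalizer_right (zpowers t') C hzN] at h1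
    exact Set.mem_mul.mp h1
  have hCN : C ≤ normalizer (D : Set G) := Subgroup.centralizer_le_normalizer _
  have hmN : (m : G) ∈ normalizer (D : Set G) := hzk ▸ mul_mem (zpowers_le.mpr ht'.2 hz) (hCN hk)
  have htD' : t ∉ D := fun h => by
    have hu' : u ∈ D := conj_mem hg h
    refine htD (hD.self t' ht'.1 fun d hd => ?_)
    have h1 := hact d hd
    rw [hD.comm u hu' d hd, mul_inv_cancel_right] at h1
    exact (eq_mul_inv_iff_mul_eq.mp h1)
  obtain ⟨d1, hd1, hd1t⟩ := hD.exists_noncomm ht htD'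
  have hw : (m : G) * g ∈ normalizer ((S : Subgroup G) : Set G) := by
    refine hA.normalizes (hD.le hd1) ht hd1t (hD.le (conj_mem (mul_mem hmN hg) hd1)) ?_
    rwa [show (m : G) * g * t * ((m : G) * g)⁻¹ = (m : G) * (g * t * g⁻¹) * (m : G)⁻¹ by group]
  refine ⟨z⁻¹ * ((m : G) * g), mul_mem (inv_mem (zpowers_le.mpr (Subgroup.le_normalizer ht'.1) hz)) hw, fun d hd => ?_⟩
  rw [← hzk, show z⁻¹ * (z * k * g) * d * (z⁻¹ * (z * k * g))⁻¹ = k * (g * d * g⁻¹) * k⁻¹ by group,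
    ← mem_centralizer_iff.mp hk _ (conj_mem hg hd), mul_inv_cancel_right]

/-- Conjugation by an element of `N(S)`. -/
theorem conj (hD : Ess S D) {n : G} (hn : n ∈ normalizer ((S : Subgroup G) : Set G)) :
    Ess S (D.map (MulAut.conj n).toMonoidHom) := by
  have hm : ∀ {x : G}, x ∈ D.map (MulAut.conj n).toMonoidHom ↔ n⁻¹ * x * n ∈ D := fun {x} => by
    rw [mem_map_equiv, MulAut.conj_symm_apply]
  have hmN : ∀ {x : G}, x ∈ normalizer ((D.map (MulAut.conj n).toMonoidHom : Subgroup G) : Set G) ↔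
      n⁻¹ * x * n ∈ normalizer (D : Set G) := fun {x} => by
    refine ⟨fun h => mem_normalizer_iff.mpr fun y => ?_, fun h => mem_normalizer_iff.mpr fun y => ?_⟩
    · have h1 := mem_normalizer_iff.mp h (n * y * n⁻¹)
      rw [hm, hm, show n⁻¹ * (n * y * n⁻¹) * n = y by group,
        show n⁻¹ * (x * (n * y * n⁻¹) * x⁻¹) * n = n⁻¹ * x * n * y * (n⁻¹ * x * n)⁻¹ by group] at h1
      exact h1
    · rw [hm, hm, mem_normalizer_iff.mp h (n⁻¹ * y * n),
        show n⁻¹ * x * n * (n⁻¹ * y * n) * (n⁻¹ * x * n)⁻¹ = n⁻¹ * (x * y * x⁻¹) * n by group]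
  refine ⟨fun x hx => ?_, fun x hx y hy => ?_, fun s hs h => ?_, fun U hU hUN hTU => ?_, ?_⟩
  · have := (mem_normalizer_iff.mp hn _).mp (hD.le (hm.mp hx))
    rwa [show n * (n⁻¹ * x * n) * n⁻¹ = x by group] at this
  · have := hD.comm _ (hm.mp hx) _ (hm.mp hy)
    calc x * y = n * ((n⁻¹ * x * n) * (n⁻¹ * y * n)) * n⁻¹ := by group
      _ = n * ((n⁻¹ * y * n) * (n⁻¹ * x * n)) * n⁻¹ := by rw [this]
      _ = y * x := by group
  · refine hm.mpr (hD.self _ ((mem_normalizer_iff''.mp hn s).mp hs) fun d hd => ?_)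
    have h1 := h (n * d * n⁻¹) (hm.mpr (by simpa [mul_assoc] using hd))
    calc d * (n⁻¹ * s * n) = n⁻¹ * (n * d * n⁻¹ * s) * n := by group
      _ = n⁻¹ * (s * (n * d * n⁻¹)) * n := by rw [h1]
      _ = n⁻¹ * s * n * d := by group
  · intro x hx
    have h1 : U.map (MulAut.conj n⁻¹).toMonoidHom ≤ (S : Subgroup G) := by
      refine hD.syl _ (hU.map _) ?_ ?_
      · rintro _ ⟨y, hy, rfl⟩
        simpa using hmN.mp (hUN hy)
      · intro y hy
        refine ⟨n * y * n⁻¹, hTU ⟨(mem_normalizer_iff.mp hn y).mp hy.1, hmN.mpr ?_⟩, by simp [mul_assoc]⟩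
        rw [show n⁻¹ * (n * y * n⁻¹) * n = y by group]
        exact hy.2
    have h2 := h1 ⟨x, hx, rfl⟩
    simp only [MulEquiv.coe_toMonoidHom, MulAut.conj_apply, inv_inv] at h2
    exact (mem_normalizer_iff''.mp hn x).mpr h2
  · obtain ⟨g, hg, h⟩ := hD.moves
    refine ⟨n * g * n⁻¹, hmN.mpr (by simpa [mul_assoc] using hg), fun m hm' => ?_⟩
    obtain ⟨d, hd, hne⟩ := h (n⁻¹ * m * n) (mul_mem (mul_mem (inv_mem hn) hm') hn)
    refine ⟨n * d * n⁻¹, hm.mpr (by simpa [mul_assoc] using hd), fun e => hne ?_⟩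
    calc g * d * g⁻¹ = n⁻¹ * (n * g * n⁻¹ * (n * d * n⁻¹) * (n * g * n⁻¹)⁻¹) * n := by group
      _ = n⁻¹ * (m * (n * d * n⁻¹) * m⁻¹) * n := by rw [e]
      _ = n⁻¹ * m * n * d * (n⁻¹ * m * n)⁻¹ := by group

end Ess

/-- Fusion in `S` is generated by the normalisers of `S` and of the subgroups `Ess`. -/
theorem AI.rel (hA : AI G) (S : Sylow 2 G) (Rel : G → G → Prop) (hsymm : ∀ {a b}, Rel a b → Rel b a)
    (htrans : ∀ {a b c}, Rel a b → Rel b c → Rel a c)
    (hS : ∀ n ∈ normalizer ((S : Subgroup G) : Set G), ∀ a ∈ (S : Subgroup G), Rel a (n * a * n⁻¹))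
    (hD : ∀ D, Ess S D → ∀ g ∈ normalizer (D : Set G), ∀ a ∈ D, Rel a (g * a * g⁻¹))
    {a g : G} (ha : a ∈ (S : Subgroup G)) (hga : g * a * g⁻¹ ∈ (S : Subgroup G)) : Rel a (g * a * g⁻¹) := by
  haveI : Fact (Nat.Prime 2) := ⟨Nat.prime_two⟩
  refine rel_of_alperin Rel hsymm htrans (fun s hs => hS s (Subgroup.le_normalizer hs)) hS
    (fun E hE g hg => ?_) ha hga
  refine Or.inr ⟨1, one_mem _, ?_, fun a ha => ?_⟩
  · rw [show conjAut (one_mem (normalizer (E : Set G))) = 1 from map_one _]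
    exact one_mem _
  rw [inv_one, mul_one]
  have hES := hE.1.1
  by_cases hn : ∃ n ∈ normalizer ((S : Subgroup G) : Set G), ∀ d ∈ E, g * d * g⁻¹ = n * d * n⁻¹
  · obtain ⟨n, hn, he⟩ := hn
    rw [he a ha]
    exact hS n hn a (hES ha)
  push Not at hn
  have hab : ∀ x ∈ E, ∀ y ∈ E, x * y = y * x := fun x hx y hy => by_contra fun hxy => by
    obtain ⟨d, -, hne⟩ := hn g (hA.normalizes (hES hx) (hES hy) hxy (hES ((mem_normalizer_iff.mp hg x).mp hx))
      (hES ((mem_normalizer_iff.mp hg y).mp hy)))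
    exact hne rfl
  refine hD E ⟨hES, hab, fun s hs h => hE.1.centralizerIn_le_self ⟨hs, mem_centralizer_iff.mpr h⟩, ?_, g, hg, hn⟩
    g hg a ha
  intro U hU hUN hTU
  obtain ⟨-, -, hodd⟩ := (isFullyNormalized_groupFusionSystem_iff S hES).mp hE.2.1
  obtain ⟨i, hi⟩ := hU.index ((normalizerIn (S : Subgroup G) E).subgroupOf U)
  rcases i with _ | i
  · exact (relIndex_eq_one.mp hi).trans inf_le_left
  · exact absurd ((Dvd.intro_left _ (pow_succ 2 i).symm).trans
      ((dvd_of_eq hi.symm).trans (Dvd.intro _ (relIndex_mul_relIndex _ _ _ hTU hUN)))) hodd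

/-- A subgroup of `S` stable under `N(S)` and under the normalisers of the `Ess` subgroups is strongly closed. -/
theorem AI.closed (hA : AI G) {A : Subgroup G} (hAS : A ≤ (S : Subgroup G))
    (hN : ∀ n ∈ normalizer ((S : Subgroup G) : Set G), ∀ a ∈ A, n * a * n⁻¹ ∈ A)
    (hE : ∀ D, Ess S D → ∀ g ∈ normalizer (D : Set G), ∀ a ∈ D, a ∈ A → g * a * g⁻¹ ∈ A) :
    IsStronglyClosed A (S : Subgroup G) := by
  refine ⟨hAS, fun x hx g hg => ?_⟩
  refine (hA.rel S (fun a b => a ∈ A ↔ b ∈ A) Iff.symm Iff.trans (fun n hn a _ => ⟨hN n hn a, fun h => ?_⟩)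
    (fun D hD g hg a ha => ⟨hE D hD g hg a ha, fun h => ?_⟩) (hAS hx) hg).mp hx
  · have := hN n⁻¹ (inv_mem hn) _ h
    rwa [show n⁻¹ * (n * a * n⁻¹) * n⁻¹⁻¹ = a by group] at this
  · have := hE D hD g⁻¹ (inv_mem hg) _ (Ess.conj_mem hg ha) h
    rwa [show g⁻¹ * (g * a * g⁻¹) * g⁻¹⁻¹ = a by group] at this

/-- The focal argument: a subgroup containing the commutators with `N(S)` and with the normalisers of the
`Ess` subgroups contains `S`. -/
theorem AI.focal_comm [IsSimpleGroup G] (hA : AI G) (hG : ¬ IsMulCommutative G) {S0 : Subgroup G}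
    (hN : ∀ n ∈ normalizer ((S : Subgroup G) : Set G), ∀ a ∈ (S : Subgroup G), a⁻¹ * (n * a * n⁻¹) ∈ S0)
    (hE : ∀ D, Ess S D → ∀ g ∈ normalizer (D : Set G), ∀ a ∈ D, a⁻¹ * (g * a * g⁻¹) ∈ S0) :
    (S : Subgroup G) ≤ S0 := by
  haveI : Fact (Nat.Prime 2) := ⟨Nat.prime_two⟩
  have htop : commutator G = ⊤ := ((inferInstance : (commutator G).Normal).eq_bot_or_eq_top).resolve_left
    fun e => hG ⟨⟨fun a b => commutatorElement_eq_one_iff_mul_comm.mp
      (mem_bot.mp (e ▸ (commutator_mem_commutator (mem_top a) (mem_top b) : ⁅a, b⁆ ∈ commutator G)))⟩⟩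
  have h1 : (S : Subgroup G) = (S : Subgroup G).focalSubgroup := by
    rw [← Subgroup.commutator_inf_eq_focalSubgroup S, htop, top_inf_eq]
  refine h1.le.trans ?_
  rw [Subgroup.focalSubgroup_def, Subgroup.closure_le]
  rintro _ ⟨hgS, x, hx, u, rfl⟩
  have hux : u * x⁻¹ * u⁻¹ ∈ (S : Subgroup G) := by
    have := mul_mem (inv_mem hx) hgS
    rw [commutatorElement_def] at this
    convert this using 1
    group
  have h2 := hA.rel S (fun a b => a⁻¹ * b ∈ S0) (fun {a b} h => ?_) (fun {a b c} h h' => ?_) hN hE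
    (inv_mem hx) hux
  · show ⁅x, u⁆ ∈ S0
    rw [commutatorElement_def]
    simpa [mul_assoc] using h2
  · simpa using inv_mem h
  · simpa [mul_assoc] using mul_mem h h'

/-- The focal argument for a subgroup containing all `Ess` subgroups. -/
theorem AI.focal [IsSimpleGroup G] (hA : AI G) (hG : ¬ IsMulCommutative G) {S0 : Subgroup G}
    (hN : ∀ n ∈ normalizer ((S : Subgroup G) : Set G), ∀ a ∈ (S : Subgroup G), a⁻¹ * (n * a * n⁻¹) ∈ S0)
    (hE : ∀ D, Ess S D → D ≤ S0) : (S : Subgroup G) ≤ S0 :=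
  hA.focal_comm hG hN fun D hD _ hg _ ha => mul_mem (inv_mem (hE D hD ha)) (hE D hD (Ess.conj_mem hg ha))

/-- A strongly closed abelian subgroup forces class at most two. -/
theorem class_two_of_closed [IsSimpleGroup G] {A : Subgroup G} (hA1 : A ≠ ⊥)
    (hAc : ∀ x ∈ A, ∀ y ∈ A, x * y = y * x) (hcl : IsStronglyClosed A (S : Subgroup G)) :
    ∀ x ∈ (S : Subgroup G), ∀ y ∈ (S : Subgroup G), Cen (S : Subgroup G) ⁅x, y⁆ := by
  intro x hx y hy
  by_cases hS : IsMulCommutative (S : Subgroup G)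
  · have h1 : x * y = y * x := congrArg Subtype.val (hS.1.comm ⟨x, hx⟩ ⟨y, hy⟩)
    rw [commutatorElement_eq_one_iff_mul_comm.mpr h1]
    exact Cen.one _
  rcases Cfsg.Agent.S1169.result S A hA1 ⟨⟨fun a b => Subtype.ext (hAc a a.2 b b.2)⟩⟩ hcl with h | ⟨H, hH⟩
  · exact absurd h hS
  obtain ⟨k, hk⟩ := (szpsu_of_stronglyEmbedded S hS hH).hasShape S
  exact hk.comm x hx y hy

end CfsgLib.AbelianInt
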