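import Cfsg.Agent.Lib.AbelianInt.Facts

/-!
Subgroups `Ess` with `|D : Z(N_S(D))| = 2`: the distinguished commutator, and the elements of order four inverted by
two non-commuting involutions.

Blueprint: `blueprint/S3186.md`, sections 4 and 5.
-/

set_option autoImplicit false
set_option linter.unusedSectionVars false
set_option linter.style.haveILetI false

namespace CfsgLib.AbelianInt

open Cfsg Cfsg.FusionSystem Subgroup
open scoped commutatorElement

universe u

variable {G : Type u} [Group G] [Finite G] {S : Sylow 2 G} {D : Subgroup G}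

namespace Core

variable (c : Core S D)
include c

/-- With index two, all non-trivial commutators `[t, d]` are equal. -/
theorem const (h2 : (ctr S D).relIndex D = 2) {t t' d d' : G} (ht : t ∈ normalizerIn (S : Subgroup G) D) (htD : t ∉ D)
    (ht' : t' ∈ normalizerIn (S : Subgroup G) D) (htD' : t' ∉ D) (hd : d ∈ D) (hdY : d ∉ ctr S D) (hd' : d' ∈ D)
    (hdY' : d' ∉ ctr S D) : ⁅t, d⁆ = ⁅t', d'⁆ := by
  have hinv : ∀ {a b : G}, a * a = 1 → b * b = 1 → a * b = 1 → a = b := fun {a b} ha _ hab =>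
    (inv_eq_of_mul_eq_one_right ha).symm.trans (inv_eq_of_mul_eq_one_right hab)
  have hT : t * t' ∈ D := by
    have h := mul_mem_iff_of_index_two (c.idx.trans h2 : (D.subgroupOf (normalizerIn (S : Subgroup G) D)).index = 2)
      (a := ⟨t, ht⟩) (b := ⟨t', ht'⟩)
    rw [mem_subgroupOf, mem_subgroupOf, mem_subgroupOf] at h
    exact h.mpr (iff_of_false htD htD')
  have hdd : d * d' ∈ ctr S D := by
    have h := mul_mem_iff_of_index_two (h2 : ((ctr S D).subgroupOf D).index = 2) (a := ⟨d, hd⟩) (b := ⟨d', hd'⟩)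
    rw [mem_subgroupOf, mem_subgroupOf, mem_subgroupOf] at h
    exact h.mpr (iff_of_false hdY hdY')
  have e1 : ⁅t', d⁆ * ⁅t, d⁆ = 1 := by
    rw [← c.com_left ht ht' hd, eq_one_of_comm_eq (c.ess.comm _ hT d hd)]
  have e2 : ⁅t', d⁆ * ⁅t', d'⁆ = 1 := by
    rw [← c.com_right ht' hd hd', eq_one_of_comm_eq (ctr_comm hdd ht')]
  rw [← hinv (c.com_sq ht' hd) (c.com_sq ht hd) e1, ← hinv (c.com_sq ht' hd) (c.com_sq ht' hd') e2]

/-- An element of order four inverted by an involution `r ∈ D` and by one not commuting with it. -/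
theorem four {r r' m : G} (hr : r ∈ D) (hrY : r ∉ ctr S D) (hr2 : r * r = 1) (hr' : r' ∈ (S : Subgroup G))
    (hr'2 : r' * r' = 1) (hne : r * r' ≠ r' * r) (hm : m ∈ (S : Subgroup G)) (h4 : m * m * (m * m) = 1)
    (hm2 : m * m ≠ 1) (h1 : r * m * r = m⁻¹) (h1' : r' * m * r' = m⁻¹) :
    m ∈ normalizerIn (S : Subgroup G) D ∧ m ∉ D ∧ m * m ∈ ctr S D ∧ ⁅m, r⁆ = m * m := by
  have hc : ∀ {x : G}, x * x = 1 → x * m * x = m⁻¹ → x * (m * m) = m * m * x := fun {x} hx hxm => by
    have h : x * (m * m) * x = m * m := by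
      calc x * (m * m) * x = x * m * (x * x) * m * x := by rw [hx]; group
        _ = (x * m * x) * (x * m * x) := by group
        _ = m * m := by rw [hxm, ← mul_inv_rev, inv_eq_of_mul_eq_one_right h4]
    calc x * (m * m) = x * (m * m) * (x * x) := by rw [hx, mul_one]
      _ = x * (m * m) * x * x := by group
      _ = m * m * x := by rw [h]
  have hmm : m * m ∈ (S : Subgroup G) := mul_mem hm hm
  have hcD : m * m ∈ D := c.pure hr hrY hmm (hc hr2 h1).symm
  have hcY : m * m ∈ ctr S D := by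
    by_contra h
    exact hne (c.ess.comm r hr r' (c.pure hcD h hr' (hc hr'2 h1')))
  have hmr : m * r * m⁻¹ = r * (m * m) := by
    calc m * r * m⁻¹ = (r * r) * m * r * m⁻¹ := by rw [hr2, one_mul]
      _ = r * (r * m * r) * m⁻¹ := by group
      _ = r * (m * m)⁻¹ := by rw [h1]; group
      _ = r * (m * m) := by rw [inv_eq_of_mul_eq_one_right h4]
  have hrcY : r * (m * m) ∉ ctr S D := fun h => hrY ((mul_mem_cancel_right hcY).mp h)
  refine ⟨⟨hm, mem_normalizer_fintype fun e he => ?_⟩, fun hmD => hm2 ?_, hcY, ?_⟩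
  · refine c.pure (mul_mem hr hcD) hrcY (mul_mem (mul_mem hm (c.ess.le he)) (inv_mem hm)) ?_
    rw [← hmr, conj_mul, conj_mul, c.ess.comm e he r hr]
  · calc m * m = r * (r * (m * m)) := by rw [← mul_assoc, hr2, one_mul]
      _ = 1 := by rw [← hmr, c.ess.comm m hmD r hr, mul_inv_cancel_right, hr2]
  · rw [commutatorElement_def, hmr]
    calc r * (m * m) * r⁻¹ = r * (m * m) * r := by rw [inv_eq_of_mul_eq_one_right hr2]
      _ = m * m * r * r := by rw [hc hr2 h1]
      _ = m * m := by rw [mul_assoc, hr2, mul_one]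

end Core

end CfsgLib.AbelianInt
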