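import Cfsg.Agent.Lib.AbelianInt.NormalCase
import Cfsg.Agent.Lib.AbelianInt.Small

/-!
A subgroup `Ess` not normal in `S` with `|D : Z(N_S(D))| ≥ 4` does not occur.

Blueprint: `blueprint/S3186.md`, section 4.
-/

set_option autoImplicit false
set_option linter.unusedSectionVars false
set_option linter.style.haveILetI false

namespace CfsgLib.AbelianInt

open Cfsg Cfsg.FusionSystem Subgroup CfsgLib.CentralInt
open scoped commutatorElement

universe u

variable {G : Type u} [Group G] [Finite G] {S : Sylow 2 G} {D : Subgroup G} {g : G}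

namespace Twin

variable (tw : Twin S D g)
include tw

theorem le_norm : normalizerIn (S : Subgroup G) D ≤ normalizerIn (S : Subgroup G) (normalizerIn (S : Subgroup G) D) :=
  le_inf inf_le_left Subgroup.le_normalizer

theorem mul_outside {a b : G} (ha : a ∈ normalizerIn (S : Subgroup G) (normalizerIn (S : Subgroup G) D))
    (hb : b ∈ normalizerIn (S : Subgroup G) (normalizerIn (S : Subgroup G) D))
    (haT : a ∉ normalizerIn (S : Subgroup G) D) (hbT : b ∉ normalizerIn (S : Subgroup G) D) :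
    a * b ∈ normalizerIn (S : Subgroup G) D := by
  by_contra h
  have h1 := (tw.two_conj (mul_mem ha.1 hb.1) (mul_mem ha.2 hb.2)).resolve_left h
  rw [← mul_assoc] at h1
  exact hbT ((mul_mem_cancel_left ((tw.two_conj ha.1 ha.2).resolve_left haT)).mp h1)

/-- Elements outside `N_S(D)` exchange `D` and its twin. -/
theorem swap {h d : G} (hh : h ∈ normalizerIn (S : Subgroup G) (normalizerIn (S : Subgroup G) D))
    (hhT : h ∉ normalizerIn (S : Subgroup G) D) (hd : d ∈ D) :
    h * d * h⁻¹ ∈ D.map (MulAut.conj g).toMonoidHom := by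
  have h1 := (tw.two_conj hh.1 hh.2).resolve_left hhT
  rw [mem_map_conj]
  have := (mem_normalizer_iff.mp h1.2 d).mp hd
  simpa [mul_assoc] using this

theorem swap' {h d : G} (hh : h ∈ normalizerIn (S : Subgroup G) (normalizerIn (S : Subgroup G) D))
    (hhT : h ∉ normalizerIn (S : Subgroup G) D) (hd : d ∈ D.map (MulAut.conj g).toMonoidHom) :
    h * d * h⁻¹ ∈ D := by
  have h1 := tw.mul_outside hh ⟨tw.mem, tw.norm⟩ hhT tw.outside
  obtain ⟨x, hx, rfl⟩ := hd
  have := (mem_normalizer_iff.mp h1.2 x).mp hx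
  simpa [mul_assoc] using this

theorem norm_mem : g ∈ normalizerIn (S : Subgroup G) (normalizerIn (S : Subgroup G) D) := ⟨tw.mem, tw.norm⟩

theorem class_two {x y : G} (hx : x ∈ normalizerIn (S : Subgroup G) D) (hy : y ∈ normalizerIn (S : Subgroup G) D) :
    Cen (normalizerIn (S : Subgroup G) D) ⁅x, y⁆ := by
  have hle : D.map (MulAut.conj g).toMonoidHom ≤ normalizerIn (S : Subgroup G) D := by
    rintro _ ⟨d, hd, rfl⟩
    exact (mem_normalizer_iff.mp tw.norm d).mp (tw.ess.le_normalizerIn hd)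
  exact comm_central tw.ess.comm (tw.ess.conj (Subgroup.le_normalizer tw.mem)).comm tw.ess.le_normalizerIn hle
    (fun b hb a ha => tw.out.core.com_mem b (hle hb) a ha) (tw.out.gen x hx) (tw.out.gen y hy)

section

variable (hbig : (ctr S D).relIndex D ≠ 2)
include hbig

theorem exists_in {W : Subgroup G} (hW : ∀ a ∈ D, ∀ b ∈ D, a ∉ W → b ∉ W → a * b ∈ W) :
    ∃ d ∈ D, d ∈ W ∧ d ∉ ctr S D := by
  by_contra hc
  push Not at hc
  obtain ⟨a, ha, haY⟩ := tw.out.core.exists_not_ctr
  refine hbig (index_eq_two_iff.mpr ⟨⟨a, ha⟩, fun b => ?_⟩)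
  rw [mem_subgroupOf, mem_subgroupOf]
  by_cases hb : (b : G) ∈ ctr S D
  · exact Or.inr ⟨hb, fun h => haY ((mul_mem_cancel_left hb).mp h)⟩
  · exact Or.inl ⟨hc _ (mul_mem b.2 ha)
      (hW b b.2 a ha (fun h => hb (hc _ b.2 h)) fun h => haY (hc _ ha h)), hb⟩

theorem exists_three : ∃ a ∈ D, ∃ b ∈ D, a * a = 1 ∧ b * b = 1 ∧ a ∉ ctr S D ∧ b ∉ ctr S D ∧ a * b ∉ ctr S D := by
  have h : ∃ a ∈ D, ∃ b ∈ D, a ∉ ctr S D ∧ b ∉ ctr S D ∧ a * b ∉ ctr S D := by
    by_contra hc
    push Not at hc
    obtain ⟨d, -, hd, hdY⟩ := tw.exists_in hbig (W := ctr S D) hc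
    exact hdY hd
  obtain ⟨a, ha, b, hb, haY, hbY, habY⟩ := h
  obtain ⟨e, he, f, hf, he2, rfl⟩ := tw.out.core.inv_part a ha
  obtain ⟨k, hk, l, hl, hk2, rfl⟩ := tw.out.core.inv_part b hb
  refine ⟨e, he, k, hk, he2, hk2, fun h => haY (mul_mem h hf), fun h => hbY (mul_mem h hl), fun h => habY ?_⟩
  rw [show e * f * (k * l) = e * (f * k) * l by group, tw.ess.comm f (ctr_le hf) k hk,
    show e * (k * f) * l = e * k * (f * l) by group]
  exact mul_mem h (mul_mem hf hl)

/-- The only subgroup of index two and class two in `N_S(N_S(D))`. -/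
theorem eq_of_class_two {W : Subgroup G}
    (hW : W ≤ normalizerIn (S : Subgroup G) (normalizerIn (S : Subgroup G) D))
    (hidx : ∀ a ∈ normalizerIn (S : Subgroup G) (normalizerIn (S : Subgroup G) D),
      ∀ b ∈ normalizerIn (S : Subgroup G) (normalizerIn (S : Subgroup G) D), a ∉ W → b ∉ W → a * b ∈ W)
    (hc2 : ∀ x ∈ W, ∀ y ∈ W, Cen W ⁅x, y⁆) : W = normalizerIn (S : Subgroup G) D := by
  have hD : D ≤ normalizerIn (S : Subgroup G) (normalizerIn (S : Subgroup G) D) :=
    tw.ess.le_normalizerIn.trans tw.le_norm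
  obtain ⟨d, hd, hdW, hdY⟩ := tw.exists_in hbig (W := W) fun a ha b hb => hidx a (hD ha) b (hD hb)
  have hle : W ≤ normalizerIn (S : Subgroup G) D := by
    intro w hw
    by_contra hwT
    have h1 := tw.swap (hW hw) hwT hd
    set d1 := w * d * w⁻¹ with hd1
    have h2 := hc2 w hw d hdW d hdW
    rw [show ⁅w, d⁆ = d1 * d⁻¹ from commutatorElement_def _ _] at h2
    have h3 : d1 * d = d * d1 := by
      calc d1 * d = d1 * d⁻¹ * d * d := by group
        _ = d * (d1 * d⁻¹) * d := by rw [h2]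
        _ = d * d1 := by group
    have h4 : d1 ∈ D :=
      tw.out.core.pure hd hdY (mul_mem (mul_mem (hW hw).1 (tw.ess.le hd)) (inv_mem (hW hw).1)) h3
    have h5 := conj_ctr tw.ess (inv_mem (hW hw).1) (inv_mem (hW hw).2) (tw.out.inter.le ⟨h4, h1⟩)
    rw [hd1, show w⁻¹ * (w * d * w⁻¹) * w⁻¹⁻¹ = d by group] at h5
    exact hdY h5
  refine le_antisymm hle fun t ht => ?_
  by_contra htW
  exact tw.outside ((mul_mem_cancel_right ht).mp
    (hle (hidx g tw.norm_mem t (tw.le_norm ht) (fun h => tw.outside (hle h)) htW)))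

/-- Whatever normalises `N_S(N_S(D))` normalises `N_S(D)`. -/
theorem norm_of_norm {h : G}
    (hh : h ∈ normalizer ((normalizerIn (S : Subgroup G) (normalizerIn (S : Subgroup G) D) : Subgroup G) : Set G)) :
    h ∈ normalizer ((normalizerIn (S : Subgroup G) D : Subgroup G) : Set G) := by
  set T := normalizerIn (S : Subgroup G) D with hT
  have hm : ∀ {x}, x ∈ T.map (MulAut.conj h).toMonoidHom ↔ h⁻¹ * x * h ∈ T := fun {x} => mem_map_conj
  have heq : T.map (MulAut.conj h).toMonoidHom = T := by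
    refine tw.eq_of_class_two hbig ?_ (fun a ha b hb haW hbW => hm.mpr ?_) ?_
    · rintro _ ⟨t, ht, rfl⟩
      exact (mem_normalizer_iff.mp hh t).mp (tw.le_norm ht)
    · rw [show h⁻¹ * (a * b) * h = h⁻¹ * a * h * (h⁻¹ * b * h) by group]
      exact tw.mul_outside ((mem_normalizer_iff''.mp hh a).mp ha) ((mem_normalizer_iff''.mp hh b).mp hb)
        (fun e => haW (hm.mpr e)) fun e => hbW (hm.mpr e)
    · intro x hx y hy z hz
      rw [hm] at hx hy hz
      have h1 := tw.class_two hx hy _ hz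
      calc z * ⁅x, y⁆ = h * (h⁻¹ * z * h * ⁅h⁻¹ * x * h, h⁻¹ * y * h⁆) * h⁻¹ := by
            simp only [commutatorElement_def]; group
        _ = h * (⁅h⁻¹ * x * h, h⁻¹ * y * h⁆ * (h⁻¹ * z * h)) * h⁻¹ := by rw [h1]
        _ = ⁅x, y⁆ * z := by simp only [commutatorElement_def]; group
  exact mem_normalizer_fintype fun t ht => heq.le ⟨t, ht, rfl⟩

theorem top : normalizerIn (S : Subgroup G) (normalizerIn (S : Subgroup G) D) = (S : Subgroup G) := by
  haveI : Fact (Nat.Prime 2) := ⟨Nat.prime_two⟩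
  by_contra hne
  obtain ⟨h, hh, hhH⟩ := SetLike.exists_of_lt (lt_normalizerIn S.2 (lt_of_le_of_ne inf_le_left hne))
  exact hhH ⟨hh.1, tw.norm_of_norm hbig hh.2⟩

theorem norm_S {n : G} (hn : n ∈ normalizer ((S : Subgroup G) : Set G)) :
    n ∈ normalizer ((normalizerIn (S : Subgroup G) D : Subgroup G) : Set G) :=
  tw.norm_of_norm hbig (by rwa [tw.top hbig])

theorem mem_top' {x : G} (hx : x ∈ (S : Subgroup G)) :
    x ∈ normalizerIn (S : Subgroup G) (normalizerIn (S : Subgroup G) D) :=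
  (tw.top hbig).ge hx

/-- No subgroup `Ess` is normal in `S`. -/
theorem no_normal (hA : AI G) {E : Subgroup G} (hE : Ess S E) : ¬ (S : Subgroup G) ≤ normalizer (E : Set G) := by
  intro hn
  have hNE : ∀ {s x}, s ∈ (S : Subgroup G) → x ∈ E → s * x * s⁻¹ ∈ E := fun hs hx =>
    (mem_normalizer_iff.mp (hn hs) _).mp hx
  have hY : ∀ v ∈ E, v * v = 1 → v ∈ ctr S D := by
    intro v hv hv2
    have hD : ∀ w ∈ E, w ∈ D → w ∈ ctr S D := by
      intro w hw hwD
      by_contra hwY
      have h1 := hE.comm _ (hNE tw.mem hw) w hw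
      have h2 := tw.out.core.pure hwD hwY (hE.le (hNE tw.mem hw)) h1
      have h3 := conj_ctr tw.ess (inv_mem tw.mem) (inv_mem tw.norm) (tw.out.inter.le ⟨h2, w, hwD, rfl⟩)
      rw [show g⁻¹ * (g * w * g⁻¹) * g⁻¹⁻¹ = w by group] at h3
      exact hwY h3
    by_cases hvT : v ∈ normalizerIn (S : Subgroup G) D
    · rcases tw.inv_mem_union hvT hv2 with h | h
      · exact hD v hv h
      · have h0 := hNE (inv_mem tw.mem) hv
        rw [inv_inv] at h0
        have h1 := conj_ctr tw.ess tw.mem tw.norm (hD _ h0 (mem_map_conj.mp h))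
        rwa [show g * (g⁻¹ * v * g) * g⁻¹ = v by group] at h1
    exfalso
    obtain ⟨e, he, heY, he2⟩ := tw.out.core.exists_pure_inv
    have h1 := tw.swap (tw.mem_top' hbig (hE.le hv)) hvT he
    set d1 := v * e * v⁻¹ with hd1
    have hw : e * v⁻¹ * e⁻¹ ∈ E := hNE (tw.ess.le he) (inv_mem hv)
    have hx2 : d1 * e⁻¹ * (d1 * e⁻¹) = 1 := by
      have hc := hE.comm (e * v⁻¹ * e⁻¹) hw v hv
      calc d1 * e⁻¹ * (d1 * e⁻¹) = v * ((e * v⁻¹ * e⁻¹) * v) * (e * v⁻¹ * e⁻¹) := by rw [hd1]; group
        _ = v * (v * (e * v⁻¹ * e⁻¹)) * (e * v⁻¹ * e⁻¹) := by rw [hc]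
        _ = v * v * (e * (v * v)⁻¹ * e⁻¹) := by group
        _ = 1 := by rw [hv2, inv_one, one_mul, mul_one, mul_inv_cancel]
    have hd1T : d1 ∈ normalizerIn (S : Subgroup G) D :=
      (mem_normalizer_iff.mp (tw.mem_top' hbig (hE.le hv)).2 e).mp (tw.ess.le_normalizerIn he)
    have heT := tw.ess.le_normalizerIn he
    rcases tw.inv_mem_union (mul_mem hd1T (inv_mem heT)) hx2 with h | h
    · have h4 : d1 ∈ D := (mul_mem_cancel_right (inv_mem he)).mp h
      have h5 := conj_ctr tw.ess (inv_mem (hE.le hv)) (inv_mem (tw.mem_top' hbig (hE.le hv)).2)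
        (tw.out.inter.le ⟨h4, h1⟩)
      rw [hd1, show v⁻¹ * (v * e * v⁻¹) * v⁻¹⁻¹ = e by group] at h5
      exact heY h5
    · exact heY (tw.out.inter.le ⟨he, (Subgroup.inv_mem_iff _).mp ((mul_mem_cancel_left h1).mp h)⟩)
  letI := hE.commGroup
  obtain ⟨P, -, hX⟩ := hE.exists_tiAct hA
  let W : Subgroup E :=
    { carrier := {x | x * x = 1}
      one_mem' := one_mul 1
      mul_mem' := fun {x y} hx hy => by
        show x * y * (x * y) = 1
        rw [mul_mul_mul_comm, hx, hy, one_mul]
      inv_mem' := fun {x} hx => by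
        show x⁻¹ * x⁻¹ = 1
        rw [← mul_inv_rev, hx, inv_one] }
  have hW : ∀ x : autX E, ∀ w ∈ W, (autX E).subtype x w ∈ W := fun x w hw => by
    show (autX E).subtype x w * (autX E).subtype x w = 1
    rw [← map_mul, (show w * w = 1 from hw), map_one]
  have hinj := (hX.restrict W hW fun d hd => hd).inj
  have hsub : ∀ t ∈ normalizerIn (S : Subgroup G) D, t ∈ E := fun t ht => by
    have htE : t ∈ normalizerIn (S : Subgroup G) E := ⟨ht.1, hn ht.1⟩
    refine (hE.toX_eq_one htE).mp (hinj ?_)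
    rw [map_one]
    refine MulEquiv.ext fun w => Subtype.ext (Subtype.ext ?_)
    show t * ((w : E) : G) * t⁻¹ = ((w : E) : G)
    rw [ctr_comm (hY _ (w : E).2 (congrArg Subtype.val w.2)) ht, mul_inv_cancel_right]
  obtain ⟨t, ht, htD⟩ := tw.ess.exists_outside
  obtain ⟨d, hd, hne⟩ := tw.ess.exists_noncomm ht.1 htD
  exact hne (hE.comm d (hsub d (tw.ess.le_normalizerIn hd)) t (hsub t ht))

/-- Every subgroup `Ess` lies in `N_S(D)`. -/
theorem le_of_ess (hA : AI G) {E : Subgroup G} (hE : Ess S E) : E ≤ normalizerIn (S : Subgroup G) D := by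
  obtain ⟨k, twE⟩ := hE.exists_twin hA (tw.no_normal hbig hA hE)
  by_cases hEbig : (ctr S E).relIndex E ≠ 2
  · have he : normalizerIn (S : Subgroup G) E = normalizerIn (S : Subgroup G) D :=
      tw.eq_of_class_two hbig (fun x hx => tw.mem_top' hbig hx.1)
        (fun a ha b hb => twE.mul_outside (twE.mem_top' hEbig ha.1) (twE.mem_top' hEbig hb.1))
        fun x hx y hy => twE.class_two hx hy
    exact he ▸ hE.le_normalizerIn
  push Not at hEbig
  by_contra hnot
  obtain ⟨z0, hz0, hz0T⟩ := SetLike.not_le_iff_exists.mp hnot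
  set T := normalizerIn (S : Subgroup G) D with hT
  have cE := twE.out.core
  -- a pure involution of `E` outside `T`
  obtain ⟨r, hr, hrY, hr2, hrT⟩ : ∃ r ∈ E, r ∉ ctr S E ∧ r * r = 1 ∧ r ∉ T := by
    by_contra hc
    push Not at hc
    obtain ⟨v, hv, hvY, hv2⟩ := cE.exists_pure_inv
    have hvT := hc v hv hvY hv2
    obtain ⟨y, hy, hyT⟩ : ∃ y ∈ ctr S E, y ∉ T := by
      by_contra hc'
      push Not at hc'
      obtain ⟨e, he, f, hf, he2, rfl⟩ := cE.inv_part z0 hz0
      refine hz0T (mul_mem ?_ (hc' f hf))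
      by_cases heY : e ∈ ctr S E
      exacts [hc' e heY, hc e he heY he2]
    have hyS : y ∈ (S : Subgroup G) := hE.le (ctr_le hy)
    have hyv : y * v * y⁻¹ = v := by rw [hE.comm y (ctr_le hy) v hv, mul_inv_cancel_right]
    have hvYD : v ∈ ctr S D := by
      rcases tw.inv_mem_union hvT hv2 with h | h
      · have h1 := tw.swap (tw.mem_top' hbig hyS) hyT h
        rw [hyv] at h1
        exact tw.out.inter.le ⟨h, h1⟩
      · have h1 := tw.swap' (tw.mem_top' hbig hyS) hyT h
        rw [hyv] at h1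
        exact tw.out.inter.le ⟨h1, h⟩
    obtain ⟨t, ht, htD⟩ := tw.ess.exists_outside
    obtain ⟨d, hd, hne⟩ := tw.ess.exists_noncomm ht.1 htD
    have hT' : ∀ x ∈ T, x ∈ E := fun x hx => cE.pure hv hvY hx.1 (ctr_comm hvYD hx)
    exact hne (hE.comm d (hT' d (tw.ess.le_normalizerIn hd)) t (hT' t ht))
  have hrS : r ∈ (S : Subgroup G) := hE.le hr
  have hrN := tw.mem_top' hbig hrS
  have hri : r⁻¹ = r := inv_eq_of_mul_eq_one_right hr2
  -- each pure involution of `D` gives an element of order four in `N_S(E)`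
  have key : ∀ a ∈ D, a ∉ ctr S D → a * a = 1 →
      r * a * r ∈ T ∧ ⁅r * a * r, a⁆ ≠ 1 ∧ ∃ m ∈ normalizerIn (S : Subgroup G) E, m ∉ E ∧ ⁅m, r⁆ = ⁅r * a * r, a⁆ := by
    intro a ha haY ha2
    have haT := tw.ess.le_normalizerIn ha
    have hai : a⁻¹ = a := inv_eq_of_mul_eq_one_right ha2
    have h1 := tw.swap hrN hrT ha
    rw [hri] at h1
    have h1T : r * a * r ∈ T := by
      have := (mem_normalizer_iff.mp hrN.2 a).mp haT
      rwa [hri] at this
    have h1D : r * a * r ∉ D := fun h => haY (by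
      have := conj_ctr tw.ess hrS hrN.2 (tw.out.inter.le ⟨h, h1⟩)
      rw [hri, show r * (r * a * r) * r = (r * r) * a * (r * r) by group, hr2, one_mul, mul_one] at this
      exact this)
    have hne1 := tw.out.core.com_ne_one h1T h1D ha haY
    set c := ⁅r * a * r, a⁆ with hc
    have hcm : (r * (a * r * a)) * (r * (a * r * a)) = c := by
      rw [hc, commutatorElement_def, hai, show (r * a * r)⁻¹ = r * a * r by rw [mul_inv_rev, mul_inv_rev, hri, hai]; group]
      group
    obtain ⟨hm, hmE, -, hcomm⟩ := cE.four (m := r * (a * r * a)) hr hrY hr2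
      (mul_mem (mul_mem (tw.ess.le ha) hrS) (tw.ess.le ha))
      (by rw [show a * r * a * (a * r * a) = a * r * (a * a) * r * a by group, ha2, mul_one, mul_assoc a r r, hr2,
        mul_one, ha2])
      (fun e => hne1 (by
        rw [← hcm]
        calc r * (a * r * a) * (r * (a * r * a)) = r * (a * r * a) * (a * r * a * r) := by rw [e]
          _ = r * (a * r * (a * a) * r * a) * r := by group
          _ = 1 := by rw [ha2, mul_one, mul_assoc a r r, hr2, mul_one, ha2, mul_one, hr2]))
      (mul_mem hrS (mul_mem (mul_mem (tw.ess.le ha) hrS) (tw.ess.le ha)))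
      (by rw [hcm]; exact tw.out.core.com_sq h1T ha)
      (by rw [hcm]; exact hne1)
      (by rw [mul_inv_rev, mul_inv_rev, mul_inv_rev, hri, hai, show r * (r * (a * r * a)) * r =
        r * r * (a * r * a) * r by group, hr2, one_mul]; group)
      (by rw [mul_inv_rev, mul_inv_rev, mul_inv_rev, hri, hai,
        show a * r * a * (r * (a * r * a)) * (a * r * a) = a * r * a * r * (a * r * (a * a) * r * a) by group,
        ha2, mul_one, mul_assoc a r r, hr2, mul_one, ha2, mul_one]; group)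
    exact ⟨h1T, hne1, _, hm, hmE, hcomm.trans hcm⟩
  obtain ⟨a, ha, b, hb, ha2, hb2, haY, hbY, habY⟩ := tw.exists_three hbig
  have hab := tw.ess.comm a ha b hb
  have hab2 : a * b * (a * b) = 1 := by
    calc a * b * (a * b) = a * (b * a) * b := by group
      _ = a * a * (b * b) := by rw [← hab]; group
      _ = 1 := by rw [ha2, hb2, one_mul]
  set a' := r * a * r with ha'
  set b' := r * b * r with hb'
  obtain ⟨haT', hu1, m1, hm1, hm1E, e1⟩ := key a ha haY ha2
  obtain ⟨hbT', -, m2, hm2, hm2E, e2⟩ := key b hb hbY hb2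
  obtain ⟨-, -, m3, hm3, hm3E, e3⟩ := key (a * b) (mul_mem ha hb) habY hab2
  have hq : r * (a * b) * r = a' * b' := by
    rw [ha', hb', show r * a * r * (r * b * r) = r * a * (r * r) * b * r by group, hr2, mul_one, mul_assoc r a b]
  rw [hq] at e3
  set u := ⁅a', a⁆ with hu
  have eb : ⁅b', b⁆ = u := by rw [← e1, ← e2]; exact cE.const hEbig hm2 hm2E hm1 hm1E hr hrY hr hrY
  have eab : ⁅a' * b', a * b⁆ = u := by rw [← e1, ← e3]; exact cE.const hEbig hm3 hm3E hm1 hm1E hr hrY hr hrY
  have c := tw.out.core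
  set z := ⁅a', b⁆ with hz
  set z' := ⁅b', a⁆ with hz'
  have hzY := c.com_mem a' haT' b hb
  have hzY' := c.com_mem b' hbT' a ha
  have huY := c.com_mem a' haT' a ha
  have hYc : ∀ {x y}, x ∈ ctr S D → y ∈ ctr S D → x * y = y * x := fun hx hy =>
    tw.ess.comm _ (ctr_le hx) _ (ctr_le hy)
  have hzz : z' * z = u := by
    rw [c.com_left haT' hbT' (mul_mem ha hb), c.com_right hbT' ha hb, c.com_right haT' ha hb, eb, ← hu, ← hz,
      ← hz'] at eab
    calc z' * z = z' * (u * u) * z := by rw [c.com_sq haT' ha, mul_one]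
      _ = z' * u * (u * z) := by group
      _ = u := eab
  have hzr : r * z * r = z' := by
    calc r * z * r = ⁅r * a' * r⁻¹, r * b * r⁻¹⁆ := by
          rw [hz, commutatorElement_def, commutatorElement_def, hri]
          simp only [mul_inv_rev, hri, mul_assoc]
          simp only [← mul_assoc r r, hr2, one_mul]
      _ = ⁅a, b'⁆ := by
          rw [hri, ha', hb', show r * (r * a * r) * r = (r * r) * a * (r * r) by group, hr2, one_mul, mul_one]
      _ = z'⁻¹ := by rw [hz', commutatorElement_inv]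
      _ = z' := inv_eq_of_mul_eq_one_right (c.com_sq hbT' ha)
  have huz : u * z' = z := by
    rw [← hzz, mul_assoc, hYc hzY hzY', ← mul_assoc, c.com_sq hbT' ha, one_mul]
  -- the diagonal elements centralise `r`
  have hw : ∀ x ∈ D, x * x = 1 → r * x * r ∈ T → ⁅r * x * r, x⁆ = u → x * (r * x * r) * z ∈ E := by
    intro x hx hx2 hxT hxu
    refine cE.pure hr hrY (mul_mem (mul_mem (tw.ess.le hx) hxT.1) (tw.ess.le (ctr_le hzY))) ?_
    have hxi : x⁻¹ = x := inv_eq_of_mul_eq_one_right hx2
    have h1 : r * x * r * x = u * (x * (r * x * r)) := by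
      rw [← hxu, commutatorElement_def]; group
    have h2 : r * (x * (r * x * r) * z) * r = x * (r * x * r) * z := by
      calc r * (x * (r * x * r) * z) * r = r * x * r * (x * (r * z * r)) := by
            simp only [mul_assoc, ← mul_assoc r r, hr2, one_mul, mul_one]
        _ = r * x * r * x * z' := by rw [hzr]; group
        _ = u * (x * (r * x * r)) * z' := by rw [h1]
        _ = x * (r * x * r) * (u * z') := by
            rw [← ctr_comm huY (mul_mem (tw.ess.le_normalizerIn hx) hxT), mul_assoc]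
        _ = x * (r * x * r) * z := by rw [huz]
    calc x * (r * x * r) * z * r = r * (x * (r * x * r) * z) * r * r := by rw [h2]
      _ = r * (x * (r * x * r) * z) := by rw [mul_assoc, hr2, mul_one]
  clear_value u z z'
  have haT := tw.ess.le_normalizerIn ha
  have hbT := tw.ess.le_normalizerIn hb
  have hwa := hw a ha ha2 haT' (ha' ▸ hu.symm)
  have hwb := hw b hb hb2 hbT' eb
  have hab' : a' * b' = b' * a' := by
    rw [← hq, hab, ha', hb', show r * b * r * (r * a * r) = r * b * (r * r) * a * r by group, hr2, mul_one,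
      mul_assoc r b a]
  have hz2 : z * z = 1 := hz ▸ c.com_sq haT' hb
  clear_value a' b'
  rw [← hz] at hzY; rw [← hz'] at hzY'
  rw [← ha'] at haT' hwa; rw [← hb'] at hbT' hwb
  have p1 : a * a' * z * (b * b' * z) = z * (a * b * (a' * b')) := by
    calc a * a' * z * (b * b' * z) = a * a' * (z * (b * b')) * z := by group
      _ = a * a' * (b * b') * (z * z) := by rw [← ctr_comm hzY (mul_mem hbT hbT')]; group
      _ = a * z * b * a' * b' := by rw [hz2, hz, commutatorElement_def]; group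
      _ = z * a * b * a' * b' := by rw [ctr_comm hzY haT]
      _ = z * (a * b * (a' * b')) := by group
  have p2 : b * b' * z * (a * a' * z) = z' * (a * b * (a' * b')) := by
    calc b * b' * z * (a * a' * z) = b * b' * (z * (a * a')) * z := by group
      _ = b * b' * (a * a') * (z * z) := by rw [← ctr_comm hzY (mul_mem haT haT')]; group
      _ = b * z' * a * b' * a' := by rw [hz2, hz', commutatorElement_def]; group
      _ = z' * b * a * b' * a' := by rw [ctr_comm hzY' hbT]
      _ = z' * (b * a * (b' * a')) := by group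
      _ = z' * (a * b * (a' * b')) := by rw [hab, hab']
  have hzeq : z = z' := mul_right_cancel (p1.symm.trans ((hE.comm _ hwa _ hwb).trans p2))
  exact hu1 (by rw [← hzz, ← hzeq, hz2])

/-- The case does not occur. -/
theorem false_of_big [IsSimpleGroup G] (hA : AI G) (hG : ¬ IsMulCommutative G) : False := by
  refine tw.outside (hA.focal hG (fun n hn a ha => ?_) (fun E hE => tw.le_of_ess hbig hA hE) tw.mem)
  set T := normalizerIn (S : Subgroup G) D with hT
  have hnT := tw.norm_S hbig hn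
  have hna : n * a * n⁻¹ ∈ (S : Subgroup G) := (mem_normalizer_iff.mp hn a).mp ha
  by_cases haT : a ∈ T
  · exact mul_mem (inv_mem haT) ((mem_normalizer_iff.mp hnT a).mp haT)
  · exact tw.mul_outside (tw.mem_top' hbig (inv_mem ha)) (tw.mem_top' hbig hna) (fun h => haT (inv_mem_iff.mp h))
      fun h => haT ((mem_normalizer_iff.mp hnT a).mpr h)

end

end Twin

end CfsgLib.AbelianInt
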