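import Cfsg.Agent.Lib.AbelianInt.Facts

/-!
All subgroups `Ess` normal in `S`: then `S` has class at most two.

Blueprint: `blueprint/S3186.md`, section 3.
-/

set_option autoImplicit false
set_option linter.unusedSectionVars false
set_option linter.style.haveILetI false

namespace CfsgLib.AbelianInt

open Cfsg Cfsg.FusionSystem Subgroup CfsgLib.CentralInt
open scoped commutatorElement

universe u

variable {G : Type u} [Group G] [Finite G] {S : Sylow 2 G}

/-- The commutators of `S` are central. -/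
def Class2 (S : Sylow 2 G) : Prop :=
  ∀ x ∈ (S : Subgroup G), ∀ y ∈ (S : Subgroup G), Cen (S : Subgroup G) ⁅x, y⁆

/-- Two abelian normal subgroups whose commutators are central. -/
theorem comm_central {T A B : Subgroup G} {x y : G} (hA : ∀ a ∈ A, ∀ a' ∈ A, a * a' = a' * a)
    (hB : ∀ b ∈ B, ∀ b' ∈ B, b * b' = b' * b) (hAT : A ≤ T) (hBT : B ≤ T)
    (hc : ∀ b ∈ B, ∀ a ∈ A, ⁅b, a⁆ ∈ A ⊓ centralizer (T : Set G))
    (hx : ∃ a ∈ A, ∃ b ∈ B, x = a * b) (hy : ∃ a ∈ A, ∃ b ∈ B, y = a * b) : Cen T ⁅x, y⁆ := by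
  obtain ⟨a, ha, b, hb, rfl⟩ := hx
  obtain ⟨e, he, k, hk, rfl⟩ := hy
  have hcT : ∀ {z}, z ∈ A ⊓ centralizer (T : Set G) → Cen T z := fun hz t ht =>
    mem_centralizer_iff.mp hz.2 t ht
  set c1 := ⁅b, e⁆ with h1
  set c2 := ⁅k, a⁆ with h2
  have hm1 := hcT (hc b hb e he)
  have hm2 := hcT (hc k hk a ha)
  have e1 : a * b * (e * k) = c1 * (a * e * (b * k)) := by
    calc a * b * (e * k) = a * c1 * e * b * k := by rw [h1, commutatorElement_def]; group
      _ = c1 * a * e * b * k := by rw [hm1 a (hAT ha)]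
      _ = c1 * (a * e * (b * k)) := by group
  have e2 : e * k * (a * b) = c2 * (a * e * (b * k)) := by
    calc e * k * (a * b) = e * c2 * a * k * b := by rw [h2, commutatorElement_def]; group
      _ = c2 * e * a * k * b := by rw [hm2 e (hAT he)]
      _ = c2 * (e * a * (k * b)) := by group
      _ = c2 * (a * e * (b * k)) := by rw [hA e he a ha, hB k hk b hb]
  have : ⁅a * b, e * k⁆ = c1 * c2⁻¹ := by
    calc ⁅a * b, e * k⁆ = a * b * (e * k) * (e * k * (a * b))⁻¹ := by rw [commutatorElement_def]; group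
      _ = c1 * c2⁻¹ := by rw [e1, e2]; group
  rw [this]
  exact hm1.mul hm2.inv

/-- The centre of `S`, as a subgroup of `G`. -/
def centreOf (S : Sylow 2 G) : Subgroup G :=
  (S : Subgroup G) ⊓ centralizer ((S : Subgroup G) : Set G)

theorem mem_centreOf {x : G} : x ∈ centreOf S ↔ x ∈ (S : Subgroup G) ∧ Cen (S : Subgroup G) x := by
  rw [centreOf, mem_inf, mem_centralizer_iff]
  rfl

theorem centreOf_conj {n x : G} (hn : n ∈ normalizer ((S : Subgroup G) : Set G)) (hx : x ∈ centreOf S) :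
    n * x * n⁻¹ ∈ centreOf S :=
  mem_centreOf.mpr ⟨(mem_normalizer_iff.mp hn x).mp (mem_centreOf.mp hx).1, (mem_centreOf.mp hx).2.conj hn⟩

theorem class2_of_bot (h : (S : Subgroup G) = ⊥) : Class2 S := fun x hx y _ s hs => by
  rw [h, mem_bot] at hx hs
  rw [hx, hs, commutatorElement_one_left]

theorem centreOf_ne_bot (h : (S : Subgroup G) ≠ ⊥) : centreOf S ≠ ⊥ := by
  haveI : Fact (Nat.Prime 2) := ⟨Nat.prime_two⟩
  obtain ⟨z, hzS, hz, hzc⟩ := CfsgLib.Comp.exists_central_in_normal (p := 2) S.isPGroup' le_rfl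
    (fun s hs => Subgroup.le_normalizer hs) h
  intro e
  have hz1 : z = 1 := mem_bot.mp (e ▸ mem_centreOf.mpr ⟨hzS, fun s hs => hzc s hs⟩)
  rw [hz1, orderOf_one] at hz
  norm_num at hz

/-- All subgroups `Ess` normal in `S`. -/
theorem class2_of_normal [IsSimpleGroup G] (hA : AI G) (hn : ∀ D, Ess S D → (S : Subgroup G) ≤ normalizer (D : Set G)) : Class2 S := by
  haveI : Fact (Nat.Prime 2) := ⟨Nat.prime_two⟩
  by_cases hS : (S : Subgroup G) = ⊥
  · exact class2_of_bot hS
  have hT : ∀ D, Ess S D → normalizerIn (S : Subgroup G) D = (S : Subgroup G) := fun D hD => inf_of_le_left (hn D hD)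
  by_cases htwo : ∃ D D', Ess S D ∧ Ess S D' ∧ D' ≠ D
  · obtain ⟨D, D', hD, hD', hne⟩ := htwo
    have key : ∀ D D', Ess S D → Ess S D' → D' ≠ D → Nat.card D ≤ Nat.card D' → Class2 S := by
      intro D D' hD hD' hne hle
      have hp : Partner S D D' := ⟨hD, hne, hD'.le.trans (hT D hD).ge,
        fun t ht x hx => (mem_normalizer_iff.mp (hn D' hD' ht.1) x).mp hx, hD'.comm,
        fun s hs h => hD'.self s hs.1 h, hle⟩
      have out := hp.out hA
      intro x hx y hy
      refine comm_central hD.comm hD'.comm hD.le hD'.le (fun b hb a ha => ?_)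
        (out.gen x ((hT D hD).ge hx)) (out.gen y ((hT D hD).ge hy))
      have h1 := out.core.com_mem b ((hT D hD).ge (hD'.le hb)) a ha
      rw [ctr, hT D hD] at h1
      exact h1
    rcases le_total (Nat.card D) (Nat.card D') with h | h
    · exact key D D' hD hD' hne h
    · exact key D' D hD' hD hne.symm h
  push Not at htwo
  by_cases hone : ∃ D, Ess S D
  · obtain ⟨D, hD⟩ := hone
    refine class_two_of_closed (A := D) (fun e => ?_) hD.comm ?_
    · obtain ⟨t, ht, htD⟩ := hD.exists_outside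
      exact htD (hD.self t ht.1 fun d hd => by
        rw [e, mem_bot] at hd
        rw [hd, one_mul, mul_one])
    · refine hA.closed hD.le (fun n hn' a ha => ?_) fun E hE g hg a ha _ => ?_
      · exact htwo D _ hD (hD.conj hn') ▸ ⟨a, ha, rfl⟩
      · exact htwo D E hD hE ▸ Ess.conj_mem hg ha
  push Not at hone
  exact class_two_of_closed (A := centreOf S) (centreOf_ne_bot hS)
    (fun x hx y hy => (mem_centreOf.mp hy).2 x (mem_centreOf.mp hx).1)
    (hA.closed inf_le_left (fun n hn' a ha => centreOf_conj hn' ha) fun E hE => absurd hE (hone E))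

end CfsgLib.AbelianInt
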