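import Cfsg.Agent.Lib.AbelianInt.Orbit
import Cfsg.Agent.Lib.AbelianInt.NormalCase

/-!
All subgroups `Ess` not normal in `S` have index two over the centre of their normaliser in `S`: a common
distinguished commutator.

Blueprint: `blueprint/S3186.md`, section 5.
-/

set_option autoImplicit false
set_option linter.unusedSectionVars false
set_option linter.style.haveILetI false

namespace CfsgLib.AbelianInt

open Cfsg Cfsg.FusionSystem Subgroup
open scoped commutatorElement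

universe u

variable {G : Type u} [Group G]

/-- A subgroup `Ess` that is not normal in `S`. -/
def NN (S : Sylow 2 G) (D : Subgroup G) : Prop :=
  Ess S D ∧ ¬ (S : Subgroup G) ≤ normalizer (D : Set G)

/-- The distinguished involutions. -/
def ISet (S : Sylow 2 G) (x : G) : Prop := ∃ D, NN S D ∧ IsI S D x

variable [Finite G] {S : Sylow 2 G} {D E : Subgroup G}

theorem mem_normalizer_conj {n x : G} :
    x ∈ normalizer ((D.map (MulAut.conj n).toMonoidHom : Subgroup G) : Set G) ↔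
      n⁻¹ * x * n ∈ normalizer (D : Set G) := by
  refine ⟨fun h => mem_normalizer_iff.mpr fun y => ?_, fun h => mem_normalizer_iff.mpr fun y => ?_⟩
  · have h1 := mem_normalizer_iff.mp h (n * y * n⁻¹)
    rw [mem_map_conj, mem_map_conj, show n⁻¹ * (n * y * n⁻¹) * n = y by group,
      show n⁻¹ * (x * (n * y * n⁻¹) * x⁻¹) * n = n⁻¹ * x * n * y * (n⁻¹ * x * n)⁻¹ by group] at h1
    exact h1
  · rw [mem_map_conj, mem_map_conj, mem_normalizer_iff.mp h (n⁻¹ * y * n),
      show n⁻¹ * x * n * (n⁻¹ * y * n) * (n⁻¹ * x * n)⁻¹ = n⁻¹ * (x * y * x⁻¹) * n by group]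

section Conj

variable {n : G} (hn : n ∈ normalizer ((S : Subgroup G) : Set G))
include hn

theorem mem_normalizerIn_conj {x : G} :
    x ∈ normalizerIn (S : Subgroup G) (D.map (MulAut.conj n).toMonoidHom) ↔
      n⁻¹ * x * n ∈ normalizerIn (S : Subgroup G) D :=
  and_congr (mem_normalizer_iff''.mp hn x) mem_normalizer_conj

theorem mem_ctr_conj {x : G} : x ∈ ctr S (D.map (MulAut.conj n).toMonoidHom) ↔ n⁻¹ * x * n ∈ ctr S D := by
  rw [mem_ctr, mem_ctr, mem_map_conj]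
  refine and_congr_right fun _ => ⟨fun h t ht => ?_, fun h t ht => ?_⟩
  · have h1 := h (n * t * n⁻¹) ((mem_normalizerIn_conj hn).mpr (by simpa [mul_assoc] using ht))
    calc t * (n⁻¹ * x * n) = n⁻¹ * (n * t * n⁻¹ * x) * n := by group
      _ = n⁻¹ * (x * (n * t * n⁻¹)) * n := by rw [h1]
      _ = n⁻¹ * x * n * t := by group
  · have h1 := h _ ((mem_normalizerIn_conj hn).mp ht)
    calc t * x = n * (n⁻¹ * t * n * (n⁻¹ * x * n)) * n⁻¹ := by group
      _ = n * (n⁻¹ * x * n * (n⁻¹ * t * n)) * n⁻¹ := by rw [h1]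
      _ = x * t := by group

theorem NN.conj (h : NN S D) : NN S (D.map (MulAut.conj n).toMonoidHom) := by
  refine ⟨h.1.conj hn, fun hle => h.2 fun s hs => ?_⟩
  have h1 := hle ((mem_normalizer_iff.mp hn s).mp hs)
  rw [mem_normalizer_conj, show n⁻¹ * (n * s * n⁻¹) * n = s by group] at h1
  exact h1

theorem IsU.conj {w : G} (h : IsU S D w) : IsU S (D.map (MulAut.conj n).toMonoidHom) (n * w * n⁻¹) := by
  obtain ⟨t, ht, htD, d, hd, hdY, rfl⟩ := h
  exact ⟨n * t * n⁻¹, (mem_normalizerIn_conj hn).mpr (by simpa [mul_assoc] using ht),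
    fun e => htD (by simpa [mul_assoc] using mem_map_conj.mp e), n * d * n⁻¹, ⟨d, hd, rfl⟩,
    fun e => hdY (by simpa [mul_assoc] using (mem_ctr_conj hn).mp e), conj_commutator⟩

theorem IsI.conj {r : G} (h : IsI S D r) : IsI S (D.map (MulAut.conj n).toMonoidHom) (n * r * n⁻¹) := by
  obtain ⟨hrY, g, hg, w, hw, rfl⟩ := h
  refine ⟨fun e => hrY (by simpa [mul_assoc] using (mem_ctr_conj hn).mp e), n * g * n⁻¹,
    mem_normalizer_conj.mpr (by simpa [mul_assoc] using hg), n * w * n⁻¹, hw.conj hn, by group⟩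

theorem ISet.conj {x : G} (h : ISet S x) : ISet S (n * x * n⁻¹) := by
  obtain ⟨D, hD, hr⟩ := h
  exact ⟨_, hD.conj hn, hr.conj hn⟩

end Conj

/-- The situation of section 5. -/
structure Setting (S : Sylow 2 G) : Prop where
  ai : AI G
  small : ∀ D, NN S D → (ctr S D).relIndex D = 2

namespace Setting

variable (hs : Setting S)
include hs

theorem core (h : NN S D) : Core S D := by
  obtain ⟨g, tw⟩ := h.1.exists_twin hs.ai h.2
  exact tw.out.core

/-- Commuting elements outside the centres belong to the same subgroup. -/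
theorem eq_of_comm (hD : NN S D) (hE : NN S E) {r r' : G} (hr : r ∈ D) (hrY : r ∉ ctr S D) (hr' : r' ∈ E)
    (hrY' : r' ∉ ctr S E) (h : r * r' = r' * r) : E = D := by
  have h1 : r' ∈ D := (hs.core hD).pure hr hrY (hE.1.le hr') h.symm
  have h2 : r' ∉ ctr S D := by
    intro e
    obtain ⟨t, ht, htD⟩ := hD.1.exists_outside
    obtain ⟨d, hd, hne⟩ := hD.1.exists_noncomm ht.1 htD
    have hT : ∀ s ∈ normalizerIn (S : Subgroup G) D, s ∈ E := fun s hs' =>
      (hs.core hE).pure hr' hrY' hs'.1 (ctr_comm e hs')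
    exact hne (hE.1.comm d (hT d (hD.1.le_normalizerIn hd)) t (hT t ht))
  exact le_antisymm (fun x hx => (hs.core hD).pure h1 h2 (hE.1.le hx) (hE.1.comm x hx r' hr'))
    fun x hx => (hs.core hE).pure hr' hrY' (hD.1.le hx) (hD.1.comm x hx r' h1)

theorem isI_mem (hD : NN S D) {r : G} (h : IsI S D r) : r ∈ D ∧ r ∉ ctr S D ∧ r * r = 1 :=
  ⟨(h.mem hD.1 (hs.core hD)).1, h.1, (h.mem hD.1 (hs.core hD)).2⟩

theorem iSet_mem {x : G} (h : ISet S x) : x ∈ (S : Subgroup G) ∧ x * x = 1 := by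
  obtain ⟨D, hD, hr⟩ := h
  exact ⟨hD.1.le (hs.isI_mem hD hr).1, (hs.isI_mem hD hr).2.2⟩

end Setting

/-- Two non-commuting involutions of a 2-group invert an element of order four in the group they generate. -/
theorem exists_four {a b : G} (ha : a ∈ (S : Subgroup G)) (hb : b ∈ (S : Subgroup G)) (ha2 : a * a = 1)
    (hb2 : b * b = 1) (hne : a * b ≠ b * a) : ∃ j, orderOf (a * b) = 2 ^ (j + 2) ∧
      (a * b) ^ 2 ^ j * (a * b) ^ 2 ^ j * ((a * b) ^ 2 ^ j * (a * b) ^ 2 ^ j) = 1 ∧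
      (a * b) ^ 2 ^ j * (a * b) ^ 2 ^ j ≠ 1 ∧ a * (a * b) ^ 2 ^ j * a = ((a * b) ^ 2 ^ j)⁻¹ ∧
      b * (a * b) ^ 2 ^ j * b = ((a * b) ^ 2 ^ j)⁻¹ := by
  haveI : Fact (Nat.Prime 2) := ⟨Nat.prime_two⟩
  have hai : a⁻¹ = a := inv_eq_of_mul_eq_one_right ha2
  have hbi : b⁻¹ = b := inv_eq_of_mul_eq_one_right hb2
  obtain ⟨i, hi⟩ := S.2 ⟨a * b, mul_mem ha hb⟩
  obtain ⟨k, -, hk⟩ := (Nat.dvd_prime_pow Nat.prime_two).mp
    (orderOf_dvd_of_pow_eq_one (show (a * b) ^ 2 ^ i = 1 from congrArg Subtype.val hi))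
  rcases k with _ | _ | j
  · exfalso
    rw [pow_zero, orderOf_eq_one_iff] at hk
    refine hne (hk.trans ?_)
    rw [show b * a = (a * b)⁻¹ by rw [mul_inv_rev, hai, hbi], hk, inv_one]
  · exfalso
    have h2 := pow_orderOf_eq_one (a * b)
    rw [hk, zero_add, pow_one, pow_two] at h2
    refine hne (((inv_eq_of_mul_eq_one_right h2).symm).trans ?_)
    rw [mul_inv_rev, hai, hbi]
  refine ⟨j, hk, ?_, fun h => ?_, ?_, ?_⟩
  · rw [← pow_add, ← pow_add, show 2 ^ j + 2 ^ j + (2 ^ j + 2 ^ j) = orderOf (a * b) by rw [hk]; ring]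
    exact pow_orderOf_eq_one _
  · rw [← pow_add] at h
    have h' := Nat.le_of_dvd (by positivity) (orderOf_dvd_of_pow_eq_one h)
    rw [hk] at h'
    have : 0 < 2 ^ j := by positivity
    rw [pow_succ, pow_succ] at h'
    omega
  · calc a * (a * b) ^ 2 ^ j * a = (a * (a * b) * a⁻¹) ^ 2 ^ j := by rw [conj_pow, hai]
      _ = ((a * b) ^ 2 ^ j)⁻¹ := by
        rw [← inv_pow, mul_inv_rev, hai, hbi, ← mul_assoc a a b, ha2, one_mul]
  · calc b * (a * b) ^ 2 ^ j * b = (b * (a * b) * b⁻¹) ^ 2 ^ j := by rw [conj_pow, hbi]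
      _ = ((a * b) ^ 2 ^ j)⁻¹ := by
        rw [← inv_pow, mul_inv_rev, hai, hbi, mul_assoc b (a * b) b, mul_assoc a b b, hb2, mul_one]

namespace Setting

variable (hs : Setting S)
include hs

theorem u_common (hD : NN S D) (hE : NN S E) {w w' : G} (hw : IsU S D w) (hw' : IsU S E w') : w = w' := by
  by_cases hDE : E = D
  · subst hDE
    exact (hs.core hD).isU_eq (hs.small _ hD) hw hw'
  obtain ⟨r, hr, hrY, hr2⟩ := (hs.core hD).exists_pure_inv
  obtain ⟨r', hr', hrY', hr2'⟩ := (hs.core hE).exists_pure_inv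
  have hne : r * r' ≠ r' * r := fun e => hDE (hs.eq_of_comm hD hE hr hrY hr' hrY' e)
  obtain ⟨j, -, h4, hm2, h1, h1'⟩ := exists_four (hD.1.le hr) (hE.1.le hr') hr2 hr2' hne
  set m := (r * r') ^ 2 ^ j
  have hmS : m ∈ (S : Subgroup G) := pow_mem (mul_mem (hD.1.le hr) (hE.1.le hr')) _
  obtain ⟨hmT, hmD, -, hc⟩ := (hs.core hD).four hr hrY hr2 (hE.1.le hr') hr2' hne hmS h4 hm2 h1 h1'
  obtain ⟨hmT', hmE, -, hc'⟩ := (hs.core hE).four hr' hrY' hr2' (hD.1.le hr) hr2 (Ne.symm hne) hmS h4 hm2 h1' h1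
  rw [(hs.core hD).isU_eq (hs.small _ hD) hw (w' := m * m) ⟨m, hmT, hmD, r, hr, hrY, hc.symm⟩,
    (hs.core hE).isU_eq (hs.small _ hE) hw' (w' := m * m) ⟨m, hmT', hmE, r', hr', hrY', hc'.symm⟩]

theorem u_fixed (hD : NN S D) {w n : G} (hw : IsU S D w) (hn : n ∈ normalizer ((S : Subgroup G) : Set G)) :
    n * w * n⁻¹ = w :=
  (hs.u_common hD (hD.conj hn) hw (hw.conj hn)).symm

theorem not_sq (hD : NN S D) {w f : G} (hw : IsU S D w) (hf : f ∈ D) : f * f ≠ w := by
  intro e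
  have hw1 := ((hs.core hD).isU_props hw).2.2
  obtain ⟨f', hf', he⟩ := (hs.core hD).exists_sq hf
  obtain ⟨t, ht, -, d, hd, -, rfl⟩ := hw
  exact hw1 (eq_one_of_comm_eq ((hs.core hD).no_sq t ht d hd f' hf' (e.symm.trans he)))

end Setting

end CfsgLib.AbelianInt
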