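import Cfsg.Agent.Lib.AbelianInt.Common

/-!
The dihedral subgroup generated by two distinguished involutions with product of maximal order contains all of them.

Blueprint: `blueprint/S3186.md`, section 5.
-/

set_option autoImplicit false
set_option linter.unusedSectionVars false
set_option linter.style.haveILetI false

namespace CfsgLib.AbelianInt

open Cfsg Cfsg.FusionSystem Subgroup
open scoped commutatorElement

universe u

variable {G : Type u} [Group G] [Finite G] {S : Sylow 2 G}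

/-- Two distinguished involutions with product of maximal order `2 ^ (j + 2)`, and the common commutator. -/
structure Dih (S : Sylow 2 G) (v w u : G) (j : ℕ) : Prop where
  set : Setting S
  hv : ISet S v
  hw : ISet S w
  ord : orderOf (v * w) = 2 ^ (j + 2)
  max : ∀ a b, ISet S a → ISet S b → orderOf (a * b) ≤ 2 ^ (j + 2)
  isU : ∀ D, NN S D → IsU S D u

theorem Setting.exists_dih (hs : Setting S) {D : Subgroup G} (hD : NN S D) : ∃ v w u j, Dih S v w u j := by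
  classical
  haveI : Fact (Nat.Prime 2) := ⟨Nat.prime_two⟩
  haveI := Fintype.ofFinite G
  obtain ⟨g, tw⟩ := hD.1.exists_twin hs.ai hD.2
  have hg : g ∈ normalizer ((S : Subgroup G) : Set G) := Subgroup.le_normalizer tw.mem
  have hne : D.map (MulAut.conj g).toMonoidHom ≠ D := fun e => tw.outside
    ⟨tw.mem, mem_normalizer_fintype fun d hd => e ▸ ⟨d, hd, rfl⟩⟩
  obtain ⟨r, hr⟩ := (hs.core hD).exists_isI (hs.small D hD) hs.ai
  have hr' := hr.conj hg
  set r' := g * r * g⁻¹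
  obtain ⟨h1, h2, h3⟩ := hs.isI_mem hD hr
  obtain ⟨h1', h2', h3'⟩ := hs.isI_mem (hD.conj hg) hr'
  obtain ⟨j0, hj0, -⟩ := exists_four (hD.1.le h1) ((hD.conj hg).1.le h1') h3 h3'
    fun e => hne (hs.eq_of_comm hD (hD.conj hg) h1 h2 h1' h2' e)
  obtain ⟨p, hp, hmax⟩ := (Finset.univ.filter fun p : G × G => ISet S p.1 ∧ ISet S p.2).exists_max_image
    (fun p => orderOf (p.1 * p.2)) ⟨(r, r'), by
      simp only [Finset.mem_filter, Finset.mem_univ, true_and]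
      exact ⟨⟨D, hD, hr⟩, ⟨_, hD.conj hg, hr'⟩⟩⟩
  simp only [Finset.mem_filter, Finset.mem_univ, true_and] at hp hmax
  have hge : 2 ^ (j0 + 2) ≤ orderOf (p.1 * p.2) := hj0 ▸ hmax (r, r') ⟨⟨D, hD, hr⟩, ⟨_, hD.conj hg, hr'⟩⟩
  obtain ⟨i, hi⟩ := S.2 ⟨p.1 * p.2, mul_mem (hs.iSet_mem hp.1).1 (hs.iSet_mem hp.2).1⟩
  obtain ⟨k, -, hk⟩ := (Nat.dvd_prime_pow Nat.prime_two).mp
    (orderOf_dvd_of_pow_eq_one (show (p.1 * p.2) ^ 2 ^ i = 1 from congrArg Subtype.val hi))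
  rw [hk] at hge
  obtain ⟨j, rfl⟩ : ∃ j, k = j + 2 :=
    ⟨k - 2, by have := (Nat.pow_le_pow_iff_right (by norm_num)).mp hge; omega⟩
  obtain ⟨u, hu⟩ := (hs.core hD).exists_isU
  refine ⟨p.1, p.2, u, j, hs, hp.1, hp.2, hk, fun a b ha hb => hk ▸ hmax (a, b) ⟨ha, hb⟩, fun E hE => ?_⟩
  obtain ⟨u', hu'⟩ := (hs.core hE).exists_isU
  rwa [hs.u_common hD hE hu hu']

namespace Dih

variable {v w u : G} {j : ℕ} (d : Dih S v w u j)
include d

theorem v2 : v * v = 1 := (d.set.iSet_mem d.hv).2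

theorem w2 : w * w = 1 := (d.set.iSet_mem d.hw).2

theorem vS : v ∈ (S : Subgroup G) := (d.set.iSet_mem d.hv).1

theorem eS : v * w ∈ (S : Subgroup G) := mul_mem d.vS (d.set.iSet_mem d.hw).1

theorem flip (i : ℤ) : v * (v * w) ^ i = (v * w) ^ (-i) * v := by
  have h : v * (v * w) * v⁻¹ = (v * w)⁻¹ := by
    rw [mul_inv_rev, inv_eq_of_mul_eq_one_right d.v2, inv_eq_of_mul_eq_one_right d.w2, ← mul_assoc v v w, d.v2,
      one_mul]
  have h1 : v * (v * w) ^ i * v⁻¹ = (v * w) ^ (-i) := by rw [← conj_zpow, h, inv_zpow, zpow_neg]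
  rw [← h1, inv_mul_cancel_right]

theorem w_eq : w = v * (v * w) ^ (1 : ℤ) := by rw [zpow_one, ← mul_assoc, d.v2, one_mul]

theorem rot_refl (a b : ℤ) : (v * w) ^ a * (v * (v * w) ^ b) = v * (v * w) ^ (b - a) := by
  rw [← mul_assoc, show (v * w) ^ a = (v * w) ^ (- -a) by rw [neg_neg], ← d.flip, mul_assoc, ← zpow_add,
    show -a + b = b - a by ring]

theorem refl_refl (a b : ℤ) : v * (v * w) ^ a * (v * (v * w) ^ b) = (v * w) ^ (b - a) := by
  rw [mul_assoc, d.rot_refl, ← mul_assoc, d.v2, one_mul]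

theorem refl_conj (a b : ℤ) : (v * w) ^ a * (v * (v * w) ^ b) * ((v * w) ^ a)⁻¹ = v * (v * w) ^ (b - 2 * a) := by
  rw [d.rot_refl, mul_assoc, ← zpow_neg, ← zpow_add, show b - a + -a = b - 2 * a by ring]

theorem refl_sq (a : ℤ) : v * (v * w) ^ a * (v * (v * w) ^ a) = 1 := by
  rw [d.refl_refl, sub_self, zpow_zero]

theorem mem_Q {x : G} (h : x ∈ closure ({v, w} : Set G)) :
    ∃ i : ℤ, x = (v * w) ^ i ∨ x = v * (v * w) ^ i := by
  induction h using Subgroup.closure_induction with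
  | mem x hx =>
    rcases hx with rfl | rfl
    · exact ⟨0, Or.inr (by rw [zpow_zero, mul_one])⟩
    · exact ⟨1, Or.inr d.w_eq⟩
  | one => exact ⟨0, Or.inl (zpow_zero _).symm⟩
  | mul x y _ _ hx hy =>
    obtain ⟨a, rfl | rfl⟩ := hx <;> obtain ⟨b, rfl | rfl⟩ := hy
    · exact ⟨a + b, Or.inl (zpow_add _ _ _).symm⟩
    · exact ⟨b - a, Or.inr (d.rot_refl a b)⟩
    · exact ⟨a + b, Or.inr (by rw [mul_assoc, zpow_add])⟩
    · exact ⟨b - a, Or.inl (d.refl_refl a b)⟩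
  | inv x _ hx =>
    obtain ⟨a, rfl | rfl⟩ := hx
    · exact ⟨-a, Or.inl (zpow_neg _ _).symm⟩
    · exact ⟨a, Or.inr (inv_eq_of_mul_eq_one_right (d.refl_sq a))⟩

theorem e_mem (i : ℤ) : (v * w) ^ i ∈ closure ({v, w} : Set G) :=
  zpow_mem (mul_mem (subset_closure (by simp)) (subset_closure (by simp))) i

theorem refl_mem (i : ℤ) : v * (v * w) ^ i ∈ closure ({v, w} : Set G) :=
  mul_mem (subset_closure (by simp)) (d.e_mem i)

theorem Q_le : closure ({v, w} : Set G) ≤ (S : Subgroup G) := by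
  rw [closure_le]
  rintro x (rfl | rfl)
  exacts [d.vS, (d.set.iSet_mem d.hw).1]

theorem refl_iSet (i : ℤ) : ISet S (v * (v * w) ^ i) := by
  have hc : ∀ {x : G} (a : ℤ), ISet S x → ISet S ((v * w) ^ a * x * ((v * w) ^ a)⁻¹) := fun a hx =>
    hx.conj (Subgroup.le_normalizer (zpow_mem d.eS a))
  rcases Int.even_or_odd' i with ⟨t, rfl | rfl⟩
  · have h := hc (-t) d.hv
    have e := d.refl_conj (-t) 0
    rw [zpow_zero, mul_one, show (0 : ℤ) - 2 * -t = 2 * t by ring] at e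
    rwa [e] at h
  · have h := hc (-t) d.hw
    have e := d.refl_conj (-t) 1
    rw [← d.w_eq, show (1 : ℤ) - 2 * -t = 2 * t + 1 by ring] at e
    rwa [e] at h

theorem zpow_eq_one (i : ℤ) : (v * w) ^ i = 1 ↔ (2 ^ (j + 2) : ℤ) ∣ i := by
  rw [← orderOf_dvd_iff_zpow_eq_one, d.ord]
  push_cast
  rfl

theorem even_of_eq {a b : ℤ} (h : (v * w) ^ a = (v * w) ^ b) : Even a ↔ Even b := by
  have h1 : (v * w) ^ (a - b) = 1 := by rw [zpow_sub, h, mul_inv_cancel]
  obtain ⟨c, hc⟩ := (d.zpow_eq_one _).mp h1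
  have : Even (a - b) := ⟨2 ^ (j + 1) * c, by rw [hc]; ring⟩
  exact (Int.even_sub.mp this)

theorem parity {a b : ℤ} (h : v * (v * w) ^ a = v * (v * w) ^ b) : Even a ↔ Even b :=
  d.even_of_eq (mul_left_cancel h)

/-- The element of order four. -/
theorem m_props : (v * w) ^ (2 ^ j : ℤ) * (v * w) ^ (2 ^ j : ℤ) = u ∧
    ∀ D, NN S D → v ∈ D → v ∉ ctr S D → (v * w) ^ (2 ^ j : ℤ) ∈ normalizerIn (S : Subgroup G) D ∧
      (v * w) ^ (2 ^ j : ℤ) ∉ D := by
  have hwS := (d.set.iSet_mem d.hw).1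
  have hne : v * w ≠ w * v := fun e => by
    have h1 : (v * w) * (v * w) = 1 := by
      calc (v * w) * (v * w) = v * w * (w * v) := by rw [e]
        _ = v * (w * w) * v := by group
        _ = 1 := by rw [d.w2, mul_one, d.v2]
    have h2 := Nat.le_of_dvd (by norm_num) (orderOf_dvd_of_pow_eq_one (show (v * w) ^ 2 = 1 by rw [pow_two, h1]))
    rw [d.ord, pow_succ, pow_succ] at h2
    have : 0 < 2 ^ j := by positivity
    omega
  obtain ⟨j', hj', h4, hm2, h1, h1'⟩ := exists_four d.vS hwS d.v2 d.w2 hne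
  obtain rfl : j' = j := by
    have := Nat.pow_right_injective (le_refl 2) (hj'.symm.trans d.ord)
    omega
  rw [show ((2 : ℤ) ^ j') = ((2 ^ j' : ℕ) : ℤ) by push_cast; rfl, zpow_natCast]
  have key : ∀ D, NN S D → v ∈ D → v ∉ ctr S D → (v * w) ^ 2 ^ j' ∈ normalizerIn (S : Subgroup G) D ∧
      (v * w) ^ 2 ^ j' ∉ D ∧ (v * w) ^ 2 ^ j' * (v * w) ^ 2 ^ j' = u := by
    intro D hD hvD hvY
    obtain ⟨hm, hmD, -, hc⟩ := (d.set.core hD).four hvD hvY d.v2 hwS d.w2 hne (pow_mem d.eS _) h4 hm2 h1 h1'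
    exact ⟨hm, hmD, ((d.set.core hD).isU_eq (d.set.small D hD) (d.isU D hD)
      ⟨_, hm, hmD, v, hvD, hvY, hc.symm⟩).symm⟩
  refine ⟨?_, fun D hD h h' => ⟨(key D hD h h').1, (key D hD h h').2.1⟩⟩
  obtain ⟨D, hD, hvI⟩ := d.hv
  exact (key D hD (d.set.isI_mem hD hvI).1 (d.set.isI_mem hD hvI).2.1).2.2

theorem u_eq : u = (v * w) ^ (2 ^ (j + 1) : ℤ) := by
  rw [← d.m_props.1, ← zpow_add, pow_succ]; congr 1; ring

theorem invol {i : ℤ} (h : (v * w) ^ i * (v * w) ^ i = 1) : (v * w) ^ i = 1 ∨ (v * w) ^ i = u := by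
  rw [← zpow_add, d.zpow_eq_one] at h
  obtain ⟨c, hc⟩ := h
  have hi : i = 2 ^ (j + 1) * c := by rw [pow_succ] at hc; linarith
  rcases Int.even_or_odd' c with ⟨t, rfl | rfl⟩
  · exact Or.inl ((d.zpow_eq_one _).mpr ⟨t, by rw [hi]; ring⟩)
  · refine Or.inr ?_
    rw [hi, show (2 : ℤ) ^ (j + 1) * (2 * t + 1) = 2 ^ (j + 2) * t + 2 ^ (j + 1) by ring, zpow_add,
      (d.zpow_eq_one _).mpr ⟨t, rfl⟩, one_mul, d.u_eq]

theorem u_mem : u ∈ closure ({v, w} : Set G) := by rw [d.u_eq]; exact d.e_mem _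

theorem u_central {n : G} (hn : n ∈ normalizer ((S : Subgroup G) : Set G)) : n * u * n⁻¹ = u := by
  obtain ⟨D, hD, -⟩ := d.hv
  exact d.set.u_fixed hD (d.isU D hD) hn

theorem iSet_refl {x : G} (hx : ISet S x) (hQ : x ∈ closure ({v, w} : Set G)) : ∃ i : ℤ, x = v * (v * w) ^ i := by
  obtain ⟨i, rfl | rfl⟩ := d.mem_Q hQ
  swap
  · exact ⟨i, rfl⟩
  exfalso
  obtain ⟨D, hD, hr⟩ := hx
  obtain ⟨hxD, hxY, hx2⟩ := d.set.isI_mem hD hr
  obtain ⟨E, hE, hvI⟩ := d.hv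
  obtain ⟨hvE, hvY, -⟩ := d.set.isI_mem hE hvI
  have he : (v * w) ∈ D := (d.set.core hD).pure hxD hxY d.eS (Commute.zpow_right (Commute.refl _) i).eq
  have hvc : v * (v * w) ^ i = (v * w) ^ i * v := by
    rw [d.flip, zpow_neg, inv_eq_of_mul_eq_one_right hx2]
  have hvD : v ∈ D := (d.set.core hD).pure hxD hxY d.vS hvc
  have h1 := hD.1.comm v hvD _ (zpow_mem he (2 ^ j : ℤ))
  have hm := d.m_props.2 E hE hvE hvY
  exact hm.2 ((d.set.core hE).pure hvE hvY hm.1.1 h1.symm)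

/-- A two-power cyclic fact: conjugates of the generator are odd powers. -/
theorem odd_of_conj {n : G} {s : ℤ} (h : n * (v * w) * n⁻¹ = (v * w) ^ s) : Odd s := by
  by_contra hs
  rw [Int.not_odd_iff_even] at hs
  obtain ⟨c, rfl⟩ := hs
  have h1 : (n * (v * w) * n⁻¹) ^ (2 ^ (j + 1) : ℤ) = 1 := by
    rw [h, ← zpow_mul, d.zpow_eq_one]
    exact ⟨c, by ring⟩
  rw [conj_zpow, conj_eq_one_iff, d.zpow_eq_one] at h1
  have h2 := Int.le_of_dvd (by positivity) h1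
  rw [pow_succ (2 : ℤ) (j + 1)] at h2
  have : (0 : ℤ) < 2 ^ (j + 1) := by positivity
  linarith

/-- A normalising involution from the set outside the dihedral group does not exist. -/
theorem no_outside {x : G} (hx : ISet S x) (hN : x ∈ normalizer ((closure ({v, w} : Set G) : Subgroup G) : Set G))
    (hxQ : x ∉ closure ({v, w} : Set G)) : False := by
  obtain ⟨hxS, hx2⟩ := d.set.iSet_mem hx
  have hxi : x⁻¹ = x := inv_eq_of_mul_eq_one_right hx2
  have hxn : x ∈ normalizer ((S : Subgroup G) : Set G) := Subgroup.le_normalizer hxS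
  obtain ⟨i, hi⟩ := d.iSet_refl (d.hv.conj hxn) ((mem_normalizer_iff.mp hN v).mp (subset_closure (by simp)))
  obtain ⟨l, hl⟩ := d.iSet_refl (d.hw.conj hxn) ((mem_normalizer_iff.mp hN w).mp (subset_closure (by simp)))
  have hxe : x * (v * w) * x⁻¹ = (v * w) ^ (l - i) := by rw [← conj_mul, hi, hl, d.refl_refl]
  have hi2 : Even i := by
    by_contra hodd
    have hsq : (v * x) * (v * x) = (v * w) ^ i := by
      calc v * x * (v * x) = v * (x * v * x⁻¹) := by rw [hxi]; group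
        _ = (v * w) ^ i := by rw [hi, ← mul_assoc, d.v2, one_mul]
    obtain ⟨a, ha⟩ := S.2 ⟨v * x, mul_mem d.vS hxS⟩
    obtain ⟨k, -, hk⟩ := (Nat.dvd_prime_pow Nat.prime_two).mp
      (orderOf_dvd_of_pow_eq_one (show (v * x) ^ 2 ^ a = 1 from congrArg Subtype.val ha))
    have hle := d.max v x d.hv hx
    rw [hk] at hle
    have hk' := (Nat.pow_le_pow_iff_right (by norm_num)).mp hle
    have h1 : (v * x) ^ (2 ^ (j + 2)) = 1 :=
      orderOf_dvd_iff_pow_eq_one.mp (hk ▸ Nat.pow_dvd_pow 2 hk')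
    rw [pow_succ', pow_mul, pow_two, hsq, ← zpow_natCast, ← zpow_mul, d.zpow_eq_one] at h1
    obtain ⟨c, hc⟩ := h1
    push_cast at hc
    have : i = 2 * c := by
      have h2 : i * (2 : ℤ) ^ (j + 1) = (2 * c) * 2 ^ (j + 1) := by rw [hc]; ring
      exact mul_right_cancel₀ (by positivity) h2
    exact hodd ⟨c, by rw [this]; ring⟩
  obtain ⟨t, ht⟩ := hi2
  set m := (v * w) ^ (2 ^ j : ℤ) with hm
  obtain ⟨D3, hD3, hxI⟩ := hx
  obtain ⟨hx3, hxY3, -⟩ := d.set.isI_mem hD3 hxI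
  have hmS : m ∈ (S : Subgroup G) := zpow_mem d.eS _
  have hodd := d.odd_of_conj hxe
  have hm4 : m * m * (m * m) = 1 := by
    rw [hm, ← zpow_add, ← zpow_add, d.zpow_eq_one]
    exact ⟨1, by ring⟩
  have hxm : x * m * x⁻¹ = m⁻¹ := by
    have h1 : x * m * x⁻¹ = m ^ (l - i) := by rw [hm, ← conj_zpow, hxe, ← zpow_mul, ← zpow_mul, mul_comm]
    have h4z : m ^ (4 : ℤ) = 1 := by
      rw [show (4 : ℤ) = 1 + 1 + (1 + 1) from rfl, zpow_add, zpow_add, zpow_one, hm4]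
    obtain ⟨c, hc⟩ := hodd
    rcases Int.even_or_odd' c with ⟨q, rfl | rfl⟩
    · exfalso
      have h2 : x * m = m * x := by
        rw [← mul_inv_eq_iff_eq_mul, h1, hc, show 2 * (2 * q) + 1 = 4 * q + 1 by ring, zpow_add, zpow_mul, h4z,
          one_zpow, one_mul, zpow_one]
      have hmD3 : m ∈ D3 := (d.set.core hD3).pure hx3 hxY3 hmS h2.symm
      exact d.set.not_sq hD3 (d.isU D3 hD3) hmD3 d.m_props.1
    · rw [h1, hc, show 2 * (2 * q + 1) + 1 = 4 * (q + 1) + (-1) by ring, zpow_add, zpow_mul, h4z, one_zpow,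
        one_mul, zpow_neg_one]
  obtain ⟨D, hD, hvI⟩ := d.hv
  obtain ⟨hvD, hvY, -⟩ := d.set.isI_mem hD hvI
  have cD := d.set.core hD
  set z := (v * w) ^ t * x with hz
  have hzv : z * v = v * z := by
    refine mul_inv_eq_iff_eq_mul.mp ?_
    calc z * v * z⁻¹ = (v * w) ^ t * (x * v * x⁻¹) * ((v * w) ^ t)⁻¹ := by rw [hz]; group
      _ = v * (v * w) ^ (i - 2 * t) := by rw [hi, d.refl_conj]
      _ = v := by rw [ht, show t + t - 2 * t = 0 by ring, zpow_zero, mul_one]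
  have hzD : z ∈ D := cD.pure hvD hvY (mul_mem (zpow_mem d.eS _) hxS) hzv
  obtain ⟨hmT, hmD⟩ := d.m_props.2 D hD hvD hvY
  rw [← hm] at hmT hmD
  have hzY : z ∉ ctr S D := fun e => by
    have h1 : z * m * z⁻¹ = m⁻¹ := by
      calc z * m * z⁻¹ = (v * w) ^ t * (x * m * x⁻¹) * ((v * w) ^ t)⁻¹ := by rw [hz]; group
        _ = m⁻¹ := by
          rw [hxm, hm, ← zpow_neg, ← zpow_neg, ← zpow_add, ← zpow_add,
            show t + -(2 : ℤ) ^ j + -t = -(2 : ℤ) ^ j by ring]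
    rw [← ctr_comm e hmT, mul_inv_cancel_right] at h1
    have h2 : m * m = 1 := by nth_rw 1 [h1]; exact inv_mul_cancel m
    rw [d.m_props.1] at h2
    exact (cD.isU_props (d.isU D hD)).2.2 h2
  have hy : v * z ∈ ctr S D := cD.mul_ctr_of_not_mem (d.set.small D hD) hvD hzD hvY hzY
  set r := v * (v * w) ^ t with hr
  have hry : r * x = v * z := by rw [hr, hz, mul_assoc]
  obtain ⟨Dr, hDr, hrI⟩ := d.refl_iSet t
  obtain ⟨hrr, hrY, hr2⟩ := d.set.isI_mem hDr hrI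
  by_cases hsame : D3 = Dr
  · subst hsame
    rcases (d.set.core hD3).isI_eq (d.set.small D3 hD3) d.set.ai hrI hxI (d.isU D3 hD3) with e | e
    · exact hxQ (e ▸ d.refl_mem t)
    · exact hxQ (e ▸ mul_mem (d.refl_mem t) d.u_mem)
  have hne : r * x ≠ x * r := fun e => hsame (d.set.eq_of_comm hDr hD3 hrr hrY hx3 hxY3 e)
  obtain ⟨a, -, h4', hm2', h1', h1''⟩ := exists_four (hDr.1.le hrr) hxS hr2 hx2 hne
  obtain ⟨hm'T, hm'D, -, hc'⟩ := (d.set.core hDr).four hrr hrY hr2 hxS hx2 hne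
    (pow_mem (mul_mem (hDr.1.le hrr) hxS) _) h4' hm2' h1' h1''
  have hu' : (r * x) ^ 2 ^ a * (r * x) ^ 2 ^ a = u :=
    (d.set.core hDr).isU_eq (d.set.small Dr hDr) ⟨_, hm'T, hm'D, r, hrr, hrY, hc'.symm⟩ (d.isU Dr hDr)
  exact d.set.not_sq hD (d.isU D hD) (pow_mem (hry ▸ ctr_le hy) _) hu'

/-- All distinguished involutions lie in the dihedral group. -/
theorem iSet_le {x : G} (hx : ISet S x) : x ∈ closure ({v, w} : Set G) := by
  haveI : Fact (Nat.Prime 2) := ⟨Nat.prime_two⟩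
  by_contra hxQ
  set Q := closure ({v, w} : Set G) with hQ
  by_cases htop : (S : Subgroup G) ≤ normalizer (Q : Set G)
  · exact d.no_outside hx (htop (d.set.iSet_mem hx).1) hxQ
  set H := normalizerIn (S : Subgroup G) Q with hH
  have hlt : H < (S : Subgroup G) := lt_of_le_of_ne inf_le_left fun e => htop fun s hs => (e.symm ▸ hs : s ∈ H).2
  obtain ⟨h, hh, hhH⟩ := SetLike.exists_of_lt (lt_normalizerIn S.2 hlt)
  have hhS : h ∈ normalizer ((S : Subgroup G) : Set G) := Subgroup.le_normalizer hh.1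
  have hvH : v ∈ Q := subset_closure (by simp)
  have hwH : w ∈ Q := subset_closure (by simp)
  have hQH : ∀ {y}, y ∈ Q → h * y * h⁻¹ ∈ H := fun hy =>
    (mem_normalizer_iff.mp hh.2 _).mp ⟨d.Q_le hy, Subgroup.le_normalizer hy⟩
  by_cases h1 : h * v * h⁻¹ ∈ Q
  swap
  · exact d.no_outside (d.hv.conj hhS) (hQH hvH).2 h1
  by_cases h2 : h * w * h⁻¹ ∈ Q
  swap
  · exact d.no_outside (d.hw.conj hhS) (hQH hwH).2 h2
  refine hhH ⟨hh.1, mem_normalizer_fintype fun y hy => ?_⟩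
  have hle : Q.map (MulAut.conj h).toMonoidHom ≤ Q := by
    rw [hQ, MonoidHom.map_closure, closure_le]
    rintro _ ⟨z, (rfl | rfl), rfl⟩
    exacts [h1, h2]
  exact hle ⟨y, hy, rfl⟩

/-- The action of the normaliser of `S` on the reflections. -/
theorem conj_refl {n : G} (hn : n ∈ normalizer ((S : Subgroup G) : Set G)) :
    ∃ a s : ℤ, Odd s ∧ n * (v * w) * n⁻¹ = (v * w) ^ s ∧
      ∀ i : ℤ, n * (v * (v * w) ^ i) * n⁻¹ = v * (v * w) ^ (a + s * i) := by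
  obtain ⟨a, ha⟩ := d.iSet_refl (d.hv.conj hn) (d.iSet_le (d.hv.conj hn))
  obtain ⟨b, hb⟩ := d.iSet_refl (d.hw.conj hn) (d.iSet_le (d.hw.conj hn))
  have he : n * (v * w) * n⁻¹ = (v * w) ^ (b - a) := by rw [← conj_mul, ha, hb, d.refl_refl]
  exact ⟨a, b - a, d.odd_of_conj he, he, fun i => by
    rw [← conj_mul, ha, ← conj_zpow, he, ← zpow_mul, mul_assoc, ← zpow_add]⟩

theorem Q_normal {n x : G} (hn : n ∈ normalizer ((S : Subgroup G) : Set G)) (hx : x ∈ closure ({v, w} : Set G)) :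
    n * x * n⁻¹ ∈ closure ({v, w} : Set G) := by
  obtain ⟨a, s, -, he, hr⟩ := d.conj_refl hn
  obtain ⟨i, rfl | rfl⟩ := d.mem_Q hx
  · rw [← conj_zpow, he, ← zpow_mul]; exact d.e_mem _
  · rw [hr]; exact d.refl_mem _

end Dih

end CfsgLib.AbelianInt
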