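import Cfsg.Agent.Lib.AbelianInt.DihNormal
import Cfsg.Agent.Lib.Chev.Twist.Dihedral
import Cfsg.Agent.Lib.Elementary

/-!
The dihedral case: a Sylow 2-subgroup is the dihedral group generated by the distinguished involutions.

Blueprint: `blueprint/S3186.md`, section 5.
-/

set_option autoImplicit false
set_option linter.unusedSectionVars false
set_option linter.style.haveILetI false

namespace CfsgLib.AbelianInt

open Cfsg Cfsg.FusionSystem Subgroup CfsgLib.CentralInt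
open scoped commutatorElement

universe u

variable {G : Type u} [Group G] [Finite G] {S : Sylow 2 G} {D : Subgroup G}

/-- An element of two-power order normalising `S` lies in `S`. -/
theorem mem_of_two_power {x : G} (hx : x ∈ normalizer ((S : Subgroup G) : Set G)) {i : ℕ} (h : x ^ 2 ^ i = 1) :
    x ∈ (S : Subgroup G) := by
  haveI : Fact (Nat.Prime 2) := ⟨Nat.prime_two⟩
  obtain ⟨l, -, hl⟩ := (Nat.dvd_prime_pow Nat.prime_two).mp (orderOf_dvd_of_pow_eq_one h)
  have hp : IsPGroup 2 (zpowers x) := IsPGroup.of_card (n := l) (by rw [Nat.card_zpowers, hl])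
  exact (S.3 (hp.to_sup_of_normal_right' S.2 (zpowers_le.mpr hx)) le_sup_right).le (mem_sup_left (mem_zpowers _))

/-- An odd integer raised to a power of two is `1` modulo a higher power of two. -/
theorem odd_pow_two_pow {s : ℤ} (hs : Odd s) (i : ℕ) : (2 : ℤ) ^ (i + 1) ∣ s ^ 2 ^ i - 1 := by
  induction i with
  | zero =>
    obtain ⟨k, rfl⟩ := hs
    exact ⟨k, by ring⟩
  | succ i ih =>
    obtain ⟨c, hc⟩ := ih
    refine ⟨c * (2 ^ i * c + 1), ?_⟩
    rw [pow_succ 2 i, pow_mul, show s ^ 2 ^ i = 2 ^ (i + 1) * c + 1 by linarith]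
    ring

theorem Fixed.mul {x y : G} (hx : Fixed S D x) (hy : Fixed S D y) : Fixed S D (x * y) := fun h hh t ht =>
  ((show Commute (h * t * h⁻¹) x from hx h hh t ht).mul_right (show Commute (h * t * h⁻¹) y from hy h hh t ht)).eq

theorem Fixed.inv {x : G} (hx : Fixed S D x) : Fixed S D x⁻¹ := fun h hh t ht =>
  (show Commute (h * t * h⁻¹) x from hx h hh t ht).inv_right.eq

theorem Fixed.conj {x n : G} (hn : n ∈ normalizer ((S : Subgroup G) : Set G)) (hx : Fixed S D x) :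
    Fixed S (D.map (MulAut.conj n).toMonoidHom) (n * x * n⁻¹) := fun h hh t ht => by
  have h1 := hx (n⁻¹ * h * n) (mem_normalizer_conj.mp hh) _ ((mem_normalizerIn_conj hn).mp ht)
  calc h * t * h⁻¹ * (n * x * n⁻¹)
      = n * (n⁻¹ * h * n * (n⁻¹ * t * n) * (n⁻¹ * h * n)⁻¹ * x) * n⁻¹ := by group
    _ = n * (x * (n⁻¹ * h * n * (n⁻¹ * t * n) * (n⁻¹ * h * n)⁻¹)) * n⁻¹ := by rw [h1]
    _ = n * x * n⁻¹ * (h * t * h⁻¹) := by group

/-- The subgroup generated by the conjugates of `N_S(D)` under `N(D)`. -/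
def conjClosure (S : Sylow 2 G) (D : Subgroup G) : Subgroup G :=
  closure {x | ∃ h ∈ normalizer (D : Set G), ∃ t ∈ normalizerIn (S : Subgroup G) D, x = h * t * h⁻¹}

theorem conjClosure_le : conjClosure S D ≤ normalizer (D : Set G) := by
  rw [conjClosure, closure_le]
  rintro _ ⟨h, hh, t, ht, rfl⟩
  exact mul_mem (mul_mem hh ht.2) (inv_mem hh)

theorem conjClosure_conj {k x : G} (hk : k ∈ normalizer (D : Set G)) (hx : x ∈ conjClosure S D) :
    k * x * k⁻¹ ∈ conjClosure S D := by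
  have hle : (conjClosure S D).map (MulAut.conj k).toMonoidHom ≤ conjClosure S D := by
    rw [conjClosure, MonoidHom.map_closure, closure_le]
    rintro _ ⟨_, ⟨h, hh, t, ht, rfl⟩, rfl⟩
    exact subset_closure ⟨k * h, mul_mem hk hh, t, ht, by simp [mul_assoc]⟩
  exact hle ⟨x, hx, rfl⟩

/-- The Frattini argument in `N(D)`. -/
theorem Ess.frattini (hA : AI G) (hD : Ess S D) {g : G} (hg : g ∈ normalizer (D : Set G)) :
    ∃ h ∈ normalizer ((S : Subgroup G) : Set G), h ∈ normalizer (D : Set G) ∧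
      ∃ l ∈ conjClosure S D, g = h * l := by
  haveI : Fact (Nat.Prime 2) := ⟨Nat.prime_two⟩
  set L := conjClosure S D with hL
  set T := normalizerIn (S : Subgroup G) D with hT
  have hTL : T ≤ L := fun t ht => subset_closure ⟨1, one_mem _, t, ht, by group⟩
  have hgT : T.map (MulAut.conj g).toMonoidHom ≤ L := by
    rintro _ ⟨t, ht, rfl⟩
    exact conjClosure_conj hg (hTL ht)
  obtain ⟨R, hR⟩ :=
    ((S.2.to_le inf_le_left : IsPGroup 2 T).comap_of_injective L.subtype L.subtype_injective).exists_le_sylow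
  obtain ⟨R', hR'⟩ := (((S.2.to_le inf_le_left : IsPGroup 2 T).map (MulAut.conj g).toMonoidHom).comap_of_injective
    L.subtype L.subtype_injective).exists_le_sylow
  obtain ⟨l, hl⟩ := MulAction.exists_smul_eq L R' R
  have hRT : (R : Subgroup L).map L.subtype ≤ T := le_inf
    (hD.syl _ (R.2.map _) ((map_subtype_le _).trans conjClosure_le) fun t ht => ⟨⟨t, hTL ht⟩, hR ht, rfl⟩)
    ((map_subtype_le _).trans conjClosure_le)
  have hlN : (l : G) ∈ normalizer (D : Set G) := conjClosure_le l.2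
  have hkey : ∀ t ∈ T, (l : G) * g * t * ((l : G) * g)⁻¹ ∈ T := by
    intro t ht
    have h0 : (⟨g * t * g⁻¹, hgT ⟨t, ht, rfl⟩⟩ : L) ∈ (R' : Subgroup L) := hR' ⟨t, ht, rfl⟩
    refine hRT ⟨l * ⟨g * t * g⁻¹, hgT ⟨t, ht, rfl⟩⟩ * l⁻¹, ?_, by simp [mul_assoc]⟩
    rw [← hl]
    exact ⟨_, h0, rfl⟩
  obtain ⟨t, ht, htD⟩ := hD.exists_outside
  obtain ⟨d, hd, hne⟩ := hD.exists_noncomm ht.1 htD
  have hh : (l : G) * g ∈ normalizer ((S : Subgroup G) : Set G) :=
    hA.normalizes (hD.le hd) ht.1 hne (hkey d (hD.le_normalizerIn hd)).1 (hkey t ht).1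
  refine ⟨(l : G) * g, hh, mul_mem hlN hg, ((l : G) * g)⁻¹ * (l : G)⁻¹ * ((l : G) * g), ?_, by group⟩
  have := conjClosure_conj (k := ((l : G) * g)⁻¹) (inv_mem (mul_mem hlN hg)) (inv_mem l.2)
  rwa [inv_inv] at this

/-- The parity of reflections is preserved. -/
def Pres (v w n : G) : Prop := ∀ i b : ℤ, n * (v * (v * w) ^ i) * n⁻¹ = v * (v * w) ^ b → (Even b ↔ Even i)

namespace Dih

variable {v w u : G} {j : ℕ} (d : Dih S v w u j)
include d

theorem conj_parity {n : G} (hn : n ∈ normalizer ((S : Subgroup G) : Set G)) {a i b : ℤ}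
    (ha : n * v * n⁻¹ = v * (v * w) ^ a) (hb : n * (v * (v * w) ^ i) * n⁻¹ = v * (v * w) ^ b) :
    Even b ↔ (Even a ↔ Even i) := by
  obtain ⟨a', s, hs, -, hr⟩ := d.conj_refl hn
  have h0 := hr 0
  rw [zpow_zero, mul_one, mul_zero, add_zero, ha] at h0
  rw [d.parity (hb.symm.trans (hr i)), d.parity h0, Int.even_add, Int.even_mul]
  simp only [Int.not_even_iff_odd.mpr hs, false_or]

theorem exists_offset {n : G} (hn : n ∈ normalizer ((S : Subgroup G) : Set G)) :
    ∃ a : ℤ, n * v * n⁻¹ = v * (v * w) ^ a ∧ (Pres v w n ↔ Even a) := by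
  obtain ⟨a, s, -, -, hr⟩ := d.conj_refl hn
  have h0 := hr 0
  rw [zpow_zero, mul_one, mul_zero, add_zero] at h0
  refine ⟨a, h0, fun h => ?_, fun h i b hb => ?_⟩
  · exact (h 0 a (by rw [zpow_zero, mul_one]; exact h0)).mpr Even.zero
  · rw [d.conj_parity hn h0 hb]
    tauto

theorem pres_mul {x y : G} (hx : x ∈ normalizer ((S : Subgroup G) : Set G))
    (hy : y ∈ normalizer ((S : Subgroup G) : Set G)) : Pres v w (x * y) ↔ (Pres v w x ↔ Pres v w y) := by
  obtain ⟨a, ha, hPa⟩ := d.exists_offset hx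
  obtain ⟨b, hb, hPb⟩ := d.exists_offset hy
  obtain ⟨c, hc, hPc⟩ := d.exists_offset (mul_mem hx hy)
  rw [hPa, hPb, hPc]
  refine d.conj_parity hx ha ?_
  rw [← hb, ← hc]
  group

theorem pres_one : Pres v w 1 := fun i b h => by
  rw [one_mul, inv_one, mul_one] at h
  exact (d.parity h).symm

theorem pres_inv {x : G} (hx : x ∈ normalizer ((S : Subgroup G) : Set G)) : Pres v w x⁻¹ ↔ Pres v w x := by
  have h := d.pres_mul hx (inv_mem hx)
  rw [mul_inv_cancel] at h
  exact ((h.mp d.pres_one)).symm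

theorem pres_of_fix {n : G} (hn : n ∈ normalizer ((S : Subgroup G) : Set G)) {i : ℤ}
    (h : n * (v * (v * w) ^ i) * n⁻¹ = v * (v * w) ^ i) : Pres v w n := by
  obtain ⟨a, ha, hPa⟩ := d.exists_offset hn
  rw [hPa]
  have := d.conj_parity hn ha h
  tauto

/-- The elements of `S` preserving parity. -/
def Sp : Subgroup G where
  carrier := {s | s ∈ (S : Subgroup G) ∧ Pres v w s}
  one_mem' := ⟨one_mem _, d.pres_one⟩
  mul_mem' := fun hx hy => ⟨mul_mem hx.1 hy.1, (d.pres_mul (Subgroup.le_normalizer hx.1)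
    (Subgroup.le_normalizer hy.1)).mpr ⟨fun _ => hy.2, fun _ => hx.2⟩⟩
  inv_mem' := fun hx => ⟨inv_mem hx.1, (d.pres_inv (Subgroup.le_normalizer hx.1)).mpr hx.2⟩

theorem nn_of_ess (hD : Ess S D) : NN S D := ⟨hD, d.no_normal hD⟩

theorem exists_refl (hD : NN S D) : ∃ i : ℤ, IsI S D (v * (v * w) ^ i) := by
  obtain ⟨r, hr⟩ := (d.set.core hD).exists_isI (d.set.small D hD) d.set.ai
  obtain ⟨i, rfl⟩ := d.iSet_refl ⟨D, hD, hr⟩ (d.iSet_le ⟨D, hD, hr⟩)
  exact ⟨i, hr⟩

theorem le_Sp (hD : Ess S D) : D ≤ d.Sp := by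
  intro x hx
  obtain ⟨i, hi⟩ := d.exists_refl (d.nn_of_ess hD)
  refine ⟨hD.le hx, d.pres_of_fix (Subgroup.le_normalizer (hD.le hx)) (i := i) ?_⟩
  rw [hD.comm x hx _ (d.set.isI_mem (d.nn_of_ess hD) hi).1, mul_inv_cancel_right]

section Simple

variable [IsSimpleGroup G] (hG : ¬ IsMulCommutative G)
include hG

theorem pres_S {s : G} (hs : s ∈ (S : Subgroup G)) : Pres v w s := by
  refine (d.set.ai.focal hG (S0 := d.Sp) (fun n hn a ha => ?_) (fun D hD => d.le_Sp hD) hs).2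
  have haN : a ∈ normalizer ((S : Subgroup G) : Set G) := Subgroup.le_normalizer ha
  refine ⟨mul_mem (inv_mem ha) ((mem_normalizer_iff.mp hn a).mp ha), ?_⟩
  rw [d.pres_mul (inv_mem haN) (mul_mem (mul_mem hn haN) (inv_mem hn)), d.pres_inv haN,
    d.pres_mul (mul_mem hn haN) (inv_mem hn), d.pres_mul hn haN, d.pres_inv hn]
  by_cases h1 : Pres v w n <;> by_cases h2 : Pres v w a <;> simp [h1, h2]

theorem pres_all {n : G} (hn : n ∈ normalizer ((S : Subgroup G) : Set G)) : Pres v w n := by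
  set W := (orderOf n).factorization 2
  set m := orderOf n / 2 ^ W
  have hWm : 2 ^ W * m = orderOf n := Nat.ordProj_mul_ordCompl_eq_self _ _
  have hodd : Odd m := Nat.not_even_iff_odd.mp fun he =>
    Nat.not_dvd_ordCompl Nat.prime_two (orderOf_pos n).ne' (even_iff_two_dvd.mp he)
  have hS : n ^ m ∈ (S : Subgroup G) := mem_of_two_power (pow_mem hn m) (i := W)
    (by rw [← pow_mul, mul_comm, hWm, pow_orderOf_eq_one])
  obtain ⟨i, hi⟩ := hodd
  have key : ∀ i : ℕ, Pres v w (n ^ (2 * i + 1)) ↔ Pres v w n := by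
    intro i
    induction i with
    | zero => rw [mul_zero, zero_add, pow_one]
    | succ i ih =>
      rw [show 2 * (i + 1) + 1 = 2 * i + 1 + 1 + 1 by ring, pow_succ, pow_succ,
        d.pres_mul (mul_mem (pow_mem hn _) hn) hn, d.pres_mul (pow_mem hn _) hn, ih]
      by_cases h1 : Pres v w n <;> simp [h1]
  exact (key i).mp (hi ▸ d.pres_S hG hS)

theorem exists_move {n : G} (hn : n ∈ normalizer ((S : Subgroup G) : Set G)) :
    ∃ t : ℤ, (v * w) ^ t * n * v * ((v * w) ^ t * n)⁻¹ = v := by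
  obtain ⟨a, ha, hPa⟩ := d.exists_offset hn
  obtain ⟨t, ht⟩ := hPa.mp (d.pres_all hG hn)
  refine ⟨t, ?_⟩
  calc (v * w) ^ t * n * v * ((v * w) ^ t * n)⁻¹ = (v * w) ^ t * (n * v * n⁻¹) * ((v * w) ^ t)⁻¹ := by group
    _ = v := by rw [ha, d.refl_conj, ht, show t + t - 2 * t = 0 by ring, zpow_zero, mul_one]

/-- `S = Q Y`. -/
theorem exists_decomp (hD : NN S D) (hI : IsI S D v) {s : G} (hs : s ∈ (S : Subgroup G)) :
    ∃ q ∈ closure ({v, w} : Set G), ∃ y ∈ ctr S D, s = q * y := by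
  obtain ⟨hvD, hvY, -⟩ := d.set.isI_mem hD hI
  obtain ⟨t, ht⟩ := d.exists_move hG (Subgroup.le_normalizer hs)
  have hx : (v * w) ^ t * s ∈ D :=
    (d.set.core hD).pure hvD hvY (mul_mem (zpow_mem d.eS t) hs) (mul_inv_eq_iff_eq_mul.mp ht)
  by_cases hY : (v * w) ^ t * s ∈ ctr S D
  · exact ⟨(v * w) ^ (-t), d.e_mem _, _, hY, by rw [zpow_neg, inv_mul_cancel_left]⟩
  · refine ⟨(v * w) ^ (-t) * v, mul_mem (d.e_mem _) (subset_closure (by simp)), v * ((v * w) ^ t * s),
      (d.set.core hD).mul_ctr_of_not_mem (d.set.small D hD) hvD hx hvY hY, ?_⟩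
    rw [mul_assoc, ← mul_assoc v v, d.v2, one_mul, zpow_neg, inv_mul_cancel_left]

variable (hc2 : ¬ Class2 S)
include hc2

/-- A central element fixed in the automizers of `D_v` and `D_w` is trivial. -/
theorem fixed_both {Dv Dw : Subgroup G} (hv : NN S Dv) (hvI : IsI S Dv v) (hw : NN S Dw) (hwI : IsI S Dw w) {z : G}
    (hz : z ∈ centreOf S) (hzv : Fixed S Dv z) (hzw : Fixed S Dw z) : z = 1 := by
  let A : Subgroup G :=
    { carrier := {a | a ∈ centreOf S ∧ ∀ E, Ess S E → Fixed S E a}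
      one_mem' := ⟨one_mem _, fun E _ h _ t _ => by rw [one_mul, mul_one]⟩
      mul_mem' := fun hx hy => ⟨mul_mem hx.1 hy.1, fun E hE => (hx.2 E hE).mul (hy.2 E hE)⟩
      inv_mem' := fun hx => ⟨inv_mem hx.1, fun E hE => (hx.2 E hE).inv⟩ }
  have hA : A = ⊥ := by
    by_contra hne
    refine hc2 (class_two_of_closed hne (fun x hx y hy => (mem_centreOf.mp hy.1).2 x (mem_centreOf.mp hx.1).1) ?_)
    refine d.set.ai.closed (fun x hx => (mem_centreOf.mp hx.1).1) (fun n hn a ha => ?_) fun E hE g hg a _ ha => ?_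
    · refine ⟨centreOf_conj hn ha.1, fun E hE => ?_⟩
      have h1 := (ha.2 _ (hE.conj (inv_mem hn))).conj hn
      rwa [show ((E.map (MulAut.conj n⁻¹).toMonoidHom).map (MulAut.conj n).toMonoidHom) = E by
        ext x; rw [mem_map_conj, mem_map_conj]; simp [mul_assoc]] at h1
    · obtain ⟨h, hh, -, l, hl, rfl⟩ := hE.frattini d.set.ai hg
      have hla : l * a = a * l := by
        have : conjClosure S E ≤ centralizer ({a} : Set G) := by
          rw [conjClosure, closure_le]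
          rintro _ ⟨k, hk, t, ht, rfl⟩
          exact mem_centralizer_singleton_iff.mpr (ha.2 E hE k hk t ht)
        exact mem_centralizer_singleton_iff.mp (this hl)
      rw [show h * l * a * (h * l)⁻¹ = h * (l * a) * l⁻¹ * h⁻¹ by group, hla, ← mul_assoc, mul_inv_cancel_right]
      refine ⟨centreOf_conj hh ha.1, fun E' hE' => ?_⟩
      have h1 := (ha.2 _ (hE'.conj (inv_mem hh))).conj hh
      rwa [show ((E'.map (MulAut.conj h⁻¹).toMonoidHom).map (MulAut.conj h).toMonoidHom) = E' by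
        ext x; rw [mem_map_conj, mem_map_conj]; simp [mul_assoc]] at h1
  refine mem_bot.mp (hA ▸ (⟨hz, fun E hE => ?_⟩ : z ∈ A))
  obtain ⟨i, hi⟩ := d.exists_refl (d.nn_of_ess hE)
  have key : ∀ {D₀ : Subgroup G} {r₀ : G} (c : ℤ), NN S D₀ → IsI S D₀ r₀ → Fixed S D₀ z →
      (v * w) ^ c * r₀ * ((v * w) ^ c)⁻¹ = v * (v * w) ^ i → Fixed S E z := by
    intro D₀ r₀ c hD₀ hI hF he
    have hn : (v * w) ^ c ∈ normalizer ((S : Subgroup G) : Set G) := Subgroup.le_normalizer (zpow_mem d.eS c)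
    obtain ⟨h1, h2, -⟩ := d.set.isI_mem (hD₀.conj hn) (hI.conj hn)
    obtain ⟨h3, h4, -⟩ := d.set.isI_mem (d.nn_of_ess hE) hi
    rw [d.set.eq_of_comm (hD₀.conj hn) (d.nn_of_ess hE) h1 h2 h3 h4 (by rw [he])]
    have h5 := hF.conj hn
    rwa [(mem_centreOf.mp hz).2 _ (zpow_mem d.eS c), mul_inv_cancel_right] at h5
  rcases Int.even_or_odd' i with ⟨t, rfl | rfl⟩
  · refine key (-t) hv hvI hzv ?_
    have e := d.refl_conj (-t) 0
    rwa [zpow_zero, mul_one, show (0 : ℤ) - 2 * -t = 2 * t by ring] at e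
  · refine key (-t) hw hwI hzw ?_
    have e := d.refl_conj (-t) 1
    rwa [← d.w_eq, show (1 : ℤ) - 2 * -t = 2 * t + 1 by ring] at e

/-- An element of odd order of `N(S)` fixing `v` and `e` centralises `S`. -/
theorem centralises {n : G} (hn : n ∈ normalizer ((S : Subgroup G) : Set G)) (hodd : Odd (orderOf n))
    (hnv : n * v * n⁻¹ = v) (hne : n * (v * w) * n⁻¹ = v * w) {a : G} (ha : a ∈ (S : Subgroup G)) :
    n * a * n⁻¹ = a := by
  haveI : Fact (Nat.Prime 2) := ⟨Nat.prime_two⟩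
  obtain ⟨Dv, hv, hvI⟩ := d.hv
  obtain ⟨Dw, hw, hwI⟩ := d.hw
  obtain ⟨hvD, hvY, -⟩ := d.set.isI_mem hv hvI
  obtain ⟨hwD, hwY, -⟩ := d.set.isI_mem hw hwI
  have hnw : n * w * n⁻¹ = w := by
    conv_lhs => rw [show w = v * (v * w) by rw [← mul_assoc, d.v2, one_mul]]
    rw [← conj_mul, hnv, hne, ← mul_assoc, d.v2, one_mul]
  have hQ : ∀ q ∈ closure ({v, w} : Set G), n * q * n⁻¹ = q := by
    intro q hq
    obtain ⟨i, rfl | rfl⟩ := d.mem_Q hq
    · rw [← conj_zpow, hne]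
    · rw [← conj_mul, hnv, ← conj_zpow, hne]
  have hmap : ∀ {D₀ : Subgroup G} {r : G}, NN S D₀ → IsI S D₀ r → n * r * n⁻¹ = r →
      D₀.map (MulAut.conj n).toMonoidHom = D₀ := by
    intro D₀ r hD₀ hI he
    obtain ⟨h1, h2, -⟩ := d.set.isI_mem (hD₀.conj hn) (hI.conj hn)
    obtain ⟨h3, h4, -⟩ := d.set.isI_mem hD₀ hI
    exact (d.set.eq_of_comm (hD₀.conj hn) hD₀ h1 h2 h3 h4 (by rw [he])).symm
  have hY : ∀ {D₀ : Subgroup G} {z : G}, NN S D₀ → z ∈ centreOf S → z ∈ ctr S D₀ := fun hD₀ hz =>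
    hD₀.1.mem_ctr_of_comm (mem_centreOf.mp hz).1 fun t ht => (mem_centreOf.mp hz).2 t ht.1
  have hFix : ∀ {D₀ : Subgroup G} {r z : G}, NN S D₀ → IsI S D₀ r → n * r * n⁻¹ = r → z ∈ centreOf S →
      Fixed S D₀ (z⁻¹ * (n * z * n⁻¹)) := by
    intro D₀ r z hD₀ hI he hz
    by_cases hF : Fixed S D₀ z
    · have h1 := hF.conj hn
      rw [hmap hD₀ hI he] at h1
      exact hF.inv.mul h1
    · have h1 : ¬ Fixed S D₀ (n * z * n⁻¹) := fun h => hF (by
        have h2 := h.conj (inv_mem hn)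
        rw [show n⁻¹ * (n * z * n⁻¹) * n⁻¹⁻¹ = z by group] at h2
        rwa [show D₀.map (MulAut.conj n⁻¹).toMonoidHom = D₀ from (by
          conv_lhs => rw [← hmap hD₀ hI he]
          ext x; rw [mem_map_conj, mem_map_conj]; simp [mul_assoc])] at h2)
      exact (d.set.core hD₀).fixed_mul (d.set.small D₀ hD₀) d.set.ai (hY hD₀ (inv_mem hz))
        (hY hD₀ (centreOf_conj hn hz)) (fun h => hF (by simpa using h.inv)) h1
  have hZ : ∀ z ∈ centreOf S, n * z * n⁻¹ = z := fun z hz =>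
    (inv_mul_eq_one.mp (d.fixed_both hG hc2 hv hvI hw hwI (mul_mem (inv_mem hz) (centreOf_conj hn hz))
      (hFix hv hvI hnv hz) (hFix hw hwI hnw hz))).symm
  obtain ⟨q, hq, y, hy, rfl⟩ := d.exists_decomp hG hv hvI ha
  have hy' : n * y * n⁻¹ ∈ ctr S Dv := by
    have h1 := (mem_ctr_conj hn (D := Dv) (x := n * y * n⁻¹)).mpr (by simpa [mul_assoc] using hy)
    rwa [hmap hv hvI hnv] at h1
  set c := y⁻¹ * (n * y * n⁻¹) with hc
  have hcY : c ∈ ctr S Dv := mul_mem (inv_mem hy) hy'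
  have hce : c * (v * w) * c⁻¹ = v * w := by
    have hyS : y ∈ (S : Subgroup G) := hv.1.le (ctr_le hy)
    have h1 := hQ _ (d.Q_normal (Subgroup.le_normalizer hyS) (zpow_one (v * w) ▸ d.e_mem 1))
    have h2 : n * y * n⁻¹ * (v * w) * (n * y * n⁻¹)⁻¹ = y * (v * w) * y⁻¹ := by
      rw [show n * y * n⁻¹ * (v * w) * (n * y * n⁻¹)⁻¹ = n * (y * (n⁻¹ * (v * w) * n) * y⁻¹) * n⁻¹ by group,
        show n⁻¹ * (v * w) * n = v * w by
          conv_lhs => rw [← hne]
          group, h1]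
    calc c * (v * w) * c⁻¹ = y⁻¹ * (n * y * n⁻¹ * (v * w) * (n * y * n⁻¹)⁻¹) * y := by rw [hc]; group
      _ = v * w := by rw [h2]; group
  have hcv : v * c = c * v := hv.1.comm v hvD c (ctr_le hcY)
  have hcC : c ∈ centreOf S := by
    refine mem_centreOf.mpr ⟨hv.1.le (ctr_le hcY), fun s hs => ?_⟩
    obtain ⟨q', hq', y', hy', rfl⟩ := d.exists_decomp hG hv hvI hs
    have h1 : Commute q' c := by
      obtain ⟨i, rfl | rfl⟩ := d.mem_Q hq'
      · exact (Commute.zpow_left (mul_inv_eq_iff_eq_mul.mp hce).symm i)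
      · exact Commute.mul_left hcv (Commute.zpow_left (mul_inv_eq_iff_eq_mul.mp hce).symm i)
    exact (h1.mul_left (hv.1.comm y' (ctr_le hy') c (ctr_le hcY))).eq
  have hnc := hZ c hcC
  have hpow : ∀ i : ℕ, n ^ i * y * (n ^ i)⁻¹ = y * c ^ i := by
    intro i
    induction i with
    | zero => simp
    | succ i ih =>
      calc n ^ (i + 1) * y * (n ^ (i + 1))⁻¹ = n * (n ^ i * y * (n ^ i)⁻¹) * n⁻¹ := by rw [pow_succ']; group
        _ = n * y * n⁻¹ * (n * c * n⁻¹) ^ i := by rw [ih, ← conj_mul, conj_pow]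
        _ = y * c ^ (i + 1) := by rw [hnc, show n * y * n⁻¹ = y * c by rw [hc]; group, mul_assoc, ← pow_succ']
  have h1 := hpow (orderOf n)
  rw [pow_orderOf_eq_one, one_mul, inv_one, mul_one, left_eq_mul] at h1
  have hc1 : c = 1 := by
    obtain ⟨i, hi⟩ := S.2 ⟨c, (mem_centreOf.mp hcC).1⟩
    have h2 : c ^ 2 ^ i = 1 := congrArg Subtype.val hi
    exact orderOf_eq_one_iff.mp (Nat.eq_one_of_dvd_coprimes ((Nat.coprime_two_right.mpr hodd).pow_right i)
      (orderOf_dvd_of_pow_eq_one h1) (orderOf_dvd_of_pow_eq_one h2))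
  rw [← conj_mul, hQ q hq, (inv_mul_eq_one.mp hc1).symm]

theorem main : Nonempty (↥(S : Subgroup G) ≃* DihedralGroup (2 ^ (j + 2))) := by
  haveI : Fact (Nat.Prime 2) := ⟨Nat.prime_two⟩
  set Q := closure ({v, w} : Set G) with hQdef
  set S0 := Q ⊔ ⁅(S : Subgroup G), (S : Subgroup G)⁆ with hS0
  have hS0N : ∀ {n x}, n ∈ normalizer ((S : Subgroup G) : Set G) → x ∈ S0 → n * x * n⁻¹ ∈ S0 := by
    intro n x hn hx
    have hle : S0.map (MulAut.conj n).toMonoidHom ≤ S0 := by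
      rw [hS0, Subgroup.map_sup, map_commutator]
      refine sup_le_sup ?_ (commutator_mono ?_ ?_)
      · rintro _ ⟨y, hy, rfl⟩
        exact d.Q_normal hn hy
      all_goals
        rintro _ ⟨y, hy, rfl⟩
        exact (mem_normalizer_iff.mp hn y).mp hy
    exact hle ⟨x, hx, rfl⟩
  -- `N(S)` acts trivially on `S / S0`
  let Good : Subgroup G :=
    { carrier := {n | n ∈ normalizer ((S : Subgroup G) : Set G) ∧
        ∀ a ∈ (S : Subgroup G), a⁻¹ * (n * a * n⁻¹) ∈ S0}
      one_mem' := ⟨one_mem _, fun a _ => by simp⟩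
      mul_mem' := fun {x y} hx hy => ⟨mul_mem hx.1 hy.1, fun a ha => by
        have h1 := hy.2 a ha
        have h2 := hx.2 _ ((mem_normalizer_iff.mp hy.1 a).mp ha)
        convert mul_mem h1 h2 using 1
        group⟩
      inv_mem' := fun {x} hx => ⟨inv_mem hx.1, fun a ha => by
        have h1 := hx.2 _ ((mem_normalizer_iff''.mp hx.1 a).mp ha)
        convert inv_mem h1 using 1
        group⟩ }
  have hGoodS : (S : Subgroup G) ≤ Good := fun s hs => ⟨Subgroup.le_normalizer hs, fun a ha => by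
    have h := commutator_mem_commutator (inv_mem ha) hs
    refine mem_sup_right ?_
    convert h using 1
    rw [commutatorElement_def]
    group⟩
  have hGood : normalizer ((S : Subgroup G) : Set G) ≤ Good := by
    intro n hn
    obtain ⟨t, ht⟩ := d.exists_move hG hn
    set k := (v * w) ^ t * n with hk
    have hkN : k ∈ normalizer ((S : Subgroup G) : Set G) := mul_mem (Subgroup.le_normalizer (zpow_mem d.eS t)) hn
    suffices hkG : k ∈ Good by
      have := mul_mem (inv_mem (hGoodS (zpow_mem d.eS t))) hkG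
      rwa [hk, inv_mul_cancel_left] at this
    obtain ⟨-, s, hs, hse, -⟩ := d.conj_refl hkN
    have hkpow : ∀ i : ℕ, k ^ i * (v * w) * (k ^ i)⁻¹ = (v * w) ^ (s ^ i) := by
      intro i
      induction i with
      | zero => simp
      | succ i ih =>
        calc k ^ (i + 1) * (v * w) * (k ^ (i + 1))⁻¹ = k * (k ^ i * (v * w) * (k ^ i)⁻¹) * k⁻¹ := by
              rw [pow_succ']; group
          _ = (v * w) ^ (s ^ (i + 1)) := by rw [ih, ← conj_zpow, hse, ← zpow_mul, pow_succ']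
    have hkvi : ∀ i : ℕ, k ^ i * v * (k ^ i)⁻¹ = v := by
      intro i
      induction i with
      | zero => simp
      | succ i ih =>
        calc k ^ (i + 1) * v * (k ^ (i + 1))⁻¹ = k * (k ^ i * v * (k ^ i)⁻¹) * k⁻¹ := by rw [pow_succ']; group
          _ = v := by rw [ih, ht]
    set W := (orderOf k).factorization 2
    set m := orderOf k / 2 ^ W
    have hWm : 2 ^ W * m = orderOf k := Nat.ordProj_mul_ordCompl_eq_self _ _
    have hodd : Odd m := Nat.not_even_iff_odd.mp fun he =>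
      Nat.not_dvd_ordCompl Nat.prime_two (orderOf_pos k).ne' (even_iff_two_dvd.mp he)
    set K := W + (j + 1) with hK
    have hkm : k ^ m ∈ (S : Subgroup G) := mem_of_two_power (pow_mem hkN m) (i := W)
      (by rw [← pow_mul, mul_comm, hWm, pow_orderOf_eq_one])
    have hk2 : k ^ 2 ^ K ∈ Good := by
      have hek : k ^ 2 ^ K * (v * w) * (k ^ 2 ^ K)⁻¹ = v * w := by
        rw [hkpow]
        obtain ⟨c, hc⟩ := (pow_dvd_pow (2 : ℤ) (show j + 2 ≤ K + 1 by omega)).trans (odd_pow_two_pow hs K)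
        rw [show s ^ 2 ^ K = (2 : ℤ) ^ (j + 2) * c + 1 by linarith, zpow_add, zpow_one,
          (d.zpow_eq_one _).mpr ⟨c, rfl⟩, one_mul]
      have hord : Odd (orderOf (k ^ 2 ^ K)) := by
        refine hodd.of_dvd_nat (orderOf_dvd_of_pow_eq_one ?_)
        rw [← pow_mul, hK, pow_add, mul_assoc, mul_comm (2 ^ (j + 1)), ← mul_assoc, hWm, pow_mul,
          pow_orderOf_eq_one, one_pow]
      refine ⟨pow_mem hkN _, fun a ha => ?_⟩
      rw [d.centralises hG hc2 (pow_mem hkN _) hord (hkvi _) hek ha, inv_mul_cancel]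
      exact one_mem _
    obtain ⟨a, b, hab⟩ : ∃ a b : ℤ, (m : ℤ) * a + ((2 ^ K : ℕ) : ℤ) * b = 1 := by
      refine ⟨Nat.gcdA m (2 ^ K), Nat.gcdB m (2 ^ K), ?_⟩
      rw [← Nat.gcd_eq_gcd_ab, ((Nat.coprime_two_right.mpr hodd).pow_right K).gcd_eq_one, Nat.cast_one]
    rw [← zpow_one k, ← hab, zpow_add, zpow_mul, zpow_mul, zpow_natCast, zpow_natCast]
    exact mul_mem (zpow_mem (hGoodS hkm) a) (zpow_mem hk2 b)
  -- the focal argument
  have hSle : (S : Subgroup G) ≤ S0 := by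
    refine d.set.ai.focal_comm hG (fun n hn a ha => (hGood hn).2 a ha) fun D hD g hg a ha => ?_
    have hNN := d.nn_of_ess hD
    have hU := d.isU D hNN
    let LG : Subgroup G :=
      { carrier := {l | l ∈ normalizer (D : Set G) ∧ ∀ a ∈ D, a⁻¹ * (l * a * l⁻¹) ∈ Q}
        one_mem' := ⟨one_mem _, fun a _ => by simp⟩
        mul_mem' := fun {x y} hx hy => ⟨mul_mem hx.1 hy.1, fun a ha => by
          have h1 := hy.2 a ha
          have h2 := hx.2 _ (Ess.conj_mem hy.1 ha)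
          convert mul_mem h1 h2 using 1
          group⟩
        inv_mem' := fun {x} hx => ⟨inv_mem hx.1, fun a ha => by
          have h1 := hx.2 _ ((mem_normalizer_iff''.mp hx.1 a).mp ha)
          convert inv_mem h1 using 1
          group⟩ }
    have hcl : conjClosure S D ≤ LG := by
      rw [conjClosure, closure_le]
      rintro _ ⟨h, hh, t, ht, rfl⟩
      refine ⟨mul_mem (mul_mem hh ht.2) (inv_mem hh), fun a ha => ?_⟩
      have hx : h * t * h⁻¹ * a * (h * t * h⁻¹)⁻¹ ∈ D := Ess.conj_mem (mul_mem (mul_mem hh ht.2) (inv_mem hh)) ha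
      rw [hD.comm a⁻¹ (inv_mem ha) _ hx, ← commutatorElement_def]
      rcases (d.set.core hNN).com_conj (d.set.small D hNN) d.set.ai hh ht ha hU with e | e | e
      · rw [e]; exact one_mem _
      · rw [e]; exact d.u_mem
      · exact d.iSet_le ⟨D, hNN, e⟩
    obtain ⟨h, hh, -, l, hl, rfl⟩ := hD.frattini d.set.ai hg
    have h1 : a⁻¹ * (h * a * h⁻¹) ∈ S0 := (hGood hh).2 a (hD.le ha)
    have h2 : h * (a⁻¹ * (l * a * l⁻¹)) * h⁻¹ ∈ S0 := hS0N hh (mem_sup_left ((hcl hl).2 a ha))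
    convert mul_mem h1 h2 using 1
    group
  have hSQ : (S : Subgroup G) = Q := by
    refine le_antisymm ?_ d.Q_le
    have htop : Q.subgroupOf (S : Subgroup G) ⊔ commutator ↥(S : Subgroup G) = ⊤ := by
      refine map_injective (Subgroup.subtype_injective _) ?_
      rw [Subgroup.map_sup, _root_.commutator_def, map_commutator, ← MonoidHom.range_eq_map, Subgroup.range_subtype,
        map_subgroupOf_eq_of_le d.Q_le]
      exact le_antisymm (sup_le d.Q_le (commutator_le_self _)) hSle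
    have h2 : Q.subgroupOf (S : Subgroup G) ⊔ frattini ↥(S : Subgroup G) = ⊤ :=
      top_le_iff.mp (htop.ge.trans (sup_le_sup le_rfl (CfsgLib.commutator_le_frattini_pGroup S.2)))
    exact subgroupOf_eq_top.mp (frattini_nongenerating h2)
  have hQcard : Nat.card Q = 2 * 2 ^ (j + 2) := by
    have hle : zpowers (v * w) ≤ Q := zpowers_le.mpr (zpow_one (v * w) ▸ d.e_mem 1)
    have hv' : v ∉ zpowers (v * w) := by
      rintro ⟨i, hi⟩
      obtain ⟨a, ha⟩ := d.iSet_refl (x := (v * w) ^ i) (by rw [show (v * w) ^ i = v from hi]; exact d.hv) (d.e_mem i)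
      obtain ⟨D, hD, hvI⟩ := d.hv
      obtain ⟨hvD, hvY, -⟩ := d.set.isI_mem hD hvI
      obtain ⟨hm, hmD⟩ := d.m_props.2 D hD hvD hvY
      refine hmD ((d.set.core hD).pure hvD hvY hm.1 ?_)
      have hc := ((Commute.refl (v * w)).zpow_zpow (2 ^ j : ℤ) i).eq
      rwa [show (v * w) ^ i = v from hi] at hc
    have hidx : (zpowers (v * w)).relIndex Q = 2 := by
      refine index_eq_two_iff.mpr ⟨⟨v, subset_closure (by simp)⟩, fun b => ?_⟩
      rw [mem_subgroupOf, mem_subgroupOf, Subgroup.coe_mul]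
      obtain ⟨i, e | e⟩ := d.mem_Q b.2
      · refine Or.inr ⟨⟨i, e.symm⟩, fun h => hv' ?_⟩
        exact (mul_mem_cancel_left (show (b : G) ∈ zpowers (v * w) from ⟨i, e.symm⟩)).mp h
      · refine Or.inl ⟨⟨-i, ?_⟩, fun h => hv' ?_⟩
        · show (v * w) ^ (-i) = (b : G) * v
          rw [e, d.flip, mul_assoc, d.v2, mul_one]
        · rw [e] at h
          exact (mul_mem_cancel_right (show (v * w) ^ i ∈ zpowers (v * w) from ⟨i, rfl⟩)).mp h
    have h1 := relIndex_mul_relIndex ⊥ (zpowers (v * w)) Q bot_le hle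
    rw [relIndex_bot_left, relIndex_bot_left, hidx, Nat.card_zpowers, d.ord] at h1
    omega
  haveI : NeZero (2 ^ (j + 2)) := ⟨by positivity⟩
  refine CfsgLib.Chev.nonempty_dihedral (⟨v, d.vS⟩ : ↥(S : Subgroup G)) ⟨w, (d.set.iSet_mem d.hw).1⟩
    (Subtype.ext d.v2) (Subtype.ext d.w2) (Subtype.ext ?_) ?_ (by rw [hSQ, hQcard])
  · show (v * w) ^ 2 ^ (j + 2) = 1
    rw [← d.ord, pow_orderOf_eq_one]
  · refine map_injective (Subgroup.subtype_injective _) ?_
    rw [MonoidHom.map_closure, ← MonoidHom.range_eq_map, Subgroup.range_subtype, Set.image_pair]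
    exact hSQ.symm

end Simple

end Dih

end CfsgLib.AbelianInt
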