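import Cfsg.Agent.Lib.AbelianInt.Dih

/-!
In the dihedral case no subgroup `Ess` is normal in `S`.

Blueprint: `blueprint/S3186.md`, section 5.
-/

set_option autoImplicit false
set_option linter.unusedSectionVars false
set_option linter.style.haveILetI false

namespace CfsgLib.AbelianInt

open Cfsg Cfsg.FusionSystem Subgroup
open scoped commutatorElement

universe u

variable {G : Type u} [Group G] [Finite G] {S : Sylow 2 G} {E : Subgroup G}

/-- A normal `Ess` subgroup contains no pure element of another one. -/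
theorem Setting.no_pure (hs : Setting S) (hE : Ess S E) (hn : (S : Subgroup G) ≤ normalizer (E : Set G))
    {D : Subgroup G} (hD : NN S D) {r : G} (hr : r ∈ D) (hrY : r ∉ ctr S D) (hrE : r ∈ E) : False := by
  have h1 : E ≤ D := fun x hx => (hs.core hD).pure hr hrY (hE.le hx) (hE.comm x hx r hrE)
  have h2 : D ≤ E := fun x hx => hE.self x (hD.1.le hx) fun e he => hD.1.comm e (h1 he) x hx
  exact hD.2 (le_antisymm h1 h2 ▸ hn)

namespace Dih

variable {v w u : G} {j : ℕ} (d : Dih S v w u j)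
include d

theorem com_zpow {x : G} (hE : Ess S E) (hn : (S : Subgroup G) ≤ normalizer (E : Set G)) (hx : x ∈ E) :
    ∃ t : ℤ, ⁅v, x⁆ = (v * w) ^ t ∧ ⁅v, x⁆ ∈ E := by
  have hxn : x ∈ normalizer ((S : Subgroup G) : Set G) := Subgroup.le_normalizer (hE.le hx)
  obtain ⟨t, ht⟩ := d.iSet_refl (d.hv.conj hxn) (d.iSet_le (d.hv.conj hxn))
  have hvi : v⁻¹ = v := inv_eq_of_mul_eq_one_right d.v2
  refine ⟨t, ?_, ?_⟩
  · calc ⁅v, x⁆ = v * (x * v⁻¹ * x⁻¹) := by rw [commutatorElement_def]; group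
      _ = (v * w) ^ t := by rw [hvi, ht, ← mul_assoc, d.v2, one_mul]
  · rw [commutatorElement_def]
    exact mul_mem ((mem_normalizer_iff.mp (hn d.vS) x).mp hx) (inv_mem hx)

/-- A square root of `u` in a normal `Ess` subgroup. -/
theorem exists_root (hE : Ess S E) (hn : (S : Subgroup G) ≤ normalizer (E : Set G)) :
    ∃ b : ℤ, (v * w) ^ b ∈ E ∧ (v * w) ^ b * (v * w) ^ b = u := by
  obtain ⟨D, hD, hvI⟩ := d.hv
  obtain ⟨hvD, hvY, -⟩ := d.set.isI_mem hD hvI
  have cD := d.set.core hD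
  by_cases hbig : ∃ x ∈ E, ∀ t : ℤ, ⁅v, x⁆ = (v * w) ^ t → (v * w) ^ t * (v * w) ^ t ≠ 1
  · obtain ⟨x, hx, hne⟩ := hbig
    obtain ⟨t, ht, htE⟩ := d.com_zpow hE hn hx
    rw [ht] at htE
    have h2 := hne t ht
    obtain ⟨a, ha⟩ := S.2 ⟨(v * w) ^ t, zpow_mem d.eS t⟩
    obtain ⟨l, -, hl⟩ := (Nat.dvd_prime_pow Nat.prime_two).mp
      (orderOf_dvd_of_pow_eq_one (show ((v * w) ^ t) ^ 2 ^ a = 1 from congrArg Subtype.val ha))
    obtain ⟨i, rfl⟩ : ∃ i, l = i + 2 := by
      rcases l with _ | _ | i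
      · rw [pow_zero, orderOf_eq_one_iff] at hl; rw [hl, one_mul] at h2; exact absurd rfl h2
      · have := pow_orderOf_eq_one ((v * w) ^ t)
        rw [hl, zero_add, pow_one, pow_two] at this
        exact absurd this h2
      · exact ⟨i, rfl⟩
    have hpow : (v * w) ^ (t * (2 ^ i : ℕ)) = ((v * w) ^ t) ^ (2 ^ i : ℕ) := by rw [zpow_mul, zpow_natCast]
    refine ⟨t * (2 ^ i : ℕ), by rw [hpow]; exact pow_mem htE _, ?_⟩
    have h4 : (v * w) ^ (t * (2 ^ i : ℕ) * 2) * (v * w) ^ (t * (2 ^ i : ℕ) * 2) = 1 := by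
      rw [← zpow_add, show t * (2 ^ i : ℕ) * 2 + t * (2 ^ i : ℕ) * 2 = t * ((2 ^ (i + 2) : ℕ) : ℤ) by push_cast; ring,
        zpow_mul, zpow_natCast, ← hl, pow_orderOf_eq_one]
    rw [← zpow_add, show t * (2 ^ i : ℕ) + t * (2 ^ i : ℕ) = t * (2 ^ i : ℕ) * 2 by ring]
    refine (d.invol h4).resolve_left fun e => ?_
    have h5 : ((v * w) ^ t) ^ (2 ^ i * 2) = 1 := by
      rw [← zpow_natCast, ← zpow_mul, ← e]; push_cast; ring_nf
    have h6 := Nat.le_of_dvd (by positivity) (orderOf_dvd_of_pow_eq_one h5)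
    rw [hl, pow_succ, pow_succ] at h6
    have : 0 < 2 ^ i := by positivity
    omega
  push Not at hbig
  -- `E` normalises `D`
  have hET : ∀ x ∈ E, x ∈ normalizerIn (S : Subgroup G) D := by
    intro x hx
    refine ⟨hE.le hx, mem_normalizer_fintype fun y hy => ?_⟩
    obtain ⟨t, ht, h2⟩ := hbig x hx
    have huY := (cD.isU_props (d.isU D hD)).1
    have hxv : x * v * x⁻¹ = v * (v * w) ^ t := by
      rw [← ht, commutatorElement_def, show v * (v * x * v⁻¹ * x⁻¹) = (v * v) * x * v⁻¹ * x⁻¹ by group, d.v2,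
        inv_eq_of_mul_eq_one_right d.v2, one_mul]
    have hmem : v * (v * w) ^ t ∈ D ∧ v * (v * w) ^ t ∉ ctr S D := by
      rcases d.invol h2 with e | e <;> rw [e]
      · rw [mul_one]; exact ⟨hvD, hvY⟩
      · exact ⟨mul_mem hvD (ctr_le huY), fun h => hvY ((mul_mem_cancel_right huY).mp h)⟩
    refine cD.pure hmem.1 hmem.2 (mul_mem (mul_mem (hE.le hx) (hD.1.le hy)) (inv_mem (hE.le hx))) ?_
    rw [← hxv, conj_mul, conj_mul, hD.1.comm y hy v hvD]
  obtain ⟨z, hz, hzD⟩ : ∃ z ∈ E, z ∉ D := by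
    by_contra hall
    push Not at hall
    exact d.set.no_pure hE hn hD hvD hvY (hE.self v d.vS fun e he => hD.1.comm e (hall e he) v hvD)
  obtain ⟨hmT, hmD⟩ := d.m_props.2 D hD hvD hvY
  set m := (v * w) ^ (2 ^ j : ℤ) with hm
  refine ⟨2 ^ j, ?_, d.m_props.1⟩
  rw [← hm]
  have hYE : ∀ {y}, y ∈ ctr S D → y ∈ E := fun hy =>
    hE.self _ (hD.1.le (ctr_le hy)) fun e he => ctr_comm hy (hET e he)
  have hmz : m * z ∈ D := cD.mul_mem_of_not_mem (d.set.small D hD) hmT (hET z hz) hmD hzD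
  by_cases hY : m * z ∈ ctr S D
  · have := mul_mem (hYE hY) (inv_mem hz)
    rwa [mul_inv_cancel_right] at this
  exfalso
  have h1 := cD.mul_ctr_of_not_mem (d.set.small D hD) hvD hmz hvY hY
  have h2 := mul_mem (hYE h1) (inv_mem hz)
  rw [show v * (m * z) * z⁻¹ = v * m by group] at h2
  obtain ⟨D', hD', hI⟩ := d.refl_iSet (2 ^ j)
  obtain ⟨h3, h4, -⟩ := d.set.isI_mem hD' hI
  exact d.set.no_pure hE hn hD' h3 h4 h2

/-- Some conjugate of `u` under `N(E)` is moved by `v`. -/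
theorem exists_moved (hE : Ess S E) (hn : (S : Subgroup G) ≤ normalizer (E : Set G)) (huE : u ∈ E) :
    ∃ g ∈ normalizer (E : Set G), v * (g * u * g⁻¹) ≠ g * u * g⁻¹ * v := by
  haveI : Fact (Nat.Prime 2) := ⟨Nat.prime_two⟩
  letI := hE.commGroup
  obtain ⟨P, hP, hX⟩ := hE.exists_tiAct d.set.ai
  let W : Subgroup E :=
    { carrier := {x | x * x = 1}
      one_mem' := one_mul 1
      mul_mem' := fun {x y} hx hy => by
        show x * y * (x * y) = 1
        rw [mul_mul_mul_comm, hx, hy, one_mul]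
      inv_mem' := fun {x} hx => by
        show x⁻¹ * x⁻¹ = 1
        rw [← mul_inv_rev, hx, inv_one] }
  have hW : ∀ x : autX E, ∀ z ∈ W, (autX E).subtype x z ∈ W := fun x z hz => by
    show (autX E).subtype x z * (autX E).subtype x z = 1
    rw [← map_mul, (show z * z = 1 from hz), map_one]
  have hR := hX.restrict W hW fun d hd => hd
  by_contra hall
  push Not at hall
  set a := toX (hn d.vS) with ha
  have hvT : v ∈ normalizerIn (S : Subgroup G) E := ⟨d.vS, hn d.vS⟩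
  obtain ⟨D, hD, hvI⟩ := d.hv
  obtain ⟨hvD, hvY, -⟩ := d.set.isI_mem hD hvI
  have hvE : v ∉ E := fun h => d.set.no_pure hE hn hD hvD hvY h
  obtain ⟨Q, hQ⟩ := hX.nn P
  obtain ⟨k, rfl⟩ := MulAction.exists_smul_eq (autX E) P Q
  obtain ⟨g, hg, rfl⟩ := exists_toX k
  set b := toX hg * a * (toX hg)⁻¹ with hb
  have haP : a ∈ (P : Subgroup (autX E)) := (hP _).mpr ⟨v, hvT, rfl⟩
  have hbQ : b ∈ ((toX hg • P : Sylow 2 (autX E)) : Subgroup (autX E)) := ⟨a, haP, rfl⟩
  have ha2 : a * a = 1 := by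
    show E.normalizerMonoidHom.rangeRestrict ⟨v, hn d.vS⟩ * E.normalizerMonoidHom.rangeRestrict ⟨v, hn d.vS⟩ = 1
    rw [← map_mul, show (⟨v, hn d.vS⟩ : normalizer (E : Set G)) * ⟨v, hn d.vS⟩ = 1 from Subtype.ext d.v2, map_one]
  have hb2 : b * b = 1 := by rw [hb, conj_mul, ha2, mul_one, mul_inv_cancel]
  have ha1 : a ≠ 1 := fun e => hvE ((hE.toX_eq_one hvT).mp e)
  have hb1 : b ≠ 1 := fun e => ha1 (conj_eq_one_iff.mp e)
  set u' := g * u * g⁻¹ with hu'
  have hu'E : u' ∈ E := Ess.conj_mem hg huE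
  have hvi : v⁻¹ = v := inv_eq_of_mul_eq_one_right d.v2
  have huv : v * u * v⁻¹ = u := d.u_central (Subgroup.le_normalizer d.vS)
  have hu'v : v * u' * v⁻¹ = u' := by rw [hall g hg, mul_inv_cancel_right]
  have hgu : g * v * g⁻¹ * u * (g * v * g⁻¹)⁻¹ = u := by
    have h := hall g⁻¹ (inv_mem hg)
    rw [inv_inv] at h
    calc g * v * g⁻¹ * u * (g * v * g⁻¹)⁻¹ = g * (v * (g⁻¹ * u * g)) * v⁻¹ * g⁻¹ := by group
      _ = g * (g⁻¹ * u * g * v) * v⁻¹ * g⁻¹ := by rw [h]
      _ = u := by group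
  have hgu' : g * v * g⁻¹ * u' * (g * v * g⁻¹)⁻¹ = u' := by
    rw [hu', show g * v * g⁻¹ * (g * u * g⁻¹) * (g * v * g⁻¹)⁻¹ = g * (v * u * v⁻¹) * g⁻¹ by group, huv]
  -- values of the two involutions on `W`
  have hval : ∀ x ∈ E, x * x = 1 → v * x * v⁻¹ = x ∨ v * x * v⁻¹ = u * x := by
    intro x hx hx2
    obtain ⟨t, ht, htE⟩ := d.com_zpow hE hn hx
    have h2 : (v * w) ^ t * (v * w) ^ t = 1 := by
      have hc := hE.comm _ htE x hx
      have h : ⁅v, x⁆ * x = v * x * v⁻¹ := by rw [commutatorElement_def]; group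
      calc (v * w) ^ t * (v * w) ^ t = ⁅v, x⁆ * ⁅v, x⁆ * (x * x) := by rw [ht, hx2, mul_one]
        _ = ⁅v, x⁆ * (⁅v, x⁆ * x) * x := by group
        _ = ⁅v, x⁆ * (x * ⁅v, x⁆) * x := by rw [hc]
        _ = (⁅v, x⁆ * x) * (⁅v, x⁆ * x) := by group
        _ = 1 := by rw [h, conj_mul, hx2, mul_one, mul_inv_cancel]
    rw [show v * x * v⁻¹ = ⁅v, x⁆ * x by rw [commutatorElement_def]; group, ht]
    rcases d.invol h2 with e | e <;> rw [e]
    · exact Or.inl (one_mul x)
    · exact Or.inr rfl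
  have hab : (a * b) * (a * b) = 1 := by
    refine hR.inj ?_
    rw [map_one]
    refine MulEquiv.ext fun z => Subtype.ext (Subtype.ext ?_)
    show v * (g * (v * (g⁻¹ * (v * (g * (v * (g⁻¹ * ((z : E) : G) * g⁻¹⁻¹) * v⁻¹) * g⁻¹) * v⁻¹) * g⁻¹⁻¹) * v⁻¹) *
      g⁻¹) * v⁻¹ = ((z : E) : G)
    set x := ((z : E) : G) with hx
    have hxE : x ∈ E := (z : E).2
    have hx2 : x * x = 1 := congrArg Subtype.val z.2
    set A : G → G := fun y => v * y * v⁻¹
    set B : G → G := fun y => g * v * g⁻¹ * y * (g * v * g⁻¹)⁻¹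
    have hAm : ∀ y y', A (y * y') = A y * A y' := fun y y' => (conj_mul).symm
    have hBm : ∀ y y', B (y * y') = B y * B y' := fun y y' => (conj_mul).symm
    have hBval : ∀ y ∈ E, y * y = 1 → B y = y ∨ B y = u' * y := by
      intro y hy hy2
      have h1 := hval _ ((mem_normalizer_iff''.mp hg y).mp hy)
        (by rw [show g⁻¹ * y * g * (g⁻¹ * y * g) = g⁻¹ * (y * y) * g by group, hy2, mul_one, inv_mul_cancel])
      rcases h1 with e | e
      · left
        calc B y = g * (v * (g⁻¹ * y * g) * v⁻¹) * g⁻¹ := by simp only [B]; group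
          _ = y := by rw [e]; group
      · right
        calc B y = g * (v * (g⁻¹ * y * g) * v⁻¹) * g⁻¹ := by simp only [B]; group
          _ = u' * y := by rw [e, hu']; group
    suffices hg2 : A (B (A (B x))) = x by
      calc _ = A (B (A (B x))) := by simp only [A, B]; group
        _ = x := hg2
    have huu : u * u = 1 := by rw [d.u_eq, ← zpow_add, d.zpow_eq_one]; exact ⟨1, by ring⟩
    have hu'2 : u' * u' = 1 := by rw [hu', conj_mul, huu, mul_one, mul_inv_cancel]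
    have hAu : A u = u := huv
    have hAu' : A u' = u' := hu'v
    have hBu : B u = u := hgu
    have hBu' : B u' = u' := hgu'
    have c1 : u * u' = u' * u := hE.comm u huE u' hu'E
    rcases hBval x hxE hx2 with eb | eb <;> rcases hval x hxE hx2 with ea | ea <;>
      (change A x = _ at ea; simp only [eb, ea, hAm, hBm, hAu, hAu', hBu, hBu'])
    · rw [← mul_assoc, huu, one_mul]
    · rw [← mul_assoc, hu'2, one_mul]
    · calc _ = u' * u * (u' * u) * x := by group
        _ = x := by rw [← c1, show u * u' * (u * u') = u * (u' * u) * u' by group, ← c1,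
            show u * (u * u') * u' * x = u * u * (u' * u') * x by group, huu, hu'2, one_mul, one_mul]
  obtain ⟨i, hi⟩ := hX.odd_mul (Ne.symm hQ) haP hbQ ha2 hb2 ha1 hb1
  have h1 := pow_orderOf_eq_one (a * b)
  rw [hi, pow_succ, pow_mul, pow_two, hab, one_pow, one_mul] at h1
  have hab' : a = b := by
    calc a = a * b * b := by rw [mul_assoc, hb2, mul_one]
      _ = b := by rw [h1, one_mul]
  exact ha1 (hX.ti P _ (Ne.symm hQ) a haP (hab' ▸ hbQ))

theorem no_normal (hE : Ess S E) : ¬ (S : Subgroup G) ≤ normalizer (E : Set G) := by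
  intro hn
  obtain ⟨b, hbE, hbu⟩ := d.exists_root hE hn
  have huE : u ∈ E := hbu ▸ mul_mem hbE hbE
  obtain ⟨g, hg, hne⟩ := d.exists_moved hE hn huE
  set u' := g * u * g⁻¹ with hu'
  set z := g * (v * w) ^ b * g⁻¹ with hz
  have hzE : z ∈ E := Ess.conj_mem hg hbE
  have hzz : z * z = u' := by rw [hz, conj_mul, hbu]
  have hu'E : u' ∈ E := hzz ▸ mul_mem hzE hzE
  obtain ⟨t, ht, htE⟩ := d.com_zpow hE hn hzE
  rw [ht] at htE
  set c := (v * w) ^ t with hc
  have hzc : v * z * v⁻¹ = c * z := by rw [← ht, commutatorElement_def]; group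
  have hcz : c * z = z * c := hE.comm c htE z hzE
  have hzz' : v * u' * v⁻¹ = c * c * u' := by
    calc v * u' * v⁻¹ = v * z * v⁻¹ * (v * z * v⁻¹) := by rw [conj_mul, hzz]
      _ = c * (z * c) * z := by rw [hzc]; group
      _ = c * (c * z) * z := by rw [hcz]
      _ = c * c * u' := by rw [← hzz]; group
  have hvi : v⁻¹ = v := inv_eq_of_mul_eq_one_right d.v2
  have huu : u * u = 1 := by rw [d.u_eq, ← zpow_add, d.zpow_eq_one]; exact ⟨1, by ring⟩
  have hu'2 : u' * u' = 1 := by rw [hu', conj_mul, huu, mul_one, mul_inv_cancel]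
  have hcc : c * c = u := by
    have h4 : (v * w) ^ (t + t) * (v * w) ^ (t + t) = 1 := by
      rw [zpow_add, ← hc]
      have h5 : c * c * u' * (c * c * u') = 1 := by rw [← hzz', conj_mul, hu'2, mul_one, mul_inv_cancel]
      calc c * c * (c * c) = c * c * (c * c) * (u' * u') := by rw [hu'2, mul_one]
        _ = c * c * (c * c * u') * u' := by group
        _ = c * c * (u' * (c * c)) * u' := by rw [hE.comm u' hu'E _ (mul_mem htE htE)]
        _ = c * c * u' * (c * c * u') := by group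
        _ = 1 := h5
    rw [hc, ← zpow_add]
    refine (d.invol h4).resolve_left fun e => hne ?_
    rw [zpow_add, ← hc] at e
    rw [e, one_mul] at hzz'
    exact mul_inv_eq_iff_eq_mul.mp hzz'
  obtain ⟨D, hD, hvI⟩ := d.hv
  obtain ⟨hvD, hvY, -⟩ := d.set.isI_mem hD hvI
  set p := u' * c with hp
  have hvc : v * c * v⁻¹ = c⁻¹ := by
    rw [hc, d.flip, zpow_neg, mul_inv_cancel_right]
  have hpv : v * p * v⁻¹ = p := by
    calc v * p * v⁻¹ = (v * u' * v⁻¹) * (v * c * v⁻¹) := by rw [hp]; group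
      _ = c * c * u' * c⁻¹ := by rw [hzz', hvc]
      _ = u' * (c * c) * c⁻¹ := by rw [hE.comm u' hu'E _ (mul_mem htE htE)]
      _ = p := by rw [hp]; group
  have hpD : p ∈ D := (d.set.core hD).pure hvD hvY (mul_mem (hE.le hu'E) (hE.le htE))
    (mul_inv_eq_iff_eq_mul.mp hpv).symm
  refine d.set.not_sq hD (d.isU D hD) hpD ?_
  calc p * p = u' * (c * u') * c := by rw [hp]; group
    _ = u' * (u' * c) * c := by rw [hE.comm c htE u' hu'E]
    _ = u := by rw [← mul_assoc, hu'2, one_mul, hcc]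

end Dih

end CfsgLib.AbelianInt
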