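import Cfsg.Agent.Lib.AbelianInt.FFKernel

/-!
# Quadratic offenders in groups with trivially intersecting Sylow 2-subgroups

`A ≠ 1` inside a Sylow 2-subgroup `P` acts quadratically with `|D : C(A)| ≤ |A| = q`.  Then
`A = P` is elementary, every pair of conjugates of `A` in different Sylow subgroups has
`D = C(A) C(B)` and the same common fixed points, and those contain all squares.

Blueprint: `blueprint/S3186.md`, section 1.
-/

set_option autoImplicit false
set_option linter.unusedSectionVars false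

namespace CfsgLib.AbelianInt

open Subgroup

universe u v

variable {X : Type u} [Group X] {D : Type v} [CommGroup D]

/-- A conjugate of `A`. -/
def cjA (A : Subgroup X) (g : X) : Subgroup X := A.map (MulAut.conj g).toMonoidHom

theorem mem_cjA {A : Subgroup X} {g x : X} : x ∈ cjA A g ↔ g⁻¹ * x * g ∈ A := by
  constructor
  · rintro ⟨y, hy, rfl⟩
    simpa [mul_assoc] using hy
  · intro h
    exact ⟨g⁻¹ * x * g, h, by simp [mul_assoc]⟩

theorem card_cjA (A : Subgroup X) (g : X) : Nat.card (cjA A g) = Nat.card A :=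
  (Nat.card_congr (A.equivMapOfInjective (MulAut.conj g).toMonoidHom
    (MulAut.conj g).injective).toEquiv).symm

theorem app_app (ρ : X →* MulAut D) (x y : X) (d : D) : ρ x (ρ y d) = ρ (x * y) d := by
  rw [map_mul, MulAut.mul_apply]

theorem app_one (ρ : X →* MulAut D) (d : D) : ρ 1 d = d := by rw [map_one, MulAut.one_apply]

theorem mem_fixD_cjA {ρ : X →* MulAut D} {A : Subgroup X} {g : X} {d : D} :
    d ∈ fixD ρ (cjA A g) ↔ ρ g⁻¹ d ∈ fixD ρ A := by
  simp only [mem_fixD, mem_cjA]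
  constructor
  · intro h a ha
    have h1 := h (g * a * g⁻¹) (by simpa [mul_assoc] using ha)
    calc ρ a (ρ g⁻¹ d) = ρ g⁻¹ (ρ (g * a * g⁻¹) d) := by
          rw [app_app, app_app, mul_assoc g a, inv_mul_cancel_left]
      _ = ρ g⁻¹ d := by rw [h1]
  · intro h x hx
    have h1 := h _ hx
    calc ρ x d = ρ g (ρ (g⁻¹ * x * g) (ρ g⁻¹ d)) := by
          rw [app_app, app_app]
          congr 2
          group
      _ = ρ g (ρ g⁻¹ d) := by rw [h1]
      _ = d := by rw [app_app, mul_inv_cancel, app_one]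

theorem index_fixD_cjA (ρ : X →* MulAut D) (A : Subgroup X) (g : X) :
    (fixD ρ (cjA A g)).index = (fixD ρ A).index := by
  have e : fixD ρ (cjA A g) = (fixD ρ A).comap (ρ g⁻¹).toMonoidHom := by
    ext d
    rw [mem_fixD_cjA]
    rfl
  rw [e, index_comap_of_surjective]
  exact (ρ g⁻¹).surjective

variable [Finite X] [Finite D]

/-- The hypotheses of the offender lemma. -/
structure Offender (ρ : X →* MulAut D) (P : Sylow 2 X) (A : Subgroup X) : Prop where
  act : TIAct ρ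
  le : A ≤ P
  ne : A ≠ ⊥
  quad : ∀ a ∈ A, ∀ b ∈ A, ∀ d, ρ b (mv ρ a d) = mv ρ a d
  bound : (fixD ρ A).index ≤ Nat.card A

namespace Offender

variable {ρ : X →* MulAut D} {P : Sylow 2 X} {A : Subgroup X} (O : Offender ρ P A)
include O

theorem cjA_le (g : X) : cjA A g ≤ (g • P : Sylow 2 X) := by
  intro x hx
  have hx' : g⁻¹ * x * g ∈ (P : Subgroup X) := O.le (mem_cjA.1 hx)
  rw [Sylow.coe_subgroup_smul, mem_pointwise_smul_iff_inv_smul_mem]
  simpa [mul_assoc] using hx'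

theorem syl_unique {x : X} (hx : x ≠ 1) {Q R : Sylow 2 X} (hQ : x ∈ (Q : Subgroup X))
    (hR : x ∈ (R : Subgroup X)) : Q = R :=
  by_contra fun h => hx (O.act.ti Q R h x hQ hR)

theorem sq_one {a : X} (ha : a ∈ A) : a * a = 1 :=
  O.act.eq_one_of_mod_sq fun d => ⟨mv ρ a d, by
    rw [mv_mul, mv_eq_one.2 (O.quad a ha a ha d), mul_one]⟩

theorem sq_one_cjA {g a : X} (ha : a ∈ cjA A g) : a * a = 1 := by
  have h := O.sq_one (mem_cjA.1 ha)
  have e : g⁻¹ * (a * a) * g = 1 := by rw [← h]; group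
  have e2 : a * a = g * (g⁻¹ * (a * a) * g) * g⁻¹ := by group
  rw [e2, e]
  group

theorem quad_cjA {g a b : X} (ha : a ∈ cjA A g) (hb : b ∈ cjA A g) (d : D) :
    ρ b (mv ρ a d) = mv ρ a d := by
  have h := O.quad _ (mem_cjA.1 ha) _ (mem_cjA.1 hb) (ρ g⁻¹ d)
  have h' := congrArg (ρ g) h
  simp only [mv_apply, map_mul (ρ _), map_inv (ρ _), app_app] at h' ⊢
  rw [show g * (g⁻¹ * b * g * (g⁻¹ * a * g * g⁻¹)) = b * a by group,
    show g * (g⁻¹ * b * g * g⁻¹) = b by group,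
    show g * (g⁻¹ * a * g * g⁻¹) = a by group,
    show g * g⁻¹ = 1 by group, app_one] at h'
  exact h'

theorem mv_mem {g a : X} (ha : a ∈ cjA A g) (d : D) : mv ρ a d ∈ fixD ρ (cjA A g) :=
  fun _ hb => O.quad_cjA ha hb d

theorem mv_hom {g a b : X} (ha : a ∈ cjA A g) (hb : b ∈ cjA A g) (d : D) :
    mv ρ (a * b) d = mv ρ a d * mv ρ b d := by
  rw [mv_mul, mv_eq_one.2 (O.quad_cjA hb ha d), mul_one]

theorem exists_ne_one (g : X) : ∃ b ∈ cjA A g, b ≠ 1 := by
  obtain ⟨a, ha⟩ := ne_bot_iff_exists_ne_one.1 O.ne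
  refine ⟨g * a * g⁻¹, mem_cjA.2 (by simp [mul_assoc]), ?_⟩
  intro h
  exact ha (Subtype.ext (conj_eq_one_iff.1 h))

theorem kernel {g h a : X} (hne : g • P ≠ h • P) (ha : a ∈ cjA A g) {y : D}
    (hy : y ∈ fixD ρ (cjA A h)) (hz : mv ρ a y ∈ fixD ρ (cjA A h)) : ρ a y = y := by
  obtain ⟨b, hb, hb1⟩ := O.exists_ne_one h
  exact O.act.fixed_of_mv hne (O.cjA_le g ha) (O.cjA_le h hb) (O.sq_one_cjA ha) (O.sq_one_cjA hb)
    hb1 (hy b hb) (O.quad_cjA ha ha y) (hz b hb)

theorem exists_max : ∃ g₀ h₀ : X, g₀ • P ≠ h₀ • P ∧ ∀ g h : X, g • P ≠ h • P →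
    Nat.card ↥(fixD ρ (cjA A g) ⊓ fixD ρ (cjA A h)) ≤
      Nat.card ↥(fixD ρ (cjA A g₀) ⊓ fixD ρ (cjA A h₀)) := by
  obtain ⟨Q, hQ⟩ := O.act.nn P
  obtain ⟨x, rfl⟩ := MulAction.exists_smul_eq X P Q
  let S : Set (X × X) := {p | p.1 • P ≠ p.2 • P}
  have hS : S.Nonempty := ⟨(x, 1), by simpa [S] using hQ⟩
  obtain ⟨p, hp, hmax⟩ := Set.exists_max_image S
    (fun p => Nat.card ↥(fixD ρ (cjA A p.1) ⊓ fixD ρ (cjA A p.2))) (Set.toFinite _) hS
  exact ⟨p.1, p.2, hp, fun g h hgh => hmax (g, h) hgh⟩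

/-- `C(a) ∩ C(B) = F` for a pair with largest `F`. -/
theorem fix_inf_le {g h : X} (hne : g • P ≠ h • P)
    (hmax : ∀ g' h' : X, g' • P ≠ h' • P →
      Nat.card ↥(fixD ρ (cjA A g') ⊓ fixD ρ (cjA A h')) ≤
        Nat.card ↥(fixD ρ (cjA A g) ⊓ fixD ρ (cjA A h)))
    {a : X} (ha : a ∈ cjA A g) (ha1 : a ≠ 1) {y : D} (hya : ρ a y = y)
    (hyB : y ∈ fixD ρ (cjA A h)) : y ∈ fixD ρ (cjA A g) := by
  obtain ⟨b, hb, hb1⟩ := O.exists_ne_one h
  obtain ⟨k, hk, hkb⟩ := O.act.exists_conj hne (O.cjA_le g ha) (O.cjA_le h hb) (O.sq_one_cjA ha)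
    (O.sq_one_cjA hb) ha1 hb1
  have hfix : ∀ d : D, ρ a d = d → ρ b d = d → ρ k⁻¹ d = d := by
    intro d hda hdb
    let S : Subgroup X :=
      { carrier := {z | ρ z d = d}
        one_mem' := by simp
        mul_mem' := fun {z w} hz hw => by
          change ρ (z * w) d = d
          rw [map_mul, MulAut.mul_apply, hw, hz]
        inv_mem' := fun {z} hz => by
          change ρ z⁻¹ d = d
          conv_lhs => rw [← hz]
          rw [app_app, inv_mul_cancel, app_one] }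
    have hS : closure ({a, b} : Set X) ≤ S := by
      rw [closure_le]
      rintro z (rfl | rfl)
      · exact hda
      · exact hdb
    exact S.inv_mem (hS hk)
  have ha' : a ∈ cjA A (k * h) := by
    rw [mem_cjA, ← hkb]
    simpa [mul_assoc] using mem_cjA.1 hb
  have hsyl : (k * h) • P = g • P := O.syl_unique ha1 (O.cjA_le _ ha') (O.cjA_le g ha)
  have hin : ∀ d : D, ρ a d = d → d ∈ fixD ρ (cjA A h) →
      d ∈ fixD ρ (cjA A (k * h)) ⊓ fixD ρ (cjA A h) := by
    intro d hd hdB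
    refine ⟨mem_fixD_cjA.2 ?_, hdB⟩
    rw [mul_inv_rev, map_mul, MulAut.mul_apply, hfix d hd (hdB b hb)]
    exact mem_fixD_cjA.1 hdB
  have heq : fixD ρ (cjA A g) ⊓ fixD ρ (cjA A h) = fixD ρ (cjA A (k * h)) ⊓ fixD ρ (cjA A h) :=
    eq_of_le_of_card_ge (fun d hd => hin d (hd.1 a ha) hd.2) (hmax _ _ (hsyl ▸ hne))
  have := hin y hya hyB
  rw [← heq] at this
  exact this.1

/-- For a maximising pair, `q ≤ |C(A) : F|`. -/
theorem card_le_relIndex {g h : X} (hne : g • P ≠ h • P)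
    (hmax : ∀ g' h' : X, g' • P ≠ h' • P →
      Nat.card ↥(fixD ρ (cjA A g') ⊓ fixD ρ (cjA A h')) ≤
        Nat.card ↥(fixD ρ (cjA A g) ⊓ fixD ρ (cjA A h))) :
    Nat.card A ≤ (fixD ρ (cjA A h)).relIndex (fixD ρ (cjA A g)) := by
  set U := fixD ρ (cjA A g)
  set V := fixD ρ (cjA A h)
  -- some point of `V` is outside `U`
  obtain ⟨y, hy, hyU⟩ : ∃ y ∈ V, y ∉ U := by
    by_contra! hcon
    have hVU : V ≤ U := hcon
    have hUV : V = U := eq_of_le_of_card_ge hVU (by
      have h1 := index_mul_card U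
      have h2 := index_mul_card V
      have he : U.index = V.index := (index_fixD_cjA ρ A g).trans (index_fixD_cjA ρ A h).symm
      rw [← he, ← h1] at h2
      exact le_of_eq (Nat.eq_of_mul_eq_mul_left (Nat.pos_of_ne_zero U.index_ne_zero_of_finite) h2).symm)
    obtain ⟨a, ha, ha1⟩ := O.exists_ne_one g
    obtain ⟨b, hb, hb1⟩ := O.exists_ne_one h
    obtain ⟨i, hi⟩ := O.act.odd_mul hne (O.cjA_le g ha) (O.cjA_le h hb) (O.sq_one_cjA ha)
      (O.sq_one_cjA hb) ha1 hb1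
    have hall : ∀ z : D, ρ (a * b) z = z := by
      intro z
      have hz' : mv ρ b z ∈ U := hUV ▸ O.mv_mem hb z
      have hw' : mv ρ a z ∈ V := hUV.symm ▸ O.mv_mem ha z
      set e := mv ρ a z * mv ρ b z with he
      have hxy' : ρ (a * b) z = z * e := by
        rw [map_mul, MulAut.mul_apply, apply_eq b z, map_mul, apply_eq a z, hz' a ha, he,
          mul_assoc]
      have hxe : ρ (a * b) e = e := by
        rw [← app_app, he, map_mul (ρ b), O.quad_cjA hb hb z, hw' b hb, map_mul (ρ a),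
          O.quad_cjA ha ha z, hz' a ha]
      have s : ∀ (g' : X) (f : X), f ∈ cjA A g' → mv ρ f z * mv ρ f z = 1 := by
        intro g' f hf
        rw [← O.mv_hom hf hf z, O.sq_one_cjA hf, mv_eq_one, map_one, MulAut.one_apply]
      have he2 : e * e = 1 := by rw [he, mul_mul_mul_comm, s g a ha, s h b hb, one_mul]
      have h1' := pow_apply_translate hxy' hxe (orderOf (a * b))
      rw [pow_orderOf_eq_one, map_one, MulAut.one_apply, hi, pow_succ, pow_mul, pow_two, he2,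
        one_pow, one_mul] at h1'
      rw [hxy', left_eq_mul.1 h1', mul_one]
    have hab1 : a * b = 1 := O.act.inj (MulEquiv.ext fun z => by simpa using hall z)
    have : a = b := by
      rw [eq_inv_of_mul_eq_one_left hab1, inv_eq_of_mul_eq_one_right (O.sq_one_cjA hb)]
    exact hne (O.syl_unique ha1 (O.cjA_le g ha) (this ▸ O.cjA_le h hb))
  let m : cjA A g → U ⧸ V.subgroupOf U := fun a => QuotientGroup.mk ⟨mv ρ a.1 y, O.mv_mem a.2 y⟩
  have hm : Function.Injective m := by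
    rintro ⟨a, ha⟩ ⟨b, hb⟩ he
    have he' := QuotientGroup.eq.1 he
    rw [mem_subgroupOf] at he'
    have hab : (mv ρ a y)⁻¹ * mv ρ b y = mv ρ (a * b) y := by
      rw [O.mv_hom ha hb y]
      congr 1
      refine inv_eq_of_mul_eq_one_right ?_
      rw [← O.mv_hom ha ha y, O.sq_one_cjA ha, mv_eq_one, map_one, MulAut.one_apply]
    simp only [coe_mul, coe_inv] at he'
    rw [hab] at he'
    have hfix := O.kernel hne (mul_mem ha hb) hy he'
    by_contra hne1
    have : a * b ≠ 1 := fun e => hne1 (Subtype.ext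
      ((eq_inv_of_mul_eq_one_left e).trans (inv_eq_of_mul_eq_one_right (O.sq_one_cjA hb))))
    exact hyU (O.fix_inf_le hne hmax (mul_mem ha hb) this hfix hy)
  have := Nat.card_le_card_of_injective m hm
  rw [card_cjA] at this
  exact this

/-- All pairs: sizes. -/
theorem pair_index {g h : X} (hne : g • P ≠ h • P) :
    (fixD ρ (cjA A g) ⊓ fixD ρ (cjA A h)).index = Nat.card A * Nat.card A ∧
      (fixD ρ A).index = Nat.card A := by
  obtain ⟨g₀, h₀, hne₀, hmax⟩ := O.exists_max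
  have hle := O.card_le_relIndex hne₀ hmax
  have h1 : (fixD ρ (cjA A h₀)).relIndex (fixD ρ (cjA A g₀)) ≤ (fixD ρ (cjA A h₀)).index := by
    rw [← relIndex_top_right]
    exact relIndex_le_of_le_right le_top
      (by rw [relIndex_top_right]; exact index_ne_zero_of_finite)
  rw [index_fixD_cjA] at h1
  have hb := O.bound
  have hi : (fixD ρ A).index = Nat.card A := by omega
  have h0 : (fixD ρ (cjA A g₀) ⊓ fixD ρ (cjA A h₀)).index = Nat.card A * Nat.card A := by
    rw [← relIndex_mul_index (inf_le_left : fixD ρ (cjA A g₀) ⊓ fixD ρ (cjA A h₀) ≤ _),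
      inf_relIndex_left, index_fixD_cjA, hi]
    congr 1
    omega
  refine ⟨le_antisymm ?_ ?_, hi⟩
  · refine index_inf_le.trans ?_
    rw [index_fixD_cjA, index_fixD_cjA, hi]
  · rw [← h0]
    have hc := hmax g h hne
    have e1 := index_mul_card (fixD ρ (cjA A g) ⊓ fixD ρ (cjA A h))
    have e2 := index_mul_card (fixD ρ (cjA A g₀) ⊓ fixD ρ (cjA A h₀))
    by_contra hlt
    have := Nat.mul_lt_mul_of_lt_of_le (Nat.lt_of_not_le hlt) hc Nat.card_pos
    omega

theorem pair_max {g h : X} (hne : g • P ≠ h • P) : ∀ g' h' : X, g' • P ≠ h' • P →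
    Nat.card ↥(fixD ρ (cjA A g') ⊓ fixD ρ (cjA A h')) ≤
      Nat.card ↥(fixD ρ (cjA A g) ⊓ fixD ρ (cjA A h)) := by
  intro g' h' hne'
  have e1 := index_mul_card (fixD ρ (cjA A g) ⊓ fixD ρ (cjA A h))
  have e2 := index_mul_card (fixD ρ (cjA A g') ⊓ fixD ρ (cjA A h'))
  rw [(O.pair_index hne).1] at e1
  rw [(O.pair_index hne').1] at e2
  exact le_of_eq (Nat.eq_of_mul_eq_mul_left (Nat.mul_pos Nat.card_pos Nat.card_pos)
    (e2.trans e1.symm))

theorem decomp {g h : X} (hne : g • P ≠ h • P) (d : D) :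
    ∃ u ∈ fixD ρ (cjA A g), ∃ v ∈ fixD ρ (cjA A h), d = u * v := by
  set U := fixD ρ (cjA A g)
  set V := fixD ρ (cjA A h)
  have hU : U.index = Nat.card A := (index_fixD_cjA ρ A g).trans (O.pair_index hne).2
  have hV : V.index = Nat.card A := (index_fixD_cjA ρ A h).trans (O.pair_index hne).2
  have hr : V.relIndex U = V.index := by
    have := relIndex_mul_index (inf_le_left : U ⊓ V ≤ U)
    rw [(O.pair_index hne).1, inf_relIndex_left, hU] at this
    rw [hV]
    exact Nat.eq_of_mul_eq_mul_right Nat.card_pos this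
  have htop : U ⊔ V = ⊤ := by
    rw [← index_eq_one]
    have h2 := relIndex_mul_index (le_sup_right : V ≤ U ⊔ V)
    rw [relIndex_sup_right, hr] at h2
    exact (mul_eq_left₀ index_ne_zero_of_finite).1 h2
  obtain ⟨u, hu, v, hv, rfl⟩ := mem_sup.1 (htop ▸ mem_top d : d ∈ U ⊔ V)
  exact ⟨u, hu, v, hv, rfl⟩

theorem fix_elt {g a : X} (ha : a ∈ cjA A g) (ha1 : a ≠ 1) {d : D} (hd : ρ a d = d) :
    d ∈ fixD ρ (cjA A g) := by
  obtain ⟨Q, hQ⟩ := O.act.nn (g • P)
  obtain ⟨h, rfl⟩ := MulAction.exists_smul_eq X P Q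
  obtain ⟨u, hu, v, hv, rfl⟩ := O.decomp hQ.symm d
  rw [map_mul, hu a ha] at hd
  exact mul_mem hu (O.fix_inf_le hQ.symm (O.pair_max hQ.symm) ha ha1 (mul_left_cancel hd) hv)

/-- `[D, a]` meets the fixed points of another conjugate trivially. -/
theorem disj {g h a : X} (hne : g • P ≠ h • P) (ha : a ∈ cjA A g) {d : D}
    (hd : mv ρ a d ∈ fixD ρ (cjA A h)) : ρ a d = d := by
  obtain ⟨u, hu, v, hv, rfl⟩ := O.decomp hne d
  rw [map_mul, mv_eq_one.2 (hu a ha), one_mul] at hd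
  rw [map_mul, hu a ha, O.kernel hne ha hv hd]

/-- `D = [D, b] C(A)`. -/
theorem inv_part {g h : X} (hne : g • P ≠ h • P) (d : D) :
    ∃ e f : D, e * e = 1 ∧ f ∈ fixD ρ (cjA A g) ∧ d = e * f := by
  obtain ⟨b, hb, hb1⟩ := O.exists_ne_one h
  set U := fixD ρ (cjA A g)
  set R := (mv ρ b).range
  have hdis : R ⊓ U = ⊥ := by
    refine le_bot_iff.1 ?_
    rintro z ⟨⟨y, rfl⟩, hz⟩
    rw [mem_bot, mv_eq_one]
    exact O.disj hne.symm hb hz
  have hker : (mv ρ b).ker = fixD ρ (cjA A h) := by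
    ext y
    rw [MonoidHom.mem_ker, mv_eq_one]
    exact ⟨fun hy => O.fix_elt hb hb1 hy, fun hy => hy b hb⟩
  have hcard : Nat.card R = U.index := by
    rw [← index_ker, hker, index_fixD_cjA, index_fixD_cjA]
  have hr : U.relIndex R = Nat.card R := by
    rw [← inf_relIndex_right, inf_comm, hdis, relIndex_bot_left]
  have htop : R ⊔ U = ⊤ := by
    rw [← index_eq_one]
    have h2 := relIndex_mul_index (le_sup_right : U ≤ R ⊔ U)
    rw [relIndex_sup_right, hr, hcard] at h2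
    exact (mul_eq_left₀ index_ne_zero_of_finite).1 h2
  obtain ⟨e, ⟨y, rfl⟩, f, hf, rfl⟩ := mem_sup.1 (htop ▸ mem_top d : d ∈ R ⊔ U)
  refine ⟨_, f, ?_, hf, rfl⟩
  rw [← O.mv_hom hb hb y, O.sq_one_cjA hb, mv_eq_one, map_one, MulAut.one_apply]

theorem sq_mem (g : X) (d : D) : d * d ∈ fixD ρ (cjA A g) := by
  intro x hx
  rw [map_mul, apply_eq x d, mul_mul_mul_comm, ← O.mv_hom hx hx d, O.sq_one_cjA hx,
    mv_eq_one.2 (by simp), mul_one]

/-- The members `C(A)`, `C(B^a)` cover `D`. -/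
theorem cover {g h : X} (hne : g • P ≠ h • P) (d : D) :
    d ∈ fixD ρ (cjA A g) ∨ ∃ a ∈ cjA A g, d ∈ fixD ρ (cjA A (a * h)) := by
  obtain ⟨u, hu, v, hv, rfl⟩ := O.decomp hne d
  set U := fixD ρ (cjA A g)
  set V := fixD ρ (cjA A h)
  by_cases hvU : v ∈ U
  · exact Or.inl (mul_mem hu hvU)
  right
  let m : cjA A g → U ⧸ V.subgroupOf U := fun a => QuotientGroup.mk ⟨mv ρ a.1 v, O.mv_mem a.2 v⟩
  have hm : Function.Injective m := by
    rintro ⟨a, ha⟩ ⟨b, hb⟩ he
    have he' := QuotientGroup.eq.1 he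
    rw [mem_subgroupOf] at he'
    have hab : (mv ρ a v)⁻¹ * mv ρ b v = mv ρ (a * b) v := by
      rw [O.mv_hom ha hb v]
      congr 1
      refine inv_eq_of_mul_eq_one_right ?_
      rw [← O.mv_hom ha ha v, O.sq_one_cjA ha, mv_eq_one, map_one, MulAut.one_apply]
    simp only [coe_mul, coe_inv] at he'
    rw [hab] at he'
    have hfix := O.kernel hne (mul_mem ha hb) hv he'
    by_contra hne1
    have : a * b ≠ 1 := fun e => hne1 (Subtype.ext
      ((eq_inv_of_mul_eq_one_left e).trans (inv_eq_of_mul_eq_one_right (O.sq_one_cjA hb))))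
    exact hvU (O.fix_elt (mul_mem ha hb) this hfix)
  have hcard : Nat.card (U ⧸ V.subgroupOf U) ≤ Nat.card (cjA A g) := by
    rw [card_cjA, ← (O.pair_index hne).2, ← index_fixD_cjA ρ A h]
    change V.relIndex U ≤ V.index
    rw [← relIndex_top_right]
    exact relIndex_le_of_le_right le_top (by rw [relIndex_top_right]; exact index_ne_zero_of_finite)
  have hbij := hm.bijective_of_nat_card_le hcard
  obtain ⟨⟨a, ha⟩, hau⟩ := hbij.2 (QuotientGroup.mk (⟨u, hu⟩ : U))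
  have hf := QuotientGroup.eq.1 hau
  rw [mem_subgroupOf] at hf
  simp only [coe_mul, coe_inv] at hf
  set f := (mv ρ a v)⁻¹ * u with hfdef
  have hfU : f ∈ U := mul_mem (inv_mem (O.mv_mem ha v)) hu
  refine ⟨a, ha, mem_fixD_cjA.2 ?_⟩
  have hu' : u = mv ρ a v * f := by rw [hfdef, mul_inv_cancel_left]
  have hd : u * v = ρ a (f * v) := by
    rw [map_mul, hfU a ha, apply_eq a v, hu', mul_comm (mv ρ a v) f, mul_assoc,
      mul_comm v (mv ρ a v)]
  rw [hd, mul_inv_rev, map_mul, MulAut.mul_apply, show ρ a⁻¹ (ρ a (f * v)) = f * v by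
    rw [← MulAut.mul_apply, ← map_mul, inv_mul_cancel, map_one, MulAut.one_apply]]
  exact mem_fixD_cjA.1 (mul_mem hf hv)

/-- There are exactly `q + 1` Sylow subgroups, and `P = A`. -/
theorem eq_sylow_and_card :
    A = (P : Subgroup X) ∧ Nat.card (Sylow 2 X) = Nat.card A + 1 := by
  obtain ⟨Q, hQ⟩ := O.act.nn P
  obtain ⟨h, rfl⟩ := MulAction.exists_smul_eq X P Q
  obtain ⟨a, ha, ha1⟩ := O.exists_ne_one 1
  have hP1 : ((1 : X) • P : Sylow 2 X) = P := one_smul X P
  -- a vector of `[D, a]`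
  obtain ⟨y, hy⟩ : ∃ y : D, ρ a y ≠ y := by
    by_contra! hcon
    exact ha1 (O.act.inj (MulEquiv.ext fun z => by simpa using hcon z))
  set r := mv ρ a y with hr
  have hrne : ∀ k : X, r ∈ fixD ρ (cjA A k) → k • P = P := by
    intro k hk
    by_contra hk'
    exact hy (O.disj (g := 1) (h := k) (by rw [hP1]; exact Ne.symm hk') ha hk)
  have horbit : ∀ R : Sylow 2 X, R ≠ P → R ≠ h • P → ∃ b ∈ cjA A h, R = b • P := by
    intro R hR hRh
    obtain ⟨k, rfl⟩ := MulAction.exists_smul_eq X P R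
    rcases O.cover (g := h) (h := k) hRh.symm r with hc | ⟨b, hb, hc⟩
    · exact absurd (hrne h hc) hQ
    · refine ⟨b⁻¹, inv_mem hb, ?_⟩
      have := hrne _ hc
      rw [mul_smul] at this
      exact eq_inv_smul_iff.2 this
  classical
  have hnat : Nat.card {R : Sylow 2 X // R ≠ P} ≤ Nat.card A := by
    rw [← card_cjA A h]
    refine Nat.card_le_card_of_surjective
      (fun b : cjA A h => if hb : b.1 = 1 then (⟨h • P, hQ⟩ : {R : Sylow 2 X // R ≠ P})
        else ⟨b.1 • P, fun e => hb (O.act.semiregular hQ (O.cjA_le h b.2)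
          (Sylow.smul_eq_iff_mem_normalizer.1 e))⟩) ?_
    rintro ⟨R, hR⟩
    by_cases hRh : R = h • P
    · exact ⟨1, by simp [hRh]⟩
    obtain ⟨b, hb, rfl⟩ := horbit R hR hRh
    have hb1 : b ≠ 1 := fun e => hR (by rw [e, one_smul])
    exact ⟨⟨b, hb⟩, by simp [hb1]⟩
  have hinj : Nat.card P ≤ Nat.card {R : Sylow 2 X // R ≠ P} := by
    refine Nat.card_le_card_of_injective
      (fun p : (P : Subgroup X) => (⟨p.1 • h • P, fun e => hQ (by
        have hp : p.1 • P = P := Sylow.smul_eq_iff_mem_normalizer.2 (le_normalizer p.2)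
        exact smul_left_cancel p.1 (e.trans hp.symm))⟩ : {R : Sylow 2 X // R ≠ P})) ?_
    intro p q hpq
    have e : p.1 • h • P = q.1 • h • P := congrArg Subtype.val hpq
    have e' : (q.1⁻¹ * p.1) • h • P = h • P := by rw [mul_smul, e, inv_smul_smul]
    have := O.act.semiregular hQ.symm (mul_mem (inv_mem q.2) p.2)
      (Sylow.smul_eq_iff_mem_normalizer.1 e')
    exact Subtype.ext (inv_mul_eq_one.1 this).symm
  have hAP : A = (P : Subgroup X) := eq_of_le_of_card_ge O.le (hinj.trans hnat)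
  refine ⟨hAP, ?_⟩
  haveI := Fintype.ofFinite (Sylow 2 X)
  have h2 : Nat.card {R : Sylow 2 X // R ≠ P} = Nat.card A :=
    le_antisymm hnat (le_of_eq_of_le (by rw [hAP]) hinj)
  rw [← h2, Nat.card_eq_fintype_card, Nat.card_eq_fintype_card, Fintype.card_subtype_compl,
    Fintype.card_subtype_eq]
  have : 0 < Fintype.card (Sylow 2 X) := Fintype.card_pos
  omega

theorem eq_sylow : A = (P : Subgroup X) := O.eq_sylow_and_card.1

theorem card_sylow : Nat.card (Sylow 2 X) = Nat.card A + 1 := O.eq_sylow_and_card.2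

theorem cjA_eq_sylow (g : X) : cjA A g = ((g • P : Sylow 2 X) : Subgroup X) := by
  refine eq_of_le_of_card_ge (O.cjA_le g) (le_of_eq ?_)
  rw [card_cjA, O.eq_sylow]
  exact (Nat.card_congr (Subgroup.equivSMul (MulAut.conj g) (P : Subgroup X)).toEquiv).symm

end Offender

/-- Output of the offender lemma. -/
structure FFOut (ρ : X →* MulAut D) (P : Sylow 2 X) (A : Subgroup X) : Prop where
  eq : A = (P : Subgroup X)
  idx : (fixD ρ A).index = Nat.card A
  elem : ∀ a ∈ A, a * a = 1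
  fix_eq : ∀ a ∈ A, a ≠ 1 → ∀ d, ρ a d = d → d ∈ fixD ρ A
  inv_part : ∀ d, ∃ e f, e * e = 1 ∧ f ∈ fixD ρ A ∧ d = e * f
  sq_fixed : ∀ f ∈ fixD ρ A, ∀ (Q : Sylow 2 X), ∀ x ∈ (Q : Subgroup X), ρ x (f * f) = f * f
  disj : ∀ Q : Sylow 2 X, Q ≠ P → ∀ a ∈ A, ∀ d, mv ρ a d ∈ fixD ρ (Q : Subgroup X) → ρ a d = d
  card_sylow : Nat.card (Sylow 2 X) = Nat.card A + 1

/-- **The offender lemma.** -/
theorem TIAct.ff {ρ : X →* MulAut D} (h : TIAct ρ) {P : Sylow 2 X} {A : Subgroup X} (hAP : A ≤ P)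
    (hA1 : A ≠ ⊥) (hquad : ∀ a ∈ A, ∀ b ∈ A, ∀ d, ρ b (mv ρ a d) = mv ρ a d)
    (hidx : (fixD ρ A).index ≤ Nat.card A) : FFOut ρ P A := by
  have O : Offender ρ P A := ⟨h, hAP, hA1, hquad, hidx⟩
  have e1 : cjA A 1 = A := by ext x; simp [mem_cjA]
  obtain ⟨Q, hQ⟩ := h.nn P
  obtain ⟨g, rfl⟩ := MulAction.exists_smul_eq X P Q
  have hne : (1 : X) • P ≠ g • P := by rw [one_smul]; exact hQ.symm
  refine ⟨O.eq_sylow, (O.pair_index hne).2, fun a ha => O.sq_one ha, ?_, ?_, ?_, ?_, O.card_sylow⟩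
  · intro a ha ha1 d hd
    rw [← e1] at ha ⊢
    exact O.fix_elt ha ha1 hd
  · intro d
    obtain ⟨e, f, he, hf, hd⟩ := O.inv_part hne d
    exact ⟨e, f, he, e1 ▸ hf, hd⟩
  · intro f _ R x hx
    obtain ⟨k, rfl⟩ := MulAction.exists_smul_eq X P R
    rw [← O.cjA_eq_sylow] at hx
    exact O.sq_mem k f x hx
  · intro R hR a ha d hd
    obtain ⟨k, rfl⟩ := MulAction.exists_smul_eq X P R
    rw [← O.cjA_eq_sylow] at hd
    exact O.disj (g := 1) (by rw [one_smul]; exact Ne.symm hR) (by rw [e1]; exact ha) hd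

end CfsgLib.AbelianInt
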