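import Cfsg.Agent.Lib.AbelianInt.Pair

/-!
Elementary consequences of the structure of `N_S(D)`; the partner of a subgroup `Ess` that is not normal in `S`.

Blueprint: `blueprint/S3186.md`, sections 2 and 4.
-/

set_option autoImplicit false
set_option linter.unusedSectionVars false
set_option linter.style.haveILetI false

namespace CfsgLib.AbelianInt

open Cfsg Cfsg.FusionSystem Subgroup
open scoped commutatorElement

universe u

variable {G : Type u} [Group G] [Finite G] {S : Sylow 2 G} {D D' : Subgroup G}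

theorem ctr_le : ctr S D ≤ D := inf_le_left

theorem ctr_comm {x t : G} (hx : x ∈ ctr S D) (ht : t ∈ normalizerIn (S : Subgroup G) D) : t * x = x * t :=
  (mem_ctr.mp hx).2 t ht

/-- An element of `S` commuting with `N_S(D)` lies in its centre. -/
theorem Ess.mem_ctr_of_comm (hD : Ess S D) {x : G} (hx : x ∈ (S : Subgroup G))
    (h : ∀ t ∈ normalizerIn (S : Subgroup G) D, t * x = x * t) : x ∈ ctr S D :=
  mem_ctr.mpr ⟨hD.self x hx fun d hd => h d (hD.le_normalizerIn hd), h⟩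

theorem eq_one_of_comm_eq {a b : G} (h : a * b = b * a) : ⁅a, b⁆ = 1 := commutatorElement_eq_one_iff_mul_comm.mpr h

namespace Core

variable (c : Core S D)
include c

/-- An element of `D` outside the centre of `N_S(D)` has centraliser `D` in `S`. -/
theorem pure {d s : G} (hd : d ∈ D) (hdY : d ∉ ctr S D) (hs : s ∈ (S : Subgroup G)) (h : s * d = d * s) : s ∈ D := by
  haveI : Fact (Nat.Prime 2) := ⟨Nat.prime_two⟩
  set C := (S : Subgroup G) ⊓ centralizer ({d} : Set G) with hC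
  have hsC : s ∈ C := ⟨hs, mem_centralizer_singleton_iff.mpr h⟩
  have hDC : D ≤ C := fun x hx => ⟨c.ess.le hx, mem_centralizer_singleton_iff.mpr (c.ess.comm x hx d hd)⟩
  by_contra hsD
  obtain ⟨x, hx, hxD⟩ := SetLike.exists_of_lt
    (lt_normalizerIn (S.2.to_le inf_le_left : IsPGroup 2 C) (lt_of_le_of_ne hDC fun e => hsD (e ▸ hsC)))
  exact hdY (c.fix_eq x ⟨hx.1.1, hx.2⟩ hxD d hd (mem_centralizer_singleton_iff.mp hx.1.2))

theorem exists_not_ctr : ∃ d ∈ D, d ∉ ctr S D := by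
  obtain ⟨t, ht, htD⟩ := c.ess.exists_outside
  by_contra hall
  push Not at hall
  exact htD (c.ess.self t ht.1 fun d hd => (ctr_comm (hall d hd) ht).symm)

theorem exists_pure_inv : ∃ e ∈ D, e ∉ ctr S D ∧ e * e = 1 := by
  obtain ⟨d, hd, hdY⟩ := c.exists_not_ctr
  obtain ⟨e, he, f, hf, he2, rfl⟩ := c.inv_part d hd
  exact ⟨e, he, fun heY => hdY (mul_mem heY hf), he2⟩

theorem exists_sq {d : G} (hd : d ∈ D) : ∃ f ∈ ctr S D, d * d = f * f := by
  obtain ⟨e, he, f, hf, he2, rfl⟩ := c.inv_part d hd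
  refine ⟨f, hf, ?_⟩
  rw [← mul_assoc, mul_assoc e f e, c.ess.comm f (ctr_le hf) e he, ← mul_assoc e e f, he2, one_mul]

theorem com_right {t d e : G} (ht : t ∈ normalizerIn (S : Subgroup G) D) (hd : d ∈ D) (he : e ∈ D) :
    ⁅t, d * e⁆ = ⁅t, d⁆ * ⁅t, e⁆ := by
  have h := c.ess.comm d hd _ (ctr_le (c.com_mem t ht e he))
  calc ⁅t, d * e⁆ = ⁅t, d⁆ * (d * ⁅t, e⁆ * d⁻¹) := by simp only [commutatorElement_def]; group
    _ = ⁅t, d⁆ * ⁅t, e⁆ := by rw [h, mul_inv_cancel_right]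

theorem com_left {t t' d : G} (ht : t ∈ normalizerIn (S : Subgroup G) D) (ht' : t' ∈ normalizerIn (S : Subgroup G) D)
    (hd : d ∈ D) : ⁅t * t', d⁆ = ⁅t', d⁆ * ⁅t, d⁆ := by
  have h := ctr_comm (c.com_mem t' ht' d hd) ht
  calc ⁅t * t', d⁆ = t * ⁅t', d⁆ * t⁻¹ * ⁅t, d⁆ := by simp only [commutatorElement_def]; group
    _ = ⁅t', d⁆ * ⁅t, d⁆ := by rw [h, mul_inv_cancel_right]

theorem com_sq {t d : G} (ht : t ∈ normalizerIn (S : Subgroup G) D) (hd : d ∈ D) : ⁅t, d⁆ * ⁅t, d⁆ = 1 := by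
  obtain ⟨e, he, f, hf, he2, rfl⟩ := c.inv_part d hd
  have h1 : ⁅t, e * f⁆ = ⁅t, e⁆ := by
    rw [c.com_right ht he (ctr_le hf), eq_one_of_comm_eq (ctr_comm hf ht), mul_one]
  rw [h1, ← c.com_right ht he he, he2, commutatorElement_one_right]

theorem com_ne_one {t d : G} (ht : t ∈ normalizerIn (S : Subgroup G) D) (htD : t ∉ D) (hd : d ∈ D)
    (hdY : d ∉ ctr S D) : ⁅t, d⁆ ≠ 1 :=
  fun h => hdY (c.fix_eq t ht htD d hd (commutatorElement_eq_one_iff_mul_comm.mp h))

end Core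

/-- The data attached to a subgroup `Ess` that is not normal in `S`. -/
structure Twin (S : Sylow 2 G) (D : Subgroup G) (g : G) : Prop where
  out : PairOut S D (D.map (MulAut.conj g).toMonoidHom)
  mem : g ∈ (S : Subgroup G)
  outside : g ∉ normalizerIn (S : Subgroup G) D
  norm : g ∈ normalizer ((normalizerIn (S : Subgroup G) D : Subgroup G) : Set G)

theorem mem_map_conj {g x : G} : x ∈ D.map (MulAut.conj g).toMonoidHom ↔ g⁻¹ * x * g ∈ D := by
  rw [mem_map_equiv, MulAut.conj_symm_apply]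

theorem Ess.exists_twin (hA : AI G) (hD : Ess S D) (hn : ¬ (S : Subgroup G) ≤ normalizer (D : Set G)) :
    ∃ g, Twin S D g := by
  haveI : Fact (Nat.Prime 2) := ⟨Nat.prime_two⟩
  set T := normalizerIn (S : Subgroup G) D with hT
  have hlt : T < (S : Subgroup G) := lt_of_le_of_ne inf_le_left fun e => hn fun s hs => (e.symm ▸ hs : s ∈ T).2
  obtain ⟨g, ⟨hg, hgN⟩, hgT⟩ := SetLike.exists_of_lt (lt_normalizerIn S.2 hlt)
  refine ⟨g, ?_, hg, hgT, hgN⟩
  have hgT' : ∀ {t}, t ∈ T → g⁻¹ * t * g ∈ T := fun ht => (mem_normalizer_iff''.mp hgN _).mp ht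
  refine Partner.out hA ⟨hD, fun e => hgT ⟨hg, ?_⟩, fun x hx => ?_, fun t ht x hx => ?_, ?_, fun s hs h => ?_,
    (card_map_of_injective (MulAut.conj g).injective).ge⟩
  · exact mem_normalizer_fintype fun d hd => e ▸ ⟨d, hd, rfl⟩
  · obtain ⟨d, hd, rfl⟩ := hx
    exact (mem_normalizer_iff.mp hgN d).mp (hD.le_normalizerIn hd)
  · rw [mem_map_conj] at hx ⊢
    have := (mem_normalizer_iff.mp (hgT' ht).2 _).mp hx
    simpa [mul_assoc] using this
  · exact fun x hx y hy => (hD.conj (Subgroup.le_normalizer hg)).comm x hx y hy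
  · exact (hD.conj (Subgroup.le_normalizer hg)).self s hs.1 h

namespace Twin

variable {g : G} (tw : Twin S D g)

theorem conj_ctr {h x : G} (hD : Ess S D) (hh : h ∈ (S : Subgroup G))
    (hN : h ∈ normalizer ((normalizerIn (S : Subgroup G) D : Subgroup G) : Set G)) (hx : x ∈ ctr S D) :
    h * x * h⁻¹ ∈ ctr S D := by
  refine hD.mem_ctr_of_comm (mul_mem (mul_mem hh (hD.le (ctr_le hx))) (inv_mem hh)) fun t ht => ?_
  have h1 := ctr_comm hx ((mem_normalizer_iff''.mp hN t).mp ht)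
  calc t * (h * x * h⁻¹) = h * (h⁻¹ * t * h * x) * h⁻¹ := by group
    _ = h * (x * (h⁻¹ * t * h)) * h⁻¹ := by rw [h1]
    _ = h * x * h⁻¹ * t := by group

include tw in
theorem ess : Ess S D := tw.out.core.ess

include tw in
theorem partner_sq {x : G} (hx : x ∈ D.map (MulAut.conj g).toMonoidHom) : ∃ f ∈ ctr S D, x * x = f * f := by
  obtain ⟨d, hd, rfl⟩ := hx
  obtain ⟨f, hf, he⟩ := tw.out.core.exists_sq hd
  refine ⟨g * f * g⁻¹, conj_ctr tw.ess tw.mem tw.norm hf, ?_⟩
  show g * d * g⁻¹ * (g * d * g⁻¹) = g * f * g⁻¹ * (g * f * g⁻¹)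
  rw [conj_mul, he, conj_mul]

include tw in
/-- An involution of `N_S(D)` lies in `D` or in its twin. -/
theorem inv_mem_union {x : G} (hx : x ∈ normalizerIn (S : Subgroup G) D) (hx2 : x * x = 1) :
    x ∈ D ∨ x ∈ D.map (MulAut.conj g).toMonoidHom := by
  obtain ⟨d, hd, b, hb, rfl⟩ := tw.out.gen x hx
  have hbT : b ∈ normalizerIn (S : Subgroup G) D := by
    have := mul_mem (inv_mem (tw.ess.le_normalizerIn hd)) hx
    rwa [inv_mul_cancel_left] at this
  by_contra hc
  push Not at hc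
  have hdY : d ∉ ctr S D := fun h => hc.2 (mul_mem (tw.out.inter.ge h).2 hb)
  have hbD : b ∉ D := fun h => hc.1 (mul_mem hd h)
  refine hdY (tw.out.core.fix_eq b hbT hbD d hd ?_)
  obtain ⟨f, hf, hf'⟩ := tw.out.core.exists_sq hd
  obtain ⟨k, hk, hk'⟩ := tw.partner_sq hb
  refine tw.out.core.no_sq b hbT d hd (f⁻¹ * k⁻¹) (mul_mem (inv_mem hf) (inv_mem hk)) ?_
  have hm := tw.out.core.com_mem b hbT d hd
  set z := ⁅b, d⁆ with hz
  have hzd : d * z = z * d := tw.ess.comm d hd z (ctr_le hm)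
  have h1 : z * (f * f) * (k * k) = 1 := by
    rw [← hf', ← hk', show z * (d * d) * (b * b) = z * d * (d * b * b) by group, ← hzd]
    calc d * z * (d * b * b) = d * b * (d * b) := by rw [hz, commutatorElement_def]; group
      _ = 1 := hx2
  have hfk : f * k = k * f := tw.ess.comm f (ctr_le hf) k (ctr_le hk)
  have h2 : f * f * (k * k) = k * f * (k * f) := by
    calc f * f * (k * k) = f * (f * k) * k := by group
      _ = f * (k * f) * k := by rw [hfk]
      _ = f * k * (f * k) := by group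
      _ = k * f * (k * f) := by rw [hfk]
  calc z = z * (f * f) * (k * k) * (f * f * (k * k))⁻¹ := by group
    _ = (k * f * (k * f))⁻¹ := by rw [h1, one_mul, h2]
    _ = f⁻¹ * k⁻¹ * (f⁻¹ * k⁻¹) := by group

include tw in
/-- The conjugates of `D` under `N_S(N_S(D))` are `D` and its twin. -/
theorem two_conj {h : G} (hh : h ∈ (S : Subgroup G))
    (hN : h ∈ normalizer ((normalizerIn (S : Subgroup G) D : Subgroup G) : Set G)) :
    h ∈ normalizerIn (S : Subgroup G) D ∨ g⁻¹ * h ∈ normalizerIn (S : Subgroup G) D := by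
  set D' := D.map (MulAut.conj g).toMonoidHom with hD'
  set E := D.map (MulAut.conj h).toMonoidHom with hE
  have hEsub : ∀ x ∈ E, x ∈ D ∨ x ∈ D' := by
    rintro _ ⟨d, hd, rfl⟩
    obtain ⟨e, he, f, hf, he2, rfl⟩ := tw.out.core.inv_part d hd
    have hfY := tw.out.inter.ge (conj_ctr tw.ess hh hN hf)
    show h * (e * f) * h⁻¹ ∈ D ∨ h * (e * f) * h⁻¹ ∈ D'
    rw [← conj_mul]
    rcases tw.inv_mem_union ((mem_normalizer_iff.mp hN e).mp (tw.ess.le_normalizerIn he))
        (by rw [conj_mul, he2, mul_one, mul_inv_cancel]) with h1 | h1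
    · exact Or.inl (mul_mem h1 hfY.1)
    · exact Or.inr (mul_mem h1 hfY.2)
  have hEor : E ≤ D ∨ E ≤ D' := by
    by_contra hc
    push Not at hc
    obtain ⟨a, ha, haD⟩ := SetLike.not_le_iff_exists.mp hc.1
    obtain ⟨b, hb, hbD⟩ := SetLike.not_le_iff_exists.mp hc.2
    have ha' := (hEsub a ha).resolve_left haD
    have hb' := (hEsub b hb).resolve_right hbD
    rcases hEsub _ (mul_mem ha hb) with h1 | h1
    · exact haD ((mul_mem_cancel_right hb').mp h1)
    · exact hbD ((mul_mem_cancel_left ha').mp h1)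
  have hcard : Nat.card E = Nat.card D := card_map_of_injective (MulAut.conj h).injective
  rcases hEor with h1 | h1
  · exact Or.inl ⟨hh, mem_normalizer_fintype fun d hd => h1 ⟨d, hd, rfl⟩⟩
  · refine Or.inr ⟨mul_mem ((S : Subgroup G).inv_mem tw.mem) hh, mem_normalizer_fintype fun d hd => ?_⟩
    have := mem_map_conj.mp (h1 ⟨d, hd, rfl⟩)
    simpa [mul_assoc] using this

end Twin

end CfsgLib.AbelianInt
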