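import Cfsg.Agent.Lib.AbelianInt.Big
import Cfsg.Agent.Lib.AbelianInt.DihFinal

/-!
Simple groups whose Sylow 2-intersections are abelian: the Sylow 2-subgroups are dihedral or of class at most two.

Blueprint: `blueprint/S3186.md`.
-/

set_option autoImplicit false
set_option linter.unusedSectionVars false
set_option linter.style.haveILetI false

namespace CfsgLib.AbelianInt

open Cfsg Subgroup
open scoped commutatorElement

universe u

variable {G : Type u} [Group G] [Finite G]

theorem dihedral_or_class2 [IsSimpleGroup G] (hA : AI G) (hG : ¬ IsMulCommutative G) (S : Sylow 2 G) :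
    (∃ m : ℕ, 2 ≤ m ∧ Nonempty (↥(S : Subgroup G) ≃* DihedralGroup m)) ∨ Class2 S := by
  by_cases hc2 : Class2 S
  · exact Or.inr hc2
  obtain ⟨D, hD⟩ : ∃ D, NN S D := by
    by_contra h
    push Not at h
    exact hc2 (class2_of_normal hA fun D hD => by_contra fun hn => h D ⟨hD, hn⟩)
  have hs : Setting S := ⟨hA, fun E hE => by_contra fun hbig => by
    obtain ⟨g, tw⟩ := hE.1.exists_twin hA hE.2
    exact tw.false_of_big hbig hA hG⟩
  obtain ⟨v, w, u, j, d⟩ := hs.exists_dih hD
  refine Or.inl ⟨2 ^ (j + 2), ?_, d.main hG hc2⟩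
  calc 2 = 2 ^ 1 := rfl
    _ ≤ 2 ^ (j + 2) := Nat.pow_le_pow_right (by norm_num) (by omega)

/-- The form of the statement. -/
theorem dihedral_or_commutator_le [IsSimpleGroup G] (hG : ¬ IsMulCommutative G)
    (hA : ∀ S T : Sylow 2 G, S ≠ T → IsMulCommutative ↥((S : Subgroup G) ⊓ (T : Subgroup G))) (S : Sylow 2 G) :
    (∃ m : ℕ, 2 ≤ m ∧ Nonempty (↥(S : Subgroup G) ≃* DihedralGroup m)) ∨
      commutator ↥(S : Subgroup G) ≤ Subgroup.center ↥(S : Subgroup G) := by
  refine (dihedral_or_class2 (ai_of_hyp hA) hG S).imp id fun h => ?_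
  rw [_root_.commutator_def, commutator_le]
  intro a _ b _
  exact mem_center_iff.mpr fun c => Subtype.ext (h a a.2 b b.2 c c.2)

end CfsgLib.AbelianInt
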