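import Cfsg.Agent.Lib.AbelianInt.Small

/-!
Index two: the automizer of `D` has three Sylow 2-subgroups; the conjugates of the distinguished commutator `u` are
`u`, `r` and `r u`; the part of the centre of `N_S(D)` fixed by all of them has index at most two.

Blueprint: `blueprint/S3186.md`, section 5.
-/

set_option autoImplicit false
set_option linter.unusedSectionVars false
set_option linter.style.haveILetI false

namespace CfsgLib.AbelianInt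

open Cfsg Cfsg.FusionSystem Subgroup
open scoped commutatorElement

universe u

variable {G : Type u} [Group G] [Finite G] {S : Sylow 2 G} {D : Subgroup G}

/-- A non-trivial commutator of `N_S(D)` with `D`. -/
def IsU (S : Sylow 2 G) (D : Subgroup G) (w : G) : Prop :=
  ∃ t ∈ normalizerIn (S : Subgroup G) D, t ∉ D ∧ ∃ d ∈ D, d ∉ ctr S D ∧ w = ⁅t, d⁆

/-- A conjugate under `N(D)` of such a commutator, outside the centre of `N_S(D)`. -/
def IsI (S : Sylow 2 G) (D : Subgroup G) (r : G) : Prop :=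
  r ∉ ctr S D ∧ ∃ g ∈ normalizer (D : Set G), ∃ w, IsU S D w ∧ r = g * w * g⁻¹

/-- `x` commutes with all conjugates of `N_S(D)` under `N(D)`. -/
def Fixed (S : Sylow 2 G) (D : Subgroup G) (x : G) : Prop :=
  ∀ h ∈ normalizer (D : Set G), ∀ t ∈ normalizerIn (S : Subgroup G) D, h * t * h⁻¹ * x = x * (h * t * h⁻¹)

theorem comm_of_act {x y d : G} (h : x * d * x⁻¹ = y * d * y⁻¹) : ⁅x, d⁆ = ⁅y, d⁆ := by
  rw [commutatorElement_def, commutatorElement_def, h]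

theorem conj_commutator {g a b : G} : g * ⁅a, b⁆ * g⁻¹ = ⁅g * a * g⁻¹, g * b * g⁻¹⁆ := by
  simp only [commutatorElement_def]; group

theorem IsI.mem (hD : Ess S D) {r : G} (h : IsI S D r) (c : Core S D) : r ∈ D ∧ r * r = 1 := by
  obtain ⟨-, g, hg, w, ⟨t, ht, -, d, hd, -, rfl⟩, rfl⟩ := h
  exact ⟨Ess.conj_mem hg (ctr_le (c.com_mem t ht d hd)), by rw [conj_mul, c.com_sq ht hd, mul_one, mul_inv_cancel]⟩

namespace Core

variable (c : Core S D) (h2 : (ctr S D).relIndex D = 2)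
include c h2

theorem isU_eq {w w' : G} (h : IsU S D w) (h' : IsU S D w') : w = w' := by
  obtain ⟨t, ht, htD, d, hd, hdY, rfl⟩ := h
  obtain ⟨t', ht', htD', d', hd', hdY', rfl⟩ := h'
  exact c.const h2 ht htD ht' htD' hd hdY hd' hdY'

omit h2 in
theorem exists_isU : ∃ w, IsU S D w := by
  obtain ⟨t, ht, htD⟩ := c.ess.exists_outside
  obtain ⟨d, hd, hdY⟩ := c.exists_not_ctr
  exact ⟨_, t, ht, htD, d, hd, hdY, rfl⟩

omit h2 in
theorem isU_props {w : G} (h : IsU S D w) : w ∈ ctr S D ∧ w * w = 1 ∧ w ≠ 1 := by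
  obtain ⟨t, ht, htD, d, hd, hdY, rfl⟩ := h
  exact ⟨c.com_mem t ht d hd, c.com_sq ht hd, c.com_ne_one ht htD hd hdY⟩

omit h2 in
theorem mul_ctr_of_not_mem (h2 : (ctr S D).relIndex D = 2) {a b : G} (ha : a ∈ D) (hb : b ∈ D) (haY : a ∉ ctr S D)
    (hbY : b ∉ ctr S D) : a * b ∈ ctr S D := by
  have h := mul_mem_iff_of_index_two (h2 : ((ctr S D).subgroupOf D).index = 2) (a := ⟨a, ha⟩) (b := ⟨b, hb⟩)
  rw [mem_subgroupOf, mem_subgroupOf, mem_subgroupOf] at h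
  exact h.mpr (iff_of_false haY hbY)

omit h2 in
theorem mul_mem_of_not_mem (h2 : (ctr S D).relIndex D = 2) {a b : G} (ha : a ∈ normalizerIn (S : Subgroup G) D)
    (hb : b ∈ normalizerIn (S : Subgroup G) D) (haD : a ∉ D) (hbD : b ∉ D) : a * b ∈ D := by
  have h := mul_mem_iff_of_index_two (c.idx.trans h2 : (D.subgroupOf (normalizerIn (S : Subgroup G) D)).index = 2)
    (a := ⟨a, ha⟩) (b := ⟨b, hb⟩)
  rw [mem_subgroupOf, mem_subgroupOf, mem_subgroupOf] at h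
  exact h.mpr (iff_of_false haD hbD)

/-- The three Sylow subgroups of the automizer. -/
theorem three (hA : AI G) : ∃ g0 ∈ normalizer (D : Set G), ∃ t0 ∈ normalizerIn (S : Subgroup G) D, t0 ∉ D ∧
    (∀ n ∈ normalizer ((S : Subgroup G) : Set G), ∃ x ∈ D, g0 * x * g0⁻¹ ≠ n * x * n⁻¹) ∧
    ∀ h ∈ normalizer (D : Set G), ∃ k ∈ normalizer (D : Set G), (k = 1 ∨ k = g0 ∨ k = t0 * g0) ∧
      ∀ t ∈ normalizerIn (S : Subgroup G) D, ∃ s ∈ normalizerIn (S : Subgroup G) D,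
        ∀ d ∈ D, h * t * h⁻¹ * d * (h * t * h⁻¹)⁻¹ = k * s * k⁻¹ * d * (k * s * k⁻¹)⁻¹ := by
  classical
  haveI : Fact (Nat.Prime 2) := ⟨Nat.prime_two⟩
  have hD := c.ess
  letI := hD.commGroup
  obtain ⟨P, hP, hX⟩ := hD.exists_tiAct hA
  set N := normalizer (D : Set G) with hN
  have hmul : ∀ {a b : G} (ha : a ∈ N) (hb : b ∈ N), toX ha * toX hb = toX (N.mul_mem ha hb) := fun _ _ =>
    (map_mul _ _ _).symm
  have hinv : ∀ {a : G} (ha : a ∈ N), (toX ha)⁻¹ = toX (N.inv_mem ha) := fun _ => (map_inv _ _).symm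
  obtain ⟨g0, hg0, hmv⟩ := hD.moves
  obtain ⟨t0, ht0, ht0D⟩ := hD.exists_outside
  set Q := toX hg0 • P with hQ
  have hQP : Q ≠ P := fun e => by
    have h1 : toX ht0.2 ∈ (Q : Subgroup (autX D)) := e.symm ▸ (hP _).mpr ⟨t0, ht0, rfl⟩
    obtain ⟨s, hs, he⟩ := (hP _).mp (CentralInt.mem_smul.mp h1)
    have h2' : toX (N.mul_mem (N.mul_mem hg0 hs.2) (N.inv_mem hg0)) = toX ht0.2 := by
      rw [← hmul (N.mul_mem hg0 hs.2) (N.inv_mem hg0), ← hmul hg0 hs.2, ← hinv hg0, he]; group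
    obtain ⟨n, hn, hn'⟩ := hD.twist hA hg0 hs.1 ht0 ht0D ((toX_eq_iff _ _).mp h2')
    obtain ⟨x, hx, hne⟩ := hmv n hn
    exact hne (hn' x hx)
  have ha0 : toX ht0.2 ∈ (P : Subgroup (autX D)) := (hP _).mpr ⟨t0, ht0, rfl⟩
  set Q' := toX ht0.2 • Q with hQ'
  have hQ'Q : Q' ≠ Q := fun e => ht0D ((hD.toX_eq_one ht0).mp
    (hX.semiregular (Ne.symm hQP) ha0 (Sylow.smul_eq_iff_mem_normalizer.mp e)))
  have hfixP : toX ht0.2 • P = P := Sylow.smul_eq_iff_mem_normalizer.mpr (Subgroup.le_normalizer ha0)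
  have hQ'P : Q' ≠ P := fun e => hQP (smul_left_cancel (toX ht0.2) (e.trans hfixP.symm))
  refine ⟨g0, hg0, t0, ht0, ht0D, hmv, fun h hh => ?_⟩
  have hcases : toX hh • P = P ∨ toX hh • P = Q ∨ toX hh • P = Q' := by
    by_contra hc
    push Not at hc
    haveI := Fintype.ofFinite (Sylow 2 (autX D))
    have h4 := Finset.card_le_univ ({toX hh • P, P, Q, Q'} : Finset (Sylow 2 (autX D)))
    rw [← Nat.card_eq_fintype_card, c.card_sylow, h2, Finset.card_insert_of_notMem (by simp [hc.1, hc.2.1, hc.2.2]),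
      Finset.card_insert_of_notMem (by simp [hQP.symm, hQ'P.symm]),
      Finset.card_insert_of_notMem (by simp [hQ'Q.symm]), Finset.card_singleton] at h4
    omega
  have key : ∀ {k : G} (hk : k ∈ N), toX hh • P = toX hk • P → ∀ t ∈ normalizerIn (S : Subgroup G) D,
      ∃ s ∈ normalizerIn (S : Subgroup G) D,
        ∀ d ∈ D, h * t * h⁻¹ * d * (h * t * h⁻¹)⁻¹ = k * s * k⁻¹ * d * (k * s * k⁻¹)⁻¹ := by
    intro k hk e t ht
    have h1 : toX hh * toX ht.2 * (toX hh)⁻¹ ∈ ((toX hk • P : Sylow 2 (autX D)) : Subgroup (autX D)) := by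
      rw [← e, CentralInt.mem_smul]
      exact (hP _).mpr ⟨t, ht, by group⟩
    obtain ⟨s, hs, he⟩ := (hP _).mp (CentralInt.mem_smul.mp h1)
    refine ⟨s, hs, (toX_eq_iff (N.mul_mem (N.mul_mem hh ht.2) (N.inv_mem hh))
      (N.mul_mem (N.mul_mem hk hs.2) (N.inv_mem hk))).mp ?_⟩
    rw [← hmul (N.mul_mem hh ht.2) (N.inv_mem hh), ← hmul hh ht.2, ← hinv hh,
      ← hmul (N.mul_mem hk hs.2) (N.inv_mem hk), ← hmul hk hs.2, ← hinv hk, he]
    group
  rcases hcases with e | e | e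
  · exact ⟨1, one_mem _, Or.inl rfl, key (one_mem _) (by rw [e, show toX (one_mem N) = 1 from map_one _, one_smul])⟩
  · exact ⟨g0, hg0, Or.inr (Or.inl rfl), key hg0 e⟩
  · exact ⟨t0 * g0, N.mul_mem ht0.2 hg0, Or.inr (Or.inr rfl),
      key (N.mul_mem ht0.2 hg0) (by rw [e, ← hmul ht0.2 hg0, mul_smul])⟩

/-- The orbit of `u` under `N(D)`. -/
theorem orbit (hA : AI G) : ∃ r, IsI S D r ∧ ∀ h ∈ normalizer (D : Set G), ∀ w, IsU S D w →
    h * w * h⁻¹ = w ∨ h * w * h⁻¹ = r ∨ h * w * h⁻¹ = r * w := by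
  obtain ⟨g0, hg0, t0, ht0, ht0D, hmv, h3⟩ := c.three h2 hA
  obtain ⟨w, hw⟩ := c.exists_isU
  obtain ⟨hwY, hw2, hw1⟩ := c.isU_props hw
  set r := g0 * w * g0⁻¹ with hr
  have hrD : r ∈ D := Ess.conj_mem hg0 (ctr_le hwY)
  have hrY : r ∉ ctr S D := by
    intro hrY
    obtain ⟨t, ht, htD, d, hd, hdY, he⟩ := hw
    refine hdY (c.fix_eq t ht htD d hd ?_)
    refine c.disj g0⁻¹ (inv_mem hg0) (fun n hn => ?_) t ht d hd (fun s hs => ?_)
    · by_contra hall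
      push Not at hall
      obtain ⟨x, hx, hne⟩ := hmv n⁻¹ (inv_mem hn)
      refine hne ?_
      have h1 := hall (g0 * x * g0⁻¹) (Ess.conj_mem hg0 hx)
      calc g0 * x * g0⁻¹ = n⁻¹ * (n * (g0 * x * g0⁻¹) * n⁻¹) * n := by group
        _ = n⁻¹ * (g0⁻¹ * (g0 * x * g0⁻¹) * g0⁻¹⁻¹) * n := by rw [h1]
        _ = n⁻¹ * x * n⁻¹⁻¹ := by group
    · rw [← he]
      have h1 := ctr_comm hrY hs
      rw [hr] at h1
      calc g0⁻¹ * s * g0⁻¹⁻¹ * w = g0⁻¹ * (s * (g0 * w * g0⁻¹)) * g0 := by group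
        _ = g0⁻¹ * (g0 * w * g0⁻¹ * s) * g0 := by rw [h1]
        _ = w * (g0⁻¹ * s * g0⁻¹⁻¹) := by group
  refine ⟨r, ⟨hrY, g0, hg0, w, hw, rfl⟩, fun h hh w' hw' => ?_⟩
  obtain rfl := c.isU_eq h2 hw hw'
  have hrw : t0 * r * t0⁻¹ = r * w := by
    have h1 : ⁅t0, r⁆ = w := c.isU_eq h2 ⟨t0, ht0, ht0D, r, hrD, hrY, rfl⟩ hw
    rw [c.ess.comm r hrD w (ctr_le hwY), ← h1, commutatorElement_def]; group
  obtain ⟨k, hk, hk3, hs'⟩ := h3 h hh
  have hkey : h * w * h⁻¹ = k * w * k⁻¹ := by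
    obtain ⟨t, ht, htD, d, hd, hdY, he⟩ := hw
    obtain ⟨s, hs, hact⟩ := hs' t ht
    set d1 := h * d * h⁻¹ with hd1'
    have hd1 : d1 ∈ D := Ess.conj_mem hh hd
    set d2 := k⁻¹ * d1 * k with hd2'
    have hd2 : d2 ∈ D := (mem_normalizer_iff''.mp hk _).mp hd1
    have e1 : h * w * h⁻¹ = k * ⁅s, d2⁆ * k⁻¹ := by
      rw [he, conj_commutator, comm_of_act (hact d1 hd1), conj_commutator,
        show k * d2 * k⁻¹ = d1 by rw [hd2']; group]
    have hne : ⁅s, d2⁆ ≠ 1 := fun e => hw1 (conj_eq_one_iff.mp (by rw [e1, e, mul_one, mul_inv_cancel]))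
    rw [e1, c.isU_eq h2 (w' := w) ⟨s, hs, fun e => hne (eq_one_of_comm_eq (c.ess.comm s e d2 hd2)), d2, hd2,
      fun e => hne (eq_one_of_comm_eq (ctr_comm e hs)), rfl⟩ ⟨t, ht, htD, d, hd, hdY, he⟩]
  rw [hkey]
  rcases hk3 with rfl | rfl | rfl
  · exact Or.inl (by group)
  · exact Or.inr (Or.inl rfl)
  · exact Or.inr (Or.inr (by rw [← hrw, hr]; group))

theorem exists_isI (hA : AI G) : ∃ r, IsI S D r := (c.orbit h2 hA).imp fun _ h => h.1

theorem isI_eq (hA : AI G) {r r' w : G} (h : IsI S D r) (h' : IsI S D r') (hw : IsU S D w) :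
    r' = r ∨ r' = r * w := by
  obtain ⟨r0, -, h3⟩ := c.orbit h2 hA
  obtain ⟨hwY, hw2, -⟩ := c.isU_props hw
  have key : ∀ {x}, IsI S D x → x = r0 ∨ x = r0 * w := by
    rintro x ⟨hxY, g, hg, w', hw', rfl⟩
    obtain rfl := c.isU_eq h2 hw hw'
    exact (h3 g hg _ hw).resolve_left fun e => hxY (by rw [e]; exact hwY)
  rcases key h with rfl | rfl <;> rcases key h' with rfl | rfl
  · exact Or.inl rfl
  · exact Or.inr rfl
  · exact Or.inr (by rw [mul_assoc, hw2, mul_one])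
  · exact Or.inl rfl

/-- A commutator of `D` with a conjugate of an element of `N_S(D)`. -/
theorem com_conj (hA : AI G) {h t d w : G} (hh : h ∈ normalizer (D : Set G))
    (ht : t ∈ normalizerIn (S : Subgroup G) D) (hd : d ∈ D) (hw : IsU S D w) :
    ⁅h * t * h⁻¹, d⁆ = 1 ∨ ⁅h * t * h⁻¹, d⁆ = w ∨ IsI S D ⁅h * t * h⁻¹, d⁆ := by
  set d1 := h⁻¹ * d * h with hd1'
  have hd1 : d1 ∈ D := (mem_normalizer_iff''.mp hh _).mp hd
  rw [show ⁅h * t * h⁻¹, d⁆ = h * ⁅t, d1⁆ * h⁻¹ by rw [conj_commutator, hd1']; congr 1; group]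
  by_cases hne : ⁅t, d1⁆ = 1
  · exact Or.inl (by rw [hne, mul_one, mul_inv_cancel])
  have hwU : IsU S D ⁅t, d1⁆ := ⟨t, ht, fun e => hne (eq_one_of_comm_eq (c.ess.comm t e d1 hd1)), d1, hd1,
    fun e => hne (eq_one_of_comm_eq (ctr_comm e ht)), rfl⟩
  by_cases hY : h * ⁅t, d1⁆ * h⁻¹ ∈ ctr S D
  swap
  · exact Or.inr (Or.inr ⟨hY, h, hh, _, hwU, rfl⟩)
  refine Or.inr (Or.inl ?_)
  obtain rfl := c.isU_eq h2 hw hwU
  obtain ⟨r, hr, h3⟩ := c.orbit h2 hA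
  rcases h3 h hh _ hw with e | e | e
  · exact e
  · exact absurd (e ▸ hY) hr.1
  · exact absurd ((mul_mem_cancel_right (c.isU_props hw).1).mp (e ▸ hY)) hr.1

/-- The part fixed by all conjugates of `N_S(D)` has index at most two in the centre. -/
theorem fixed_mul (hA : AI G) {a b : G} (ha : a ∈ ctr S D) (hb : b ∈ ctr S D) (haF : ¬ Fixed S D a)
    (hbF : ¬ Fixed S D b) : Fixed S D (a * b) := by
  obtain ⟨g0, hg0, t0, ht0, -, -, h3⟩ := c.three h2 hA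
  have hcomm : ∀ {z x : G}, z * x * z⁻¹ = x → z * x = x * z := fun h => mul_inv_eq_iff_eq_mul.mp h
  have hall : ∀ {x}, x ∈ ctr S D → g0⁻¹ * x * g0 ∈ ctr S D → Fixed S D x := by
    intro x hx hx' h hh t ht
    obtain ⟨k, -, hk3, hs'⟩ := h3 h hh
    obtain ⟨s, hs, hact⟩ := hs' t ht
    refine hcomm ((hact x (ctr_le hx)).trans ?_)
    have h0 : g0 * s * g0⁻¹ * x * (g0 * s * g0⁻¹)⁻¹ = x := by
      calc g0 * s * g0⁻¹ * x * (g0 * s * g0⁻¹)⁻¹ = g0 * (s * (g0⁻¹ * x * g0)) * s⁻¹ * g0⁻¹ := by group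
        _ = g0 * (g0⁻¹ * x * g0 * s) * s⁻¹ * g0⁻¹ := by rw [ctr_comm hx' hs]
        _ = x := by group
    have h1 : ∀ {s'}, s' ∈ normalizerIn (S : Subgroup G) D → s' * x * s'⁻¹ = x := fun hs' => by
      rw [ctr_comm hx hs', mul_inv_cancel_right]
    rcases hk3 with rfl | rfl | rfl
    · rw [one_mul, inv_one, mul_one, h1 hs]
    · exact h0
    · calc t0 * g0 * s * (t0 * g0)⁻¹ * x * (t0 * g0 * s * (t0 * g0)⁻¹)⁻¹
          = t0 * (g0 * s * g0⁻¹ * (t0⁻¹ * x * t0⁻¹⁻¹) * (g0 * s * g0⁻¹)⁻¹) * t0⁻¹ := by group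
        _ = t0 * x * t0⁻¹ := by rw [h1 (inv_mem ht0), h0]
        _ = x := h1 ht0
  refine hall (mul_mem ha hb) ?_
  rw [show g0⁻¹ * (a * b) * g0 = g0⁻¹ * a * g0 * (g0⁻¹ * b * g0) by group]
  exact c.mul_ctr_of_not_mem h2 ((mem_normalizer_iff''.mp hg0 a).mp (ctr_le ha))
    ((mem_normalizer_iff''.mp hg0 b).mp (ctr_le hb)) (fun e => haF (hall ha e)) fun e => hbF (hall hb e)

end Core

end CfsgLib.AbelianInt
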