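import Cfsg.Agent.Lib.AbelianInt.Action
import Cfsg.Agent.Lib.AbelianInt.FF

/-!
An `Ess` subgroup with an abelian partner of at least its order normalised by it: the structure of `N_S(D)`.

Blueprint: `blueprint/S3186.md`, section 2.
-/

set_option autoImplicit false
set_option linter.unusedSectionVars false
set_option linter.style.haveILetI false

namespace CfsgLib.AbelianInt

open Cfsg Cfsg.FusionSystem Subgroup
open scoped commutatorElement

universe u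

variable {G : Type u} [Group G] {S : Sylow 2 G} {D D' : Subgroup G}

/-- The centre of `N_S(D)`, inside `D`. -/
def ctr (S : Sylow 2 G) (D : Subgroup G) : Subgroup G :=
  D ⊓ centralizer (normalizerIn (S : Subgroup G) D : Set G)

theorem mem_ctr {x : G} : x ∈ ctr S D ↔ x ∈ D ∧ ∀ t ∈ normalizerIn (S : Subgroup G) D, t * x = x * t := by
  rw [ctr, mem_inf, mem_centralizer_iff]
  rfl

variable [Finite G]

/-- The structure of `N_S(D)` around `D`. -/
structure Core (S : Sylow 2 G) (D : Subgroup G) : Prop where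
  ess : Ess S D
  com_mem : ∀ t ∈ normalizerIn (S : Subgroup G) D, ∀ d ∈ D, ⁅t, d⁆ ∈ ctr S D
  fix_eq : ∀ t ∈ normalizerIn (S : Subgroup G) D, t ∉ D → ∀ d ∈ D, t * d = d * t → d ∈ ctr S D
  inv_part : ∀ d ∈ D, ∃ e ∈ D, ∃ f ∈ ctr S D, e * e = 1 ∧ d = e * f
  sq_mem : ∀ t ∈ normalizerIn (S : Subgroup G) D, t * t ∈ D
  no_sq : ∀ t ∈ normalizerIn (S : Subgroup G) D, ∀ d ∈ D, ∀ f ∈ ctr S D, ⁅t, d⁆ = f * f → t * d = d * t
  disj : ∀ g ∈ normalizer (D : Set G),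
    (∀ n ∈ normalizer ((S : Subgroup G) : Set G), ∃ x ∈ D, g * x * g⁻¹ ≠ n * x * n⁻¹) →
    ∀ t ∈ normalizerIn (S : Subgroup G) D, ∀ d ∈ D,
      (∀ s ∈ normalizerIn (S : Subgroup G) D, g * s * g⁻¹ * ⁅t, d⁆ = ⁅t, d⁆ * (g * s * g⁻¹)) → t * d = d * t
  idx : D.relIndex (normalizerIn (S : Subgroup G) D) = (ctr S D).relIndex D
  card_sylow : Nat.card (Sylow 2 (autX D)) = (ctr S D).relIndex D + 1

/-- A second abelian subgroup of `N_S(D)`, normal there, its own centraliser and at least as big as `D`. -/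
structure Partner (S : Sylow 2 G) (D D' : Subgroup G) : Prop where
  ess : Ess S D
  ne : D' ≠ D
  le : D' ≤ normalizerIn (S : Subgroup G) D
  norm : ∀ t ∈ normalizerIn (S : Subgroup G) D, ∀ x ∈ D', t * x * t⁻¹ ∈ D'
  comm : ∀ x ∈ D', ∀ y ∈ D', x * y = y * x
  self : ∀ s ∈ normalizerIn (S : Subgroup G) D, (∀ x ∈ D', x * s = s * x) → s ∈ D'
  card_le : Nat.card D ≤ Nat.card D'

/-- What a partner gives. -/
structure PairOut (S : Sylow 2 G) (D D' : Subgroup G) : Prop where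
  core : Core S D
  gen : ∀ t ∈ normalizerIn (S : Subgroup G) D, ∃ d ∈ D, ∃ d' ∈ D', t = d * d'
  inter : D ⊓ D' = ctr S D
  card : Nat.card D = Nat.card D'

theorem Partner.out (hA : AI G) (h : Partner S D D') : PairOut S D D' := by
  haveI : Fact (Nat.Prime 2) := ⟨Nat.prime_two⟩
  have hD := h.ess
  letI := hD.commGroup
  obtain ⟨P, hP, hX⟩ := hD.exists_tiAct hA
  set N := normalizer (D : Set G) with hN
  set T := normalizerIn (S : Subgroup G) D with hT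
  have hB : ∀ {b : G}, b ∈ D' → b ∈ N := fun hb => (h.le hb).2
  have hfix : ∀ d ∈ D, (∀ b ∈ D', b * d = d * b) ↔ d ∈ D' := fun d hd =>
    ⟨fun e => h.self d (hD.le_normalizerIn hd) e, fun e b hb => h.comm b hb d e⟩
  let φ : D' →* autX D := D.normalizerMonoidHom.rangeRestrict.comp (inclusion fun b hb => hB hb)
  have hφ : ∀ (b : G) (hb : b ∈ D'), φ ⟨b, hb⟩ = toX (hB hb) := fun _ _ => rfl
  set A := φ.range with hA'
  have hker : φ.ker = (D ⊓ D').subgroupOf D' := by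
    ext ⟨b, hb⟩
    rw [MonoidHom.mem_ker, hφ, hD.toX_eq_one (h.le hb), mem_subgroupOf, mem_inf]
    exact ⟨fun e => ⟨e, hb⟩, And.left⟩
  have hcardA : Nat.card A = (D ⊓ D').relIndex D' := by
    rw [hA', ← index_ker φ, hker]
    rfl
  have hfixA : fixD (autX D).subtype A = (D ⊓ D').subgroupOf D := by
    ext ⟨d, hd⟩
    rw [mem_fixD, mem_subgroupOf, mem_inf]
    constructor
    · refine fun e => ⟨hd, (hfix d hd).mp fun b hb => ?_⟩
      have := congrArg Subtype.val (e _ ⟨⟨b, hb⟩, rfl⟩)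
      exact mul_inv_eq_iff_eq_mul.mp this
    · rintro ⟨-, hd'⟩ _ ⟨⟨b, hb⟩, rfl⟩
      refine Subtype.ext ?_
      show b * d * b⁻¹ = d
      rw [h.comm b hb d hd', mul_inv_cancel_right]
  have hcomm : ∀ {b d : G}, b ∈ D' → d ∈ D → ⁅b, d⁆ ∈ D ⊓ D' := fun {b d} hb hd => by
    rw [commutatorElement_def]
    refine ⟨mul_mem ((mem_normalizer_iff.mp (hB hb) d).mp hd) (D.inv_mem hd), ?_⟩
    rw [mul_assoc, mul_assoc, ← mul_assoc d]
    exact mul_mem hb (h.norm d (hD.le_normalizerIn hd) _ (D'.inv_mem hb))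
  have hAP : A ≤ (P : Subgroup (autX D)) := by
    rintro _ ⟨⟨b, hb⟩, rfl⟩
    exact (hP _).mpr ⟨b, h.le hb, rfl⟩
  have hlt : ¬ D' ≤ D := fun hle => h.ne (eq_of_le_of_card_ge hle h.card_le)
  have ff := hX.ff (P := P) (A := A) hAP (fun e => hlt fun b hb => (hD.toX_eq_one (h.le hb)).mp (by
      have := (show φ ⟨b, hb⟩ ∈ A from ⟨_, rfl⟩)
      rwa [e, mem_bot] at this))
    (by
      rintro _ ⟨⟨a, ha⟩, rfl⟩ _ ⟨⟨b, hb⟩, rfl⟩ ⟨d, hd⟩
      refine Subtype.ext ?_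
      show b * (a * d * a⁻¹ * d⁻¹) * b⁻¹ = a * d * a⁻¹ * d⁻¹
      have hc := (hcomm ha hd).2
      rw [commutatorElement_def] at hc
      rw [h.comm b hb _ hc, mul_inv_cancel_right])
    (by
      rw [hcardA, hfixA]
      show (D ⊓ D').relIndex D ≤ _
      have h1 := relIndex_mul_relIndex ⊥ (D ⊓ D') D bot_le inf_le_left
      have h2 := relIndex_mul_relIndex ⊥ (D ⊓ D') D' bot_le inf_le_right
      rw [relIndex_bot_left, relIndex_bot_left] at h1 h2
      exact Nat.le_of_mul_le_mul_left (h1 ▸ h2 ▸ h.card_le) Nat.card_pos)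
  have hgen : ∀ t ∈ T, ∃ d ∈ D, ∃ d' ∈ D', t = d * d' := fun t ht => by
    have htA : toX ht.2 ∈ A := by rw [ff.eq]; exact (hP _).mpr ⟨t, ht, rfl⟩
    obtain ⟨⟨b, hb⟩, he⟩ := htA
    refine ⟨t * b⁻¹, (hD.toX_eq_one (T.mul_mem ht (T.inv_mem (h.le hb)))).mp ?_, b, hb, by group⟩
    show D.normalizerMonoidHom.rangeRestrict (⟨t, ht.2⟩ * ⟨b, hB hb⟩⁻¹) = 1
    rw [map_mul, map_inv, mul_inv_eq_one]
    exact he.symm
  have hinter : D ⊓ D' = ctr S D := by
    ext x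
    rw [mem_ctr, mem_inf]
    refine and_congr_right fun hx => ⟨fun hx' t ht => ?_, fun e => (hfix x hx).mp fun b hb => e b (h.le hb)⟩
    obtain ⟨d, hd, b, hb, rfl⟩ := hgen t ht
    rw [mul_assoc, h.comm b hb x hx', ← mul_assoc, hD.comm d hd x hx, mul_assoc]
  have hidx : (ctr S D).relIndex D = Nat.card A := by
    rw [← ff.idx, hfixA, hinter]
    rfl
  have hcard : Nat.card D = Nat.card D' := by
    have h1 := relIndex_mul_relIndex ⊥ (D ⊓ D') D bot_le inf_le_left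
    have h2 := relIndex_mul_relIndex ⊥ (D ⊓ D') D' bot_le inf_le_right
    rw [relIndex_bot_left, relIndex_bot_left] at h1 h2
    rw [← h1, ← h2, ← hcardA, hinter, hidx]
  have hcom : ∀ t ∈ T, ∀ d ∈ D, ⁅t, d⁆ ∈ ctr S D := fun t ht d hd => by
    obtain ⟨c, hc, b, hb, rfl⟩ := hgen t ht
    have h1 := hinter ▸ hcomm hb hd
    have h2 := hcomm hb hd
    rw [commutatorElement_def] at h1 h2 ⊢
    rw [show c * b * d * (c * b)⁻¹ * d⁻¹ = c * (b * d * b⁻¹) * c⁻¹ * d⁻¹ by group,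
      hD.comm c hc _ ((mem_normalizer_iff.mp (hB hb) d).mp hd), mul_inv_cancel_right]
    exact h1
  have hfixY : ∀ (d : G) (hd : d ∈ D), (⟨d, hd⟩ : D) ∈ fixD (autX D).subtype A ↔ d ∈ ctr S D := fun d hd => by
    rw [hfixA, hinter, mem_subgroupOf]
  refine ⟨⟨hD, hcom, fun t ht htD d hd e => ?_, fun d hd => ?_, fun t ht => ?_, fun t ht d hd f hf e => ?_,
    fun g hg hmv t ht d hd e => ?_, ?_, ?_⟩, hgen, hinter, hcard⟩
  · refine (hfixY d hd).mp (ff.fix_eq (toX ht.2) (ff.eq.symm ▸ (hP _).mpr ⟨t, ht, rfl⟩)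
      (fun e' => htD ((hD.toX_eq_one ht).mp e')) _ (Subtype.ext ?_))
    show t * d * t⁻¹ = d
    rw [e, mul_inv_cancel_right]
  · obtain ⟨⟨x, hx⟩, ⟨f, hf⟩, he, hf', heq⟩ := ff.inv_part ⟨d, hd⟩
    exact ⟨x, hx, f, (hfixY f hf).mp hf', congrArg Subtype.val he, congrArg Subtype.val heq⟩
  · refine (hD.toX_eq_one (T.mul_mem ht ht)).mp ?_
    have := ff.elem (toX ht.2) (ff.eq.symm ▸ (hP _).mpr ⟨t, ht, rfl⟩)
    show D.normalizerMonoidHom.rangeRestrict (⟨t, ht.2⟩ * ⟨t, ht.2⟩) = 1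
    rw [map_mul]
    exact this
  · obtain ⟨Q, hQ⟩ := hX.nn P
    have hfD := (mem_ctr.mp hf).1
    have h1 := ff.disj Q hQ (toX ht.2) (ff.eq.symm ▸ (hP _).mpr ⟨t, ht, rfl⟩) ⟨d, hd⟩ ?_
    · exact mul_inv_eq_iff_eq_mul.mp (congrArg Subtype.val h1)
    have hm : mv (autX D).subtype (toX ht.2) ⟨d, hd⟩ = (⟨f, hfD⟩ : D) * ⟨f, hfD⟩ :=
      Subtype.ext (by show t * d * t⁻¹ * d⁻¹ = f * f; rw [← commutatorElement_def]; exact e)
    rw [hm]
    exact fun x hx => ff.sq_fixed _ ((hfixY f hfD).mpr hf) Q x hx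
  · set Q := toX hg • P with hQ
    have hne : Q ≠ P := fun e' => by
      obtain ⟨s, hs, hsD⟩ := hD.exists_outside
      have h1 : toX hs.2 ∈ (Q : Subgroup (autX D)) := e'.symm ▸ (hP _).mpr ⟨s, hs, rfl⟩
      obtain ⟨s', hs', he⟩ := (hP _).mp (CentralInt.mem_smul.mp h1)
      obtain ⟨n, hn, hn'⟩ := hD.twist hA hg hs'.1 hs hsD fun x hx => by
        have := congrArg (fun y : autX D => (toX hg * y * (toX hg)⁻¹ : autX D)) he
        simp only [mul_assoc, mul_inv_cancel_left, mul_inv_cancel, mul_one] at this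
        have := congrArg (fun y : autX D => ((y : MulAut D) ⟨x, hx⟩ : G)) this
        simpa [toX_apply, mul_assoc, MulAut.mul_apply, toX, Subgroup.coe_inv] using this
      obtain ⟨x, hx, hne⟩ := hmv n hn
      exact hne (hn' x hx)
    have h1 := ff.disj Q hne (toX ht.2) (ff.eq.symm ▸ (hP _).mpr ⟨t, ht, rfl⟩) ⟨d, hd⟩ ?_
    · exact mul_inv_eq_iff_eq_mul.mp (congrArg Subtype.val h1)
    intro y hy
    obtain ⟨s, hs, he⟩ := (hP _).mp (CentralInt.mem_smul.mp hy)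
    refine Subtype.ext ?_
    rw [show y = toX hg * toX hs.2 * (toX hg)⁻¹ by rw [he]; group]
    show g * (s * (g⁻¹ * (t * d * t⁻¹ * d⁻¹) * g⁻¹⁻¹) * s⁻¹) * g⁻¹ = t * d * t⁻¹ * d⁻¹
    have h2 := e s hs
    rw [commutatorElement_def] at h2
    calc g * (s * (g⁻¹ * (t * d * t⁻¹ * d⁻¹) * g⁻¹⁻¹) * s⁻¹) * g⁻¹
        = g * s * g⁻¹ * (t * d * t⁻¹ * d⁻¹) * (g * s * g⁻¹)⁻¹ := by group
      _ = _ := by rw [h2, mul_inv_cancel_right]
  · rw [hidx]
    let ψ : T →* autX D := D.normalizerMonoidHom.rangeRestrict.comp (inclusion fun t ht => ht.2)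
    have hr : ψ.range = A := by
      ext x
      rw [ff.eq, hP]
      exact ⟨fun ⟨⟨t, ht⟩, e⟩ => ⟨t, ht, e⟩, fun ⟨t, ht, e⟩ => ⟨⟨t, ht⟩, e⟩⟩
    have hk : ψ.ker = D.subgroupOf T := by
      ext ⟨t, ht⟩
      rw [MonoidHom.mem_ker, mem_subgroupOf]
      exact hD.toX_eq_one ht
    rw [← hr, ← index_ker ψ, hk]
    rfl
  · rw [hidx, ff.card_sylow]

end CfsgLib.AbelianInt
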